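/- S1308, chapter TE part 1: slot PX. -/
import Cfsg.Agent.H28.TESpec

set_option autoImplicit false

open Cfsg Subgroup H14 H98 H1.Gold H31.S2 H14.GC H14.FE H14.NF H28.TE
open scoped commutatorElement

namespace H43.TEPX

universe u

theorem key {G : Type u} [Group G] {a y t : G} (h1 : Commute a ⁅t, y⁻¹⁆) (h2 : Commute y ⁅t, a⁻¹⁆)
    (h3 : Commute ⁅t, a⁻¹⁆ ⁅t, y⁻¹⁆) : ⁅a, y⁆ * t = t * ⁅a, y⁆ := by
  have e1 : a⁻¹ * (y⁻¹ * t⁻¹ * y) * a = t⁻¹ * (⁅t, a⁻¹⁆ * ⁅t, y⁻¹⁆) := by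
    calc a⁻¹ * (y⁻¹ * t⁻¹ * y) * a = a⁻¹ * t⁻¹ * (⁅t, y⁻¹⁆ * a) := by
          simp only [commutatorElement_def]; group
      _ = _ := by rw [← h1.eq]; simp only [commutatorElement_def]; group
  have e2 : y⁻¹ * (a⁻¹ * t⁻¹ * a) * y = t⁻¹ * (⁅t, y⁻¹⁆ * ⁅t, a⁻¹⁆) := by
    calc y⁻¹ * (a⁻¹ * t⁻¹ * a) * y = y⁻¹ * t⁻¹ * (⁅t, a⁻¹⁆ * y) := by
          simp only [commutatorElement_def]; group
      _ = _ := by rw [← h2.eq]; simp only [commutatorElement_def]; group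
  have e : a⁻¹ * (y⁻¹ * t⁻¹ * y) * a = y⁻¹ * (a⁻¹ * t⁻¹ * a) * y := by rw [e1, e2, h3.eq]
  calc ⁅a, y⁆ * t = a * y * (a⁻¹ * (y⁻¹ * t⁻¹ * y) * a)⁻¹ * a⁻¹ * y⁻¹ := by
        rw [commutatorElement_def]; group
    _ = t * ⁅a, y⁆ := by rw [e, commutatorElement_def]; group

theorem jobPX : H28.TE.JobPX.{u} := by
  intro kts kps ars sqs G _ _ Q Q₁ E Q₂ T h Y hY h2 hc
  have kt := kts G Q Q₁ E Q₂ T h
  obtain ⟨R, ar, nR, nF⟩ := ars G Q Q₁ E Q₂ T h Y h2 hY hc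
  have kp := kps G Q Q₁ E Q₂ T h R ar
  have nP : Y ≤ nor (PP E T R) := le_normalizer_inf nR (le_normalizer_normalizer nF)
  have ab : ∀ a ∈ E, ∀ b ∈ E, a * b = b * a := fun a ha b hb =>
    kt.abF a (mem_sup_left ha) b (mem_sup_left hb)
  have cE : PP E T R ≤ cen E := fun y hy => by
    by_cases e : y ∈ E
    · exact fun b hb => ab b hb y e
    · exact (kp.tr y hy e).ce
  have cm : Cm3 T (PP E T R) E := fun t ht y hy => (kp.mem y hy.1).1 hy t ht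
  refine ⟨R, ar, ⟨ar.syl.isPGroup.to_inf_left, le_inf (inf_le_left.trans ar.syl.le) cE, kp.lt, cm,
    fun y hy e => kt.nd y (kp.tr y hy e), fun y hy e => sqs G Q Q₁ E Q₂ T h y (kp.tr y hy e)⟩, nP,
    fun a ha y hy => ?_⟩
  obtain ⟨t, ht, -, -, ⟨t1, -⟩, -⟩ := h.fT
  have m : ⁅a, y⁆ ∈ PP E T R := mul_mem (conj_mem_of_mem_normalizer (nP ha) hy) (inv_mem hy)
  have e1 := hc t ht _ (inv_mem ha)
  have e2 := cm t ht _ (inv_mem hy)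
  exact kp.ct t ht t1 _ m.1 (key (hY ha _ e2).symm (cE hy _ e1).symm (ab _ e1 _ e2))

end H43.TEPX
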