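/- S1308, chapter TE part 1: slot FL. -/
import Cfsg.Agent.H28.TESpec2

set_option autoImplicit false

open Cfsg Subgroup H14 H98 H1.Gold H31.S2 H14.GC H14.FE H14.NF H28.TE
open scoped commutatorElement

namespace H43.TEFL

universe u

variable {G : Type u} [Group G]

theorem cm_mul {E : Subgroup G} {s y y' : G} (hy : y ∈ cen E) (h : ⁅s, y'⁆ ∈ E) :
    ⁅s, y * y'⁆ = ⁅s, y⁆ * ⁅s, y'⁆ := by
  calc ⁅s, y * y'⁆ = ⁅s, y⁆ * (y * ⁅s, y'⁆) * y⁻¹ := by simp only [commutatorElement_def]; group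
    _ = _ := by rw [← hy _ h]; group

theorem cm_inv {E : Subgroup G} {s y : G} (hy : y ∈ cen E) (h : ⁅s, y⁆ ∈ E) :
    ⁅s, y⁻¹⁆ = ⁅s, y⁆⁻¹ := by
  calc ⁅s, y⁻¹⁆ = y⁻¹ * (⁅s, y⁆⁻¹ * y) := by simp only [commutatorElement_def]; group
    _ = _ := by rw [hy _ (inv_mem h)]; group

/-- The transvections with axis `E`, together with the elements that act trivially. -/
def MM (Q E T : Subgroup G) : Subgroup G where
  carrier := {y | y ∈ Q ∧ y ∈ cen E ∧ ∀ s ∈ T, ⁅s, y⁆ ∈ E}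
  one_mem' := ⟨one_mem _, one_mem _, fun s _ => by simp⟩
  mul_mem' := by
    rintro a b ⟨a1, a2, a3⟩ ⟨b1, b2, b3⟩
    refine ⟨mul_mem a1 b1, mul_mem a2 b2, fun s hs => ?_⟩
    rw [cm_mul a2 (b3 s hs)]
    exact mul_mem (a3 s hs) (b3 s hs)
  inv_mem' := by
    rintro a ⟨a1, a2, a3⟩
    refine ⟨inv_mem a1, inv_mem a2, fun s hs => ?_⟩
    rw [cm_inv a2 (a3 s hs)]
    exact inv_mem (a3 s hs)

theorem jobFL : H28.TE.JobFL.{u} := by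
  intro kts sqs G _ _ Q E cl ⟨Q₂, T, col, fw⟩
  have : Fact (Nat.Prime 2) := ⟨Nat.prime_two⟩
  have h := cl Q E Q₂ T col
  have kt := kts G Q Q E Q₂ T h
  have ab : ∀ a ∈ E, ∀ b ∈ E, a * b = b * a := fun a ha b hb =>
    kt.abF a (mem_sup_left ha) b (mem_sup_left hb)
  have c1 : ∀ e ∈ E, ∀ s ∈ T, ⁅s, e⁆ = 1 := fun e he s hs =>
    commutatorElement_eq_one_iff_mul_comm.2 (h.comm e he s hs).symm
  have EM : E ≤ MM Q E T := fun e he => ⟨(h.sE.le he).1, fun b hb => ab b hb e he,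
    fun s hs => by rw [c1 e he s hs]; exact one_mem _⟩
  obtain ⟨Y, hY, EY⟩ := exists_isSyl_le h.sE.isPGroup EM
  have fu : Fu E T Y := fun t ht t1 r hr => by
    obtain ⟨y, hy, ⟨n, hn⟩, h1, h2⟩ := fw t ht t1 r hr
    obtain ⟨g, hg, hl⟩ := hY.exists_cj_le (isPGroup_zpowers hn)
      (zpowers_le.2 (⟨hy.1, hy.2, h1⟩ : y ∈ MM Q E T))
    refine ⟨_, hl (conj_mem_cj (mem_zpowers y)), ?_⟩
    have e := hg.2.2 t ht
    rw [cm_mul (mul_mem hg.2.1 hy.2) ((inv_mem hg).2.2 t ht), cm_mul hg.2.1 (h1 t ht),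
      cm_inv hg.2.1 e, h2, ab _ e r hr, mul_inv_cancel_right]
  obtain ⟨t, ht, -, -, ⟨t1, -⟩, -⟩ := h.fT
  obtain ⟨r, hr, -, -, ⟨r1, -⟩, -⟩ := h.fE
  have nd : ∀ y ∈ Y, y ∉ E → ∀ s ∈ T, s ≠ 1 → ⁅s, y⁆ ≠ 1 := fun y hy hn s hs s1 e =>
    hn (kt.mx y (hY.le hy).1 (hY.le hy).2.1 (isPGroup_iff_forall.1 hY.isPGroup y hy) s hs s1
      (commutatorElement_eq_one_iff_mul_comm.1 e).symm)
  refine ⟨Q, E, Q₂, T, Y, col, ⟨hY.isPGroup, fun y hy => ⟨(hY.le hy).1, (hY.le hy).2.1⟩,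
    lt_of_le_of_ne EY fun e => ?_, fun s hs y hy => (hY.le hy).2.2 s hs, nd, fun y hy hn => ?_⟩, fu⟩
  · obtain ⟨y, hy, k⟩ := fu t ht t1 r hr
    exact r1 (k.symm.trans (c1 y (e ▸ hy) t ht))
  · obtain ⟨y1, y2, y3⟩ := hY.le hy
    refine sqs G Q Q E Q₂ T h y ⟨y1, y2, y3, by_contra fun k => ?_, fun k => ?_⟩
    · refine nd _ (mul_mem hy hy) k t ht t1 ?_
      rw [cm_mul y2 (y3 t ht)]
      exact h.elE _ (y3 t ht)
    · exact nd y hy hn t ht t1 (commutatorElement_eq_one_iff_mul_comm.2 (k t ht))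

end H43.TEFL
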