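import Cfsg.Agent.H67.WAff

/-! Alcoves of the affine Weyl group: fundamental domain, and the alcoves inside `q C`. -/

set_option autoImplicit false
set_option linter.unusedSectionVars false

namespace H43.Alc

open Cfsg.Lie H63 H67 Finset

variable {D : ChevalleyDatum} [RS D]

variable (D) in
/-- An element of the affine Weyl group. -/
@[ext] structure Af where
  w : (wdata D).W
  y : Fin D.rank → ℤ

/-- The value of the root `r` at the image of `a` (level `n`). -/
def val (g : Af D) (n : ℤ) (a : Fin D.rank → ℤ) (r : Rt D) : ℤ := pr a (g.w.1 r) + n * pr g.y r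

/-- Follow `g` by the reflection in the affine root `(β, κ)`. -/
noncomputable def stp (g : Af D) (β : Rt D) (κ : ℤ) : Af D :=
  ⟨g.w * reflW β, g.y - (pr g.y β + κ) • cov β⟩

theorem stp_w (g : Af D) (β : Rt D) (κ : ℤ) (r : Rt D) : (stp g β κ).w.1 r = g.w.1 (refl β r) := rfl

theorem stp_y (g : Af D) (β : Rt D) (κ : ℤ) (r : Rt D) :
    pr (stp g β κ).y r = pr g.y r - (pr g.y β + κ) * D.pairing β r := by
  rw [stp, pr_sub, pr_smul, pr_co]

theorem val_stp (g : Af D) (β : Rt D) (κ n : ℤ) (a : Fin D.rank → ℤ) (r : Rt D) :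
    val (stp g β κ) n a r = val g n a r - (val g n a β + κ * n) * D.pairing β r := by
  rw [val, stp_w, stp_y, (isLin_W g.w).apply_refl, pr_refl, (isLin_W g.w).pairing_apply, val, val]
  ring

theorem stp_stp (g : Af D) (β : Rt D) (κ : ℤ) : stp (stp g β κ) β κ = g := by
  refine Af.ext (Subtype.ext (Equiv.ext fun r => ?_)) ?_
  · rw [stp_w, stp_w, refl_refl]
  · change (stp g β κ).y - _ = _
    rw [stp_y, pairing_self, stp]
    module

theorem exists_val (g : Af D) (n : ℤ) (a : Fin D.rank → ℤ) : ∃ a', ∀ r, pr a' r = val g n a r := by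
  obtain ⟨b, hb⟩ := exists_pr_comp g.w a
  exact ⟨b + n • g.y, fun r => by rw [pr_add, pr_smul, hb, val]⟩

theorem val_neg (g : Af D) (n : ℤ) (a : Fin D.rank → ℤ) (r : Rt D) :
    val g n a (negR r) = - val g n a r := by
  rw [val, (isLin_W g.w).apply_negR, pr_negR, pr_negR, val]; ring

/-- Squared distance to the centre of the alcove. -/
def pot (h : ℤ) (g : Af D) (n : ℤ) (a : Fin D.rank → ℤ) : ℤ :=
  ∑ r, (h * val g n a r - n * ht r) ^ 2

theorem pot_lt {h n κ : ℤ} (hh : 0 < h) (hn : 0 < n) (g : Af D) (a : Fin D.rank → ℤ) {β : Rt D}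
    (h1 : val g n a β + κ * n < 0) (h2 : 0 < ht β + h * κ) : pot h (stp g β κ) n a < pot h g n a := by
  obtain ⟨b, hb⟩ := exists_val g n a
  have e := sum_pr_mul_pairing ((2 * h) • b - n • rho2 D) β
  simp only [pr_sub, pr_smul, hb, pr_rho2] at e
  have e2 : pot h (stp g β κ) n a = pot h g n a - h * (val g n a β + κ * n) *
      (∑ r, (2 * h * val g n a r - n * (2 * ht r)) * D.pairing β r) +
      (h * (val g n a β + κ * n)) ^ 2 * ∑ r : Rt D, D.pairing β r ^ 2 := by
    simp only [pot, val_stp, mul_sum, ← sum_sub_distrib, ← sum_add_distrib]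
    exact sum_congr rfl fun r _ => by ring
  have hS := sum_pairing_sq_pos β
  have := mul_pos (mul_pos (mul_pos hh (neg_pos.2 h1)) (mul_pos hn h2)) hS
  generalize ∑ r : Rt D, D.pairing β r ^ 2 = S at *
  generalize ∑ r, (2 * h * val g n a r - n * (2 * ht r)) * D.pairing β r = T at *
  have e3 : T = (h * val g n a β - n * ht β) * S := by linarith
  rw [e2, e3]
  nlinarith

theorem exists_min (h n : ℤ) (a : Fin D.rank → ℤ) {P : Af D → Prop} {g : Af D} (hg : P g) :
    ∃ g, P g ∧ ∀ g', P g' → ¬ pot h g' n a < pot h g n a := by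
  obtain ⟨g, h1, h2⟩ := (measure fun g : Af D => (pot h g n a).toNat).wf.has_min {g | P g} ⟨g, hg⟩
  refine ⟨g, h1, fun g' hg' hl => h2 g' hg' ?_⟩
  have : 0 ≤ pot h g' n a := sum_nonneg fun _ _ => sq_nonneg _
  change (pot h g' n a).toNat < (pot h g n a).toNat
  omega

variable (D) in
/-- The walls of the fundamental alcove. -/
structure Walls (N : ℕ) where
  al : ℕ → Rt D
  kp : ℕ → ℤ
  h : ℤ
  w0 : ∀ i, 0 ≤ kp i
  w1 : ∀ i, ht (al i) + h * kp i = 1
  w2 : ∀ a n, (∀ i < N, 0 ≤ pr a (al i) + kp i * n) → ∀ r, Pos r → 0 ≤ pr a r ∧ pr a r ≤ n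
  w3 : ∀ i < N, ∀ (γ : Rt D) (m : ℤ), 0 < ht γ + h * m → ht γ + h * m ≤ D.pairing (al i) γ →
    γ = al i ∧ m = kp i
  w4 : ∀ γ : Rt D, ht γ < h

namespace Walls

variable {N : ℕ} (L : Walls D N)

theorem lt (γ : Rt D) : - L.h < ht γ := by
  have := L.w4 (negR γ)
  rw [ht_negR] at this
  omega

theorem pos : 0 < L.h := by
  have := L.w4 (L.al 0)
  have := L.lt (L.al 0)
  omega

theorem gen (γ : Rt D) (m : ℤ) : ht γ + L.h * m ≠ 0 := fun e => by
  have h1 := L.w4 γ
  have h2 := L.lt γ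
  have h3 := L.pos
  have h4 : ht γ ≠ 0 := by
    rcases pos_or_pos_negR γ with p | p
    · exact (pos_iff_ht.1 p).ne'
    · have := pos_iff_ht.1 p
      rw [ht_negR] at this
      omega
  rcases lt_trichotomy m 0 with c | c | c
  · nlinarith
  · subst c; omega
  · nlinarith

theorem val_rho (g : Af D) (r : Rt D) :
    val g (2 * L.h) (rho2 D) r = 2 * (ht (g.w.1 r) + L.h * pr g.y r) := by
  rw [val, pr_rho2]; ring

theorem core {n : ℤ} (hn : 0 < n) {a a' : Fin D.rank → ℤ} {g : Af D}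
    (e : ∀ r, pr a' r = val g n a r) (ha : ∀ r, Pos r → 0 ≤ pr a r ∧ pr a r ≤ n)
    (ha' : ∀ r, Pos r → 0 ≤ pr a' r ∧ pr a' r ≤ n)
    (h0 : ∀ r, Pos r → pr a' r = 0 → 0 < ht (g.w.1 r) + L.h * pr g.y r)
    (h1 : ∀ r, Pos r → pr a' r = n → ht (g.w.1 r) + L.h * pr g.y r < L.h) :
    g.w = 1 ∧ ∀ r, pr g.y r = 0 := by
  have hb : ∀ s, -n ≤ pr a s ∧ pr a s ≤ n := fun s => by
    rcases pos_or_pos_negR s with p | p
    · have := ha s p; omega
    · have := ha _ p
      rw [pr_negR] at this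
      omega
  have hv : ∀ r, Pos r → |pr g.y r| ≤ 1 := fun r p => by
    have e1 := e r
    have e2 := hb (g.w.1 r)
    have e3 := ha' r p
    have e4 := L.w4 (g.w.1 r)
    have e5 := L.lt (g.w.1 r)
    have e6 := L.pos
    rw [val] at e1
    refine abs_le.2 ⟨?_, ?_⟩ <;> by_contra c <;> push Not at c
    · have := h0 r p (by nlinarith)
      nlinarith
    · have := h1 r p (by nlinarith)
      nlinarith
  have hy : ∀ r, pr g.y r = 0 := pr_eq_zero_of_abs_le fun r => by
    rcases pos_or_pos_negR r with p | p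
    · exact hv r p
    · have := hv _ p
      rwa [pr_negR, abs_neg] at this
  refine ⟨(wdata D).eq_one_of_pos fun i => ?_, hy⟩
  by_contra c
  have e1 := ha _ (pos_negR.2 c)
  have e2 := e (simpleR i)
  have e3 := ha' _ (pos_simpleR i)
  rw [pr_negR] at e1
  rw [val, hy] at e2
  have := h0 _ (pos_simpleR i) (by simp only [wdata_p] at e1; omega)
  rw [hy, mul_zero, add_zero] at this
  exact c (pos_iff_ht.2 this)

/-- The closed alcove of level `n`. -/
def In (n : ℤ) (a : Fin D.rank → ℤ) : Prop := ∀ i < N, 0 ≤ pr a (L.al i) + L.kp i * n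

/-- The closed alcove meets each orbit at most once. -/
theorem uniq {n : ℤ} (hn : 0 < n) {a a' : Fin D.rank → ℤ} {g : Af D}
    (e : ∀ r, pr a' r = val g n a r) (ha : L.In n a) (ha' : L.In n a') (r : Rt D) :
    pr a' r = pr a r := by
  obtain ⟨g, e, m⟩ := exists_min L.h (2 * L.h) (rho2 D) (P := fun g => ∀ r, pr a' r = val g n a r) e
  have hp := L.pos
  obtain ⟨h1, h2⟩ := L.core hn e (L.w2 a n ha) (L.w2 a' n ha') (fun r p z => by
    by_contra c
    have := L.gen (g.w.1 r) (pr g.y r)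
    refine m (stp g r 0) (fun s => by rw [val_stp, ← e, ← e, z]; ring)
      (pot_lt hp (by omega) _ _ (by rw [L.val_rho]; omega) ?_)
    simpa using pos_iff_ht.1 p) fun r p z => by
    by_contra c
    have := L.gen (g.w.1 r) (pr g.y r - 1)
    rw [mul_sub] at this
    refine m (stp g (negR r) 1) (fun s => by rw [val_stp, val_neg, ← e, ← e, z]; ring)
      (pot_lt hp (by omega) _ _ (by rw [val_neg, L.val_rho]; omega) ?_)
    have := L.lt (negR r)
    omega
  rw [e, val, h1, h2]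
  simp

theorem exists_in {n : ℤ} (hn : 0 < n) (a : Fin D.rank → ℤ) :
    ∃ g : Af D, ∀ i < N, 0 ≤ val g n a (L.al i) + L.kp i * n := by
  obtain ⟨g, -, m⟩ := exists_min L.h n a (P := fun _ => True) (g := ⟨1, 0⟩) trivial
  refine ⟨g, fun i _ => not_lt.1 fun c => m _ trivial (pot_lt L.pos hn _ _ c ?_)⟩
  rw [L.w1]; exact one_pos

/-- The constant term of the wall number `i` of the alcove of `g`. -/
def K (g : Af D) (i : ℕ) : ℤ := L.kp i + pr g.y (L.al i)

/-- The value of this wall at the centre of the fundamental alcove. -/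
def E (g : Af D) (i : ℕ) : ℤ := ht (g.w.1 (L.al i)) + L.h * L.K g i

/-- The alcove of `g` lies in `q C`. -/
def Valid (q : ℤ) (g : Af D) : Prop :=
  ∃ b, (∀ r, val g (2 * L.h) b r = 2 * ht r) ∧ ∀ j < N, 0 < pr b (L.al j) + 2 * L.h * (q * L.kp j)

/-- The wall number `i` is not a wall of `q C`. -/
def NW (q : ℤ) (g : Af D) (i : ℕ) : Prop :=
  ∀ j < N, g.w.1 (L.al i) = L.al j → L.K g i ≠ q * L.kp j

theorem K_stp (g : Af D) (i j : ℕ) : L.K (stp g (L.al i) (L.kp i)) j =
    L.K g j - D.pairing (L.al i) (L.al j) * L.K g i := by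
  simp only [K, stp_y]; ring

theorem rt_stp (g : Af D) (i j : ℕ) : rt ((stp g (L.al i) (L.kp i)).w.1 (L.al j)) =
    rt (g.w.1 (L.al j)) - D.pairing (L.al i) (L.al j) • rt (g.w.1 (L.al i)) := by
  rw [stp_w, (isLin_W g.w).apply_refl, rt_refl, (isLin_W g.w).pairing_apply]

theorem E_val (g : Af D) (i : ℕ) :
    val g (2 * L.h) (rho2 D) (L.al i) + L.kp i * (2 * L.h) = 2 * L.E g i := by
  rw [L.val_rho, E, K]; ring

theorem E_stp (g : Af D) (i j : ℕ) : L.E (stp g (L.al i) (L.kp i)) j =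
    L.E g j - D.pairing (L.al i) (L.al j) * L.E g i := by
  have e := L.E_val (stp g (L.al i) (L.kp i)) j
  rw [val_stp, L.E_val] at e
  have e2 := L.E_val g j
  linarith

variable {q : ℤ}

theorem valid_one (hq : 1 ≤ q) : L.Valid q ⟨1, 0⟩ := by
  refine ⟨rho2 D, fun r => by rw [val, ← pr_rho2]; simp [pr], fun j _ => ?_⟩
  have := mul_nonneg (mul_nonneg L.pos.le (sub_nonneg.2 hq)) (L.w0 j)
  have := L.w1 j
  rw [pr_rho2]
  nlinarith

theorem valid_stp {g : Af D} {i : ℕ} (hi : i < N) (h : L.Valid q g) (nw : L.NW q g i) :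
    L.Valid q (stp g (L.al i) (L.kp i)) := by
  obtain ⟨b, h1, h2⟩ := h
  have e : ∀ r, val g (2 * L.h) (b - (2 : ℤ) • cov (g.w.1 (L.al i))) r =
      2 * ht r - 2 * D.pairing (L.al i) r := fun r => by
    rw [← h1, val, val, pr_sub, pr_smul, pr_co, (isLin_W g.w).pairing_apply]; ring
  refine ⟨b - (2 : ℤ) • cov (g.w.1 (L.al i)), fun r => ?_, fun j hj => ?_⟩
  · rw [val_stp, e, e, pairing_self]
    linear_combination (-2 * D.pairing (L.al i) r) * L.w1 i
  · by_contra c
    obtain ⟨γ, hγ⟩ := g.w.1.surjective (L.al j)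
    have e1 := e γ
    have e2 := h1 γ
    have e3 := h2 j hj
    rw [val, hγ] at e1 e2
    obtain ⟨rfl, e4⟩ := L.w3 i hi γ (q * L.kp j - pr g.y γ) (by nlinarith) (by nlinarith)
    exact nw j hj hγ (by rw [K, ← e4]; ring)

theorem walk (hq : 1 ≤ q) {n : ℤ} (hn : 0 < n) {z : Fin D.rank → ℤ} (hz : L.In (q * n) z) :
    ∃ g, L.Valid q g ∧ ∀ i < N, 0 ≤ val g n z (L.al i) + L.kp i * n := by
  obtain ⟨g, v, m⟩ := exists_min L.h n z (L.valid_one hq)
  refine ⟨g, v, fun i hi => not_lt.1 fun c => m _ (L.valid_stp hi v fun j hj e1 e2 => ?_)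
    (pot_lt L.pos hn _ _ c (by rw [L.w1]; exact one_pos))⟩
  have := hz j hj
  rw [val, e1] at c
  rw [K] at e2
  have e3 : L.kp j * (q * n) = n * pr g.y (L.al i) + L.kp i * n := by linear_combination (-n) * e2
  omega

/-- Reverse search through the alcoves inside `q C`. -/
theorem cover (hq : 1 ≤ q) {P : Af D → Prop} (h0 : ∀ g, g.w = 1 → (∀ r, pr g.y r = 0) → P g)
    (h1 : ∀ g, ∀ i < N, P g → 0 < L.E g i → L.NW q g i →
      (∀ j < i, 0 < L.E (stp g (L.al i) (L.kp i)) j) → P (stp g (L.al i) (L.kp i)))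
    {g : Af D} (v : L.Valid q g) : P g := by
  classical
  by_contra c
  obtain ⟨g, ⟨v, c⟩, m⟩ := exists_min L.h (2 * L.h) (rho2 D)
    (P := fun g => L.Valid q g ∧ ¬ P g) ⟨v, c⟩
  have hp := L.pos
  by_cases d : ∃ i, i < N ∧ L.E g i < 0
  · obtain ⟨hi, hE⟩ := Nat.find_spec d
    have mn := fun j => Nat.find_min d (m := j)
    generalize Nat.find d = i at *
    have v' := L.valid_stp hi v fun j hj e1 e2 => by
      have := mul_nonneg (mul_nonneg hp.le (sub_nonneg.2 hq)) (L.w0 j)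
      have := L.w1 j
      rw [E, e1, e2] at hE
      nlinarith
    have p' : P (stp g (L.al i) (L.kp i)) := by_contra fun c' => m _ ⟨v', c'⟩
      (pot_lt hp (by omega) _ _ (by rw [L.E_val]; omega) (by rw [L.w1]; exact one_pos))
    refine c (stp_stp g (L.al i) (L.kp i) ▸ h1 _ i hi p' (by rw [E_stp, pairing_self]; omega)
      (fun j hj e1 e2 => ?_) fun j hj => ?_)
    · obtain ⟨b, b1, b2⟩ := v
      have e3 := b1 (L.al i)
      have e4 := b2 j hj
      have e5 := L.w1 i
      rw [stp_w, refl_self, (isLin_W g.w).apply_negR] at e1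
      rw [K_stp, pairing_self, K] at e2
      rw [← e1, ← e2, pr_negR] at e4
      rw [val] at e3
      nlinarith
    · rw [stp_stp]
      have := mn j hj
      have := L.gen (g.w.1 (L.al j)) (L.K g j)
      rw [← E] at this
      omega
  · push Not at d
    obtain ⟨a', e⟩ := exists_val g (2 * L.h) (rho2 D)
    obtain ⟨e1, e2⟩ := L.core (by omega) e (fun r p => by
      have := pos_iff_ht.1 p
      have := L.w4 r
      rw [pr_rho2]; omega) (L.w2 _ _ fun i hi => by
        have := d i hi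
        rw [e, L.E_val]; omega) (fun r _ z => by
        have := L.gen (g.w.1 r) (pr g.y r)
        rw [e, L.val_rho] at z; omega) fun r _ z => by
        have := L.gen (g.w.1 r) (pr g.y r - 1)
        rw [mul_sub] at this
        rw [e, L.val_rho] at z; omega
    exact c (h0 g e1 e2)

/-- A point whose `q`-fold is conjugate to it is, up to conjugacy, the fixed point of an alcove
inside `q C`. -/
theorem fixed (hq : 1 ≤ q) {n : ℤ} (hn : 0 < n) {a : Fin D.rank → ℤ} {g0 : Af D}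
    (h : ∀ r, q * pr a r = val g0 n a r) : ∃ (x : Fin D.rank → ℤ) (u g : Af D),
      (∀ r, pr x r = val u n a r) ∧ L.In n x ∧ L.Valid q g ∧ ∀ r, pr x r = val g n (q • x) r := by
  obtain ⟨u, hu⟩ := L.exists_in hn a
  obtain ⟨x, hx⟩ := exists_val u n a
  have ix : L.In n x := fun i hi => hx _ ▸ hu i hi
  obtain ⟨g, v, hg⟩ := L.walk hq hn (z := q • x) fun i hi => by
    have := mul_nonneg (by omega : 0 ≤ q) (ix i hi)
    rw [pr_smul]; linarith
  obtain ⟨x', hx'⟩ := exists_val g n (q • x)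
  obtain ⟨y1, e1⟩ := exists_pr_comp g.w u.y
  obtain ⟨y2, e2⟩ := exists_pr_comp (u.w * g.w) g0.y
  obtain ⟨y3, e3⟩ := exists_pr_comp (u.w⁻¹ * g0.w * u.w * g.w) u.y
  refine ⟨x, u, g, hx, ix, v, fun r => ?_⟩
  rw [← hx', eq_comm]
  refine L.uniq hn (g := ⟨u.w⁻¹ * g0.w * u.w * g.w, q • y1 + y2 - y3 + g.y⟩) (fun s => ?_) ix
    (fun i hi => hx' _ ▸ hg i hi) r
  have e4 := h (u.w.1 (g.w.1 s))
  simp only [hx', val, pr_smul, pr_add, pr_sub, hx, e1, e2, e3, H64.WData.mul_apply,
    H64.WData.apply_inv_apply] at e4 ⊢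
  linear_combination e4

end Walls

end H43.Alc
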