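import Cfsg.Agent.H43.Alc
import Cfsg.Agent.H63.RSE8
import Cfsg.Agent.H63.WWord

/-! The semisimple classes of `E₈(3)`: search through the `3 ^ 8` alcoves inside `3 C`. -/

set_option autoImplicit false
set_option linter.unusedSectionVars false

namespace H43.Alc

open Cfsg.Lie H63 H67 Finset

/-- The simple roots, then the lowest root. -/
noncomputable def al8 (i : ℕ) : Rt chevE8 :=
  if h : i < 8 then simpleR (D := chevE8) ⟨i, h⟩ else ⟨0, by decide⟩

def kp8 (i : ℕ) : ℤ := if i < 8 then 0 else 1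

/-- Code of the extended Cartan matrix: `0, 1, 2` stand for `0, -1, 2`. -/
def cz (i j : ℕ) : ℕ :=
  Nat.mod (Nat.shiftRight 0x24000640006400064000640006500061001200012 (Nat.mul 2 (Nat.add (Nat.mul 9 i) j))) 4

def czv : ℕ → ℤ
  | 0 => 0
  | 1 => -1
  | _ => 2

theorem pair8 : ∀ i < 9, ∀ j < 9, chevE8.pairing (al8 i) (al8 j) = czv (cz i j) := by
  decide +kernel

theorem pair8' {i : ℕ} (hi : i < 9) (γ : Rt chevE8) :
    chevE8.pairing (al8 i) γ = ∑ j : Fin 8, rt γ j * czv (cz i j) := by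
  rw [← pr_co, pr_lin]
  refine sum_congr rfl fun j _ => ?_
  rw [pr_co, ← pair8 i hi j (j.2.trans (by decide)), al8, al8, dif_pos (show (j : ℕ) < 8 from j.2)]

theorem rt_bd : ∀ γ : Rt chevE8, ∀ j : Fin 8, rt (al8 8) j ≤ rt γ j ∧ -6 ≤ rt γ j ∧ rt γ j ≤ 6 := by
  decide +kernel

theorem w3a : ∀ i < 9, ∀ γ : Rt chevE8, γ = al8 i ∨ (∑ j : Fin 8, rt γ j * czv (cz i j) ≤ 1 ∧
    (∑ j : Fin 8, rt γ j * czv (cz i j) ≤ 0 ∨ (ht γ ≠ 1 ∧ ht γ ≠ -29))) := by
  decide +kernel

theorem ht_lt : ∀ γ : Rt chevE8, ht γ < 30 := by decide +kernel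

theorem ht_low : ht (⟨0, by decide⟩ : Rt chevE8) = -29 := by decide +kernel

theorem ht_al8 (i : ℕ) : ht (al8 i) + 30 * kp8 i = 1 := by
  unfold al8 kp8
  split_ifs
  · simp
  · rw [ht_low]; rfl

noncomputable def L8 : Walls chevE8 9 where
  al := al8
  kp := kp8
  h := 30
  w0 i := by unfold kp8; split_ifs <;> decide
  w1 := ht_al8
  w2 a n h r p := by
    have h1 : ∀ j : Fin 8, 0 ≤ pr a (simpleR (D := chevE8) j) := fun j => by
      have := h j (j.2.trans (by decide))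
      rwa [al8, kp8, dif_pos j.2, if_pos j.2, zero_mul, add_zero] at this
    have h2 := h 8 (by decide)
    rw [pr_lin] at h2 ⊢
    refine ⟨sum_nonneg fun j _ => mul_nonneg (p j) (h1 j), ?_⟩
    have : ∑ j, rt r j * pr a (simpleR j) + ∑ j, rt (al8 8) j * pr a (simpleR j) ≤ 0 := by
      rw [← sum_add_distrib]
      refine sum_nonpos fun j _ => ?_
      have := (rt_bd (negR r) j).1
      rw [rt_negR, Pi.neg_apply] at this
      nlinarith [h1 j]
    rw [show kp8 8 = 1 from rfl] at h2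
    omega
  w3 i hi γ m h1 h2 := by
    have h3 := ht_lt γ
    have h4 := ht_lt (negR γ)
    rw [ht_negR] at h4
    rcases w3a i hi γ with rfl | h
    · have := ht_al8 i
      rw [pairing_self] at h2
      exact ⟨rfl, by omega⟩
    · rw [pair8' hi] at h2
      omega
  w4 := ht_lt

/-! ### The search -/

def enc (v : Fin 8 → ℤ) (k : ℤ) : ℤ :=
  v 0 + 16 * v 1 + 256 * v 2 + 4096 * v 3 + 65536 * v 4 + 1048576 * v 5 + 16777216 * v 6 +
    268435456 * v 7 + 4294967296 * k

noncomputable def rt8 (r : Rt chevE8) : Fin 8 → ℤ := rt r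

noncomputable def code (g : Af chevE8) (i : ℕ) : ℕ :=
  (enc (rt8 (g.w.1 (al8 i))) (L8.K g i) % 1043677052928).toNat

def updN (c a b : ℕ) : ℕ :=
  Nat.mod (Nat.add a (Nat.mul (bif Nat.beq c 2 then 1043677052926 else c) b)) 1043677052928

def updZ (c : ℕ) (a b : ℤ) : ℤ :=
  bif Nat.beq c 0 then a else bif Nat.beq c 1 then Int.add a b else Int.sub a (Int.mul 2 b)

def posZ (z : ℤ) : Bool := Int.casesOn z (fun n => Nat.blt 0 n) (fun _ => false)

def smallZ (z : ℤ) : Bool := Int.casesOn z (fun n => Nat.blt n 100) (fun _ => false)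

def forceN (l : List ℕ) : (List ℕ → Bool) → Bool :=
  List.rec (fun f => f []) (fun a _ ih f => force a fun a' => ih fun l' => f (a' :: l')) l

def forceM (l : List (List ℕ)) : (List (List ℕ) → Bool) → Bool :=
  List.rec (fun f => f []) (fun a _ ih f => forceN a fun a' => ih fun l' => f (a' :: l')) l

def dot (l : List ℕ) : List ℕ → ℕ :=
  List.rec (fun _ => 0) (fun a _ ih u => List.rec 0 (fun b u' _ => Nat.add (Nat.mul a b) (ih u')) u) l

def dg (N d : ℕ) : ℕ := Nat.mod (Nat.div N d) 16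

def row (N : ℕ) : List ℕ := [Nat.div N 4294967296, dg N 1, dg N 16, dg N 256, dg N 4096, dg N 65536,
  dg N 1048576, dg N 16777216, dg N 268435456]

def mp {α β : Type} (f : α → β) (l : List α) : List β := List.rec [] (fun a _ ih => f a :: ih) l

def sm (l : List ℕ) : ℕ := List.rec 0 (fun a _ ih => Nat.add a ih) l

def zw {α β : Type} (f : ℕ → α → β) (l : List ℕ) : List α → List β :=
  List.rec (fun _ => []) (fun c _ ih u => List.rec [] (fun a u' _ => f c a :: ih u') u) l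

def allz {α β : Type} (f : α → β → Bool) (l : List α) : List β → Bool :=
  List.rec (fun _ => true) (fun c _ ih u => List.rec true (fun a u' _ => f c a && ih u') u) l

def all3 {α β γ : Type} (f : α → β → γ → Bool) (l : List α) : List β → List γ → Bool :=
  List.rec (fun _ _ => true) (fun c _ ih u v => List.rec true (fun a u' _ =>
    List.rec true (fun b v' _ => f c a b && ih u' v') v) u) l

def sh (H : ℕ) : ℕ := Nat.mod (Nat.add H 2290649224) 1043677052928

def hd (r : List ℕ) : ℕ := List.rec 0 (fun a _ _ => a) r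

def tl (r : List ℕ) : List ℕ := List.rec [] (fun _ d _ => d) r

def it (R : List (List ℕ)) (u : List ℕ) (f : List ℕ → Bool) : Bool :=
  force (Nat.mul 235 (sm u)) fun S => forceN (mp (fun r =>
    Nat.mod (Nat.add (hd r) (Nat.mul 3 (Nat.add (dot (tl r) u) S))) 243) R) f

def th : List ℕ := [2, 3, 4, 6, 5, 4, 3, 2]

def flt (tb : List (ℕ × List (List ℕ))) (u : List ℕ) : Bool :=
  tb.all fun p => Nat.blt p.1 (dot th (mp (fun a => Nat.mod (Nat.mul p.1 a) 27) u))

def fin (tb : List (ℕ × List (List ℕ))) (R : List (List ℕ)) (u : List ℕ) : Bool :=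
  tb.all fun p => forceN (mp (fun a => Nat.mod (Nat.mul p.1 a) 243) u) fun X =>
    Nat.blt p.1 (dot th X) || p.2.elem X ||
      !allz (fun r x => Nat.beq (3 * dot (tl r) X % p.1) ((x + 24 * sm X) % p.1)) R X

def term (tb : List (ℕ × List (List ℕ))) (hs : List ℕ) : Bool :=
  forceN (zw (fun _ => sh) th hs) fun Ns => forceM (mp row Ns) fun R => it R (mp hd R) fun u =>
    it R u fun u => flt tb u || it R u fun u => it R u fun u => fin tb R u

def r9 : List ℕ := [0, 1, 2, 3, 4, 5, 6, 7, 8]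

def wl : List ℕ := [1, 16, 256, 4096, 65536, 1048576, 16777216, 268435456, 12293151694]

def cr : List (List ℕ × List ℕ) := [([2, 0, 1, 0, 0, 0, 0, 0, 0], []), ([0, 2, 0, 1, 0, 0, 0, 0, 0], [0]), ([1, 0, 2, 1, 0, 0, 0, 0, 0], [1, 0]), ([0, 1, 1, 2, 1, 0, 0, 0, 0], [0, 1, 1]), ([0, 0, 0, 1, 2, 1, 0, 0, 0], [0, 0, 0, 1]), ([0, 0, 0, 0, 1, 2, 1, 0, 0], [0, 0, 0, 0, 1]), ([0, 0, 0, 0, 0, 1, 2, 1, 0], [0, 0, 0, 0, 0, 1]), ([0, 0, 0, 0, 0, 0, 1, 2, 1], [0, 0, 0, 0, 0, 0, 1]), ([0, 0, 0, 0, 0, 0, 0, 1, 2], [0, 0, 0, 0, 0, 0, 0, 1])]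

def chk (tb : List (ℕ × List (List ℕ))) (f : ℕ) : List ℕ → List ℤ → Bool :=
  Nat.rec (fun _ _ => false) (fun _ ih hs es => term tb hs && all3 (fun e b c =>
    !(posZ e && allz (fun c a => posZ (updZ c a e)) c.2 es) || (smallZ e && wl.elem b) ||
      forceN (zw (fun c a => updN c a b) c.1 hs) fun hs' =>
        forceL (zw (fun c a => updZ c a e) c.1 es) fun es' => ih hs' es') es hs cr) f

def hs0 : List ℕ := [1, 16, 256, 4096, 65536, 1048576, 16777216, 268435456, 3703217102]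

def es0 : List ℤ := [1, 1, 1, 1, 1, 1, 1, 1, 1]

end H43.Alc
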