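import Cfsg.Agent.H43.AlcE8S

/-! The classes of elements of order dividing 121 or 182 in `E₈(3)`. -/

set_option autoImplicit false

namespace H43.Alc

def cl121 : List (List ℕ) := [[0, 0, 0, 0, 0, 0, 0, 0], [11, 11, 0, 0, 0, 0, 11, 11], [0, 0, 0, 0, 1, 2, 6, 18], [0, 0, 0, 0, 2, 4, 12, 23], [0, 0, 0, 0, 5, 9, 1, 27], [1, 2, 5, 1, 1, 2, 15, 3], [1, 6, 9, 2, 4, 2, 2, 3], [1, 9, 1, 3, 3, 2, 6, 11], [2, 1, 6, 1, 9, 6, 2, 3], [2, 11, 1, 6, 1, 2, 1, 6], [3, 5, 4, 6, 1, 5, 2, 2], [3, 7, 3, 1, 1, 9, 5, 5], [4, 2, 1, 1, 3, 7, 2, 21], [5, 1, 2, 1, 3, 6, 8, 7], [5, 1, 2, 5, 4, 4, 7, 3], [5, 2, 5, 5, 4, 3, 1, 7], [5, 6, 2, 2, 3, 1, 10, 5], [7, 1, 11, 2, 2, 5, 1, 6], [7, 4, 12, 0, 0, 0, 0, 13], [8, 3, 1, 0, 0, 0, 0, 23], [8, 3, 3,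 2, 9, 1, 4, 1], [8, 17, 0, 0, 0, 0, 7, 14], [9, 3, 1, 1, 1, 3, 9, 13], [9, 8, 3, 1, 3, 1, 6, 11], [10, 1, 1, 3, 5, 3, 1, 3], [10, 14, 5, 0, 0, 0, 0, 16], [11, 5, 3, 1, 2, 1, 1, 8], [12, 6, 4, 3, 2, 1, 1, 12], [14, 0, 7, 0, 0, 0, 10, 15], [14, 1, 1, 2, 1, 5, 1, 2], [15, 2, 2, 4, 2, 5, 5, 2], [16, 6, 2, 0, 0, 0, 0, 17], [18, 6, 2, 1, 0, 0, 0, 0], [21, 2, 1, 3, 2, 7, 2, 3], [27, 1, 9, 3, 2, 0, 0, 0]]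

def cl182 : List (List ℕ) := [[0, 0, 0, 0, 0, 0, 0, 0], [0, 0, 0, 0, 0, 0, 0, 91], [91, 0, 0, 0, 0, 0, 0, 0], [0, 0, 0, 0, 0, 0, 26, 26], [26, 0, 0, 0, 0, 26, 0, 0], [0, 0, 0, 0, 0, 0, 14, 28], [0, 0, 0, 0, 0, 0, 28, 42], [14, 0, 0, 0, 0, 14, 14, 14], [14, 14, 0, 0, 14, 0, 0, 14], [28, 0, 0, 0, 0, 14, 0, 0], [42, 0, 0, 0, 0, 14, 14, 0], [0, 0, 0, 13, 0, 13, 0, 26], [13, 0, 0, 0, 0, 0, 26, 26], [13, 0, 0, 13, 0, 13, 0, 13], [26, 0, 0, 0, 0, 13, 0, 13], [26, 0, 26, 0, 0, 0, 0, 13], [0, 0, 0, 0, 0, 7, 14, 42], [0, 0, 0, 7, 0, 14, 0, 42], [0, 0, 0, 14, 0, 21, 0, 7], [0, 0, 7, 7, 0, 21, 0, 14], [7, 14, 0, 7, 0, 0, 14, 14], [14, 0, 0, 0, 0, 7, 0, 35], [14, 0, 0, 0, 0, 28, 7, 0], [14, 0, 14, 7, 0, 7, 0, 14], [14, 7, 7, 0, 7,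 0, 0, 14], [14, 7, 7, 0, 7, 7, 0, 7], [28, 0, 14, 0, 0, 0, 0, 35], [35, 0, 0, 0, 0, 0, 14, 28], [35, 0, 0, 7, 0, 14, 0, 7], [42, 0, 14, 7, 0, 0, 0, 0], [0, 6, 0, 16, 0, 0, 10, 18], [0, 12, 0, 2, 4, 26, 0, 0], [4, 2, 10, 4, 8, 2, 12, 6], [6, 2, 0, 0, 8, 10, 4, 30], [6, 4, 22, 4, 0, 0, 10, 2], [6, 18, 2, 0, 0, 6, 18, 2], [8, 10, 4, 0, 0, 14, 2, 26], [10, 0, 16, 0, 8, 0, 0, 14], [12, 4, 0, 0, 2, 0, 0, 34], [14, 4, 12, 2, 0, 0, 8, 16], [14, 10, 12, 0, 0, 4, 12, 10], [16, 12, 0, 0, 10, 4, 0, 0], [18, 14, 2, 2, 0, 0, 6, 6], [24, 2, 0, 0, 18, 8, 0, 0], [24, 8, 0, 0, 4, 0, 0, 22], [34, 2, 18, 0, 0, 6, 4, 0], [0, 0, 0, 1, 2, 6, 18, 34], [0, 10, 5, 0, 0, 26, 4, 2], [2, 3, 9, 0, 1, 4, 22, 6], [2, 9, 3, 0, 1, 26, 5, 0], [2, 13, 13,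 0, 5, 6, 2, 6], [3, 12, 0, 13, 1, 0, 9, 4], [5, 2, 0, 13, 10, 0, 0, 16], [6, 2, 0, 0, 1, 0, 17, 34], [6, 14, 6, 2, 2, 13, 0, 5], [7, 8, 0, 4, 0, 13, 4, 22], [10, 1, 3, 0, 9, 4, 12, 14], [10, 11, 5, 0, 8, 0, 11, 14], [11, 0, 0, 2, 4, 12, 2, 34], [14, 0, 8, 0, 11, 0, 5, 10], [14, 8, 0, 0, 11, 0, 13, 10], [16, 0, 6, 1, 2, 13, 0, 5], [16, 4, 8, 2, 5, 0, 7, 14], [18, 0, 2, 1, 6, 16, 0, 0], [22, 8, 4, 0, 0, 17, 0, 7], [22, 12, 0, 0, 4, 13, 0, 11], [24, 0, 2, 5, 6, 8, 7, 0], [25, 6, 0, 1, 2, 14, 4, 8], [26, 9, 1, 0, 3, 2, 0, 0], [30, 9, 3, 0, 1, 10, 8, 6], [34, 3, 17, 0, 1, 6, 2, 1], [34, 4, 2, 0, 0, 12, 8, 11], [34, 6, 0, 0, 2, 12, 4, 13]]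

def tb2 : List (ℕ × List (List ℕ)) := [(121, cl121), (182, cl182)]

theorem chk2 : chk tb2 250 hs0 es0 = true := by decide +kernel

end H43.Alc
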