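/- S3275, chapter U0, section C: slot Fz. -/
import Cfsg.Agent.H98.DP0CSpec
import Cfsg.Agent.H1.CoprimeGen

set_option autoImplicit false

namespace H43.C0Fz

open Subgroup Cfsg H98 H48.DP H57.DPC H48.DP2 H98.DP0C

universe u

theorem jobFz : H98.DP0C.JobFz.{u} := by
  intro G _ _ M Q y z u h hF
  have : Fact (Nat.Prime 3) := ⟨Nat.prime_three⟩
  have : Fact (Nat.Prime 2) := ⟨Nat.prime_two⟩
  obtain ⟨yM, zM, uM⟩ := Bd.mem h
  obtain ⟨yz, uz⟩ := Bd.comm h
  have cyz : Commute y z := yz
  have cuz : Commute u z := uz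
  have hQ2 : IsPGroup 2 Q := by
    rw [← h.o2]
    exact (isPGroup_pCore 2 M).map _
  -- each `y zⁱ`
  have hi : ∀ i : ℕ, Q ⊓ C1 (y * z ^ i) ≤ C1 z := by
    intro i q hq
    have hu : u ^ i ∈ No Q := by rw [h.no]; exact pow_mem uM i
    have h1 : (u ^ i)⁻¹ * q * (u ^ i) ∈ Q ⊓ C1 y := by
      refine ⟨?_, ?_⟩
      · have := (mem_normalizer_iff.1 (inv_mem hu) q).1 hq.1
        simpa using this
      · have k := mem_centralizer_singleton_iff.1 hq.2
        rw [← Bd.conj h] at k
        refine mem_centralizer_singleton_iff.2 ?_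
        calc _ = (u ^ i)⁻¹ * (q * (u ^ i * y * (u ^ i)⁻¹)) * u ^ i := by group
          _ = _ := by rw [k]; group
    have h2 := mem_centralizer_singleton_iff.1 (hF h1)
    have c : u ^ i * z = z * u ^ i := (cuz.pow_left i).eq
    refine mem_centralizer_singleton_iff.2 ?_
    calc q * z = u ^ i * ((u ^ i)⁻¹ * q * (z * u ^ i)) * (u ^ i)⁻¹ := by group
      _ = u ^ i * ((u ^ i)⁻¹ * q * u ^ i * z) * (u ^ i)⁻¹ := by rw [← c]; group
      _ = (u ^ i * z) * (u ^ i)⁻¹ * q := by rw [h2]; group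
      _ = z * q := by rw [c]; group
  set E : Subgroup G := zpowers y ⊔ zpowers z with hE
  have hcomm : IsMulCommutative E := by
    have h1 : E ≤ centralizer (E : Set G) := by
      have a : ∀ x : G, Commute y x → Commute z x → E ≤ C1 x := fun x p q =>
        sup_le (zpowers_le.2 (mem_centralizer_singleton_iff.2 p.eq))
          (zpowers_le.2 (mem_centralizer_singleton_iff.2 q.eq))
      have b : ∀ x : G, Commute y x → Commute z x → x ∈ centralizer (E : Set G) :=
        fun x p q e he => mem_centralizer_singleton_iff.1 (a x p q he)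
      exact sup_le (zpowers_le.2 (b y (Commute.refl y) cyz.symm))
        (zpowers_le.2 (b z cyz (Commute.refl z)))
    exact ⟨⟨fun a b => Subtype.ext (h1 b.2 a a.2)⟩⟩
  have hnc : ¬ IsCyclic E := by
    rintro ⟨g, hg⟩
    have hle : E ≤ zpowers (g : G) := fun e he => by
      obtain ⟨n, hn⟩ := hg ⟨e, he⟩
      exact ⟨n, by simpa using congrArg Subtype.val hn⟩
    rcases nf3 h.y3 h.z3 yz g.2 with k | ⟨i, -, k⟩
    · exact Bd.ny h (zpowers_le.2 k (hle (mem_sup_left (mem_zpowers y))))
    · have h1 : zpowers z ≤ zpowers (y * z ^ i) :=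
        zpowers_le.2 (zpowers_le.2 k (hle (mem_sup_right (mem_zpowers z))))
      have h2 : zpowers z = zpowers (y * z ^ i) :=
        eq_of_le_of_card_ge h1 (by rw [Nat.card_zpowers, Nat.card_zpowers, Bd.ord h, h.z3])
      exact Bd.bad' h i (good_zpow (Bd.good h) (h2 ▸ mem_zpowers _))
  have hEN : E ≤ No Q := by
    rw [h.no]; exact sup_le (zpowers_le.2 yM) (zpowers_le.2 zM)
  have hE3 : IsPGroup 3 E := by
    obtain ⟨P, -, h2, h3, -⟩ := h.syl
    exact P.isPGroup'.to_le (sup_le (zpowers_le.2 h2) (zpowers_le.2 h3))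
  have hcop : (Nat.card E).Coprime (Nat.card Q) :=
    IsPGroup.coprime_card_of_ne 3 2 (by norm_num) E Q hE3 hQ2
  have hQ : Q ≤ C1 z := by
    refine H1.le_of_noncyclic_centralizer_le hnc hEN hcop _ fun e he e1 q hq => ?_
    rcases nf3 h.y3 h.z3 yz he with k | ⟨i, k, -⟩
    · have h1 : zpowers e ≤ zpowers z := zpowers_le.2 k
      have h3 : orderOf e = 3 := by
        have := orderOf_dvd_of_mem_zpowers k
        rw [h.z3] at this
        exact ((Nat.dvd_prime Nat.prime_three).1 this).resolve_left (by simpa using e1)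
      have h2 : zpowers e = zpowers z :=
        eq_of_le_of_card_ge h1 (by rw [Nat.card_zpowers, Nat.card_zpowers, h3, h.z3])
      obtain ⟨n, hn⟩ : z ∈ zpowers e := h2 ▸ mem_zpowers z
      have c : Commute q e := mem_centralizer_singleton_iff.1 hq.2
      refine mem_centralizer_singleton_iff.2 ?_
      rw [← hn]
      exact (c.zpow_right n).eq
    · refine hi i ⟨hq.1, ?_⟩
      obtain ⟨n, hn⟩ := k
      have c : Commute q e := mem_centralizer_singleton_iff.1 hq.2
      refine mem_centralizer_singleton_iff.2 ?_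
      rw [← hn]
      exact (c.zpow_right n).eq
  have hz : z ∈ Q := h.cq fun q hq => mem_centralizer_singleton_iff.1 (hQ hq)
  obtain ⟨k, hk⟩ := hQ2 ⟨z, hz⟩
  have h1 : z ^ 2 ^ k = 1 := by simpa using congrArg Subtype.val hk
  have h2 := orderOf_dvd_of_pow_eq_one h1
  rw [h.z3] at h2
  exact absurd (Nat.prime_three.dvd_of_dvd_pow h2) (by norm_num)

end H43.C0Fz
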