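/- C3 tower: homomorphisms from the group `Co` out of relations between nine elements. -/
import Cfsg.Agent.H20.C3Spec

set_option autoImplicit false
set_option linter.unusedSimpArgs false

namespace H43.C3

open H20.C3 Subgroup

/-- the nine root elements -/
def rt : Fin 9 → Co := ![xa 1, xb 1, xd 1, xc 1, xe 1, xf 1, xg 1, xh 1, xz 1]

/-- the nine coordinates -/
def co (u : Co) : Fin 9 → F3 := ![u.a, u.b, u.d, u.c, u.e, u.f, u.g, u.h, u.z]

theorem dec9 (u : Co) : u = rt 3 ^ u.c.val * rt 4 ^ u.e.val * rt 5 ^ u.f.val * rt 6 ^ u.g.val *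
    rt 7 ^ u.h.val * rt 8 ^ u.z.val * (rt 1 ^ u.b.val * rt 0 ^ u.a.val * rt 2 ^ u.d.val) := by
  have h0 : ∀ t : F3, rt 0 ^ t.val = xa t := by decide
  have h1 : ∀ t : F3, rt 1 ^ t.val = xb t := by decide
  have h2 : ∀ t : F3, rt 2 ^ t.val = xd t := by decide
  have h3 : ∀ t : F3, rt 3 ^ t.val = xc t := by decide
  have h4 : ∀ t : F3, rt 4 ^ t.val = xe t := by decide
  have h5 : ∀ t : F3, rt 5 ^ t.val = xf t := by decide
  have h6 : ∀ t : F3, rt 6 ^ t.val = xg t := by decide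
  have h7 : ∀ t : F3, rt 7 ^ t.val = xh t := by decide
  have h8 : ∀ t : F3, rt 8 ^ t.val = xz t := by decide
  rw [h0, h1, h2, h3, h4, h5, h6, h7, h8]
  ext <;> simp [xa, xb, xc, xd, xe, xf, xg, xh, xz]

/-- `E` is generated by the root elements it contains -/
def Rg (E : Subgroup Co) : Prop := ∀ u ∈ E, ∀ i, co u i = 0 ∨ rt i ∈ E

theorem Rg.ind {E : Subgroup Co} (hE : Rg E) {P : Co → Prop} (h1 : P 1)
    (hm : ∀ u ∈ E, ∀ w ∈ E, P u → P w → P (u * w)) (hr : ∀ i, rt i ∈ E → P (rt i)) :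
    ∀ u ∈ E, P u := by
  let K : Submonoid Co :=
    { carrier := {u | u ∈ E ∧ P u}
      one_mem' := ⟨E.one_mem, h1⟩
      mul_mem' := fun {u w} hu hw => ⟨E.mul_mem hu.1 hw.1, hm u hu.1 w hw.1 hu.2 hw.2⟩ }
  intro u hu
  have k : ∀ i, rt i ^ (co u i).val ∈ K := fun i => by
    rcases hE u hu i with h | h
    · rw [h]; exact K.one_mem
    · exact K.pow_mem (show rt i ∈ K from ⟨h, hr i h⟩) _
  have : u ∈ K := by
    rw [dec9 u]
    exact K.mul_mem (K.mul_mem (K.mul_mem (K.mul_mem (K.mul_mem (K.mul_mem (k 3) (k 4)) (k 5)) (k 6))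
      (k 7)) (k 8)) (K.mul_mem (K.mul_mem (k 1) (k 0)) (k 2))
  exact this.2

theorem rg_top : Rg ⊤ := fun _ _ _ => Or.inr trivial

theorem rg_A : Rg sA := fun u hu i => by
  obtain ⟨h1, h2, h3⟩ := hu
  fin_cases i
  exacts [Or.inl h1, Or.inl h2, Or.inl h3, Or.inr ⟨rfl, rfl, rfl⟩, Or.inr ⟨rfl, rfl, rfl⟩,
    Or.inr ⟨rfl, rfl, rfl⟩, Or.inr ⟨rfl, rfl, rfl⟩, Or.inr ⟨rfl, rfl, rfl⟩, Or.inr ⟨rfl, rfl, rfl⟩]

theorem rg_E1 : Rg sE1 := fun u hu i => by
  fin_cases i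
  exacts [Or.inl hu, Or.inr rfl, Or.inr rfl, Or.inr rfl, Or.inr rfl, Or.inr rfl, Or.inr rfl, Or.inr rfl,
    Or.inr rfl]

theorem rg_E2 : Rg sE2 := fun u hu i => by
  fin_cases i
  exacts [Or.inr rfl, Or.inl hu, Or.inr rfl, Or.inr rfl, Or.inr rfl, Or.inr rfl, Or.inr rfl, Or.inr rfl,
    Or.inr rfl]

theorem rg_E3 : Rg sE3 := fun u hu i => by
  fin_cases i
  exacts [Or.inr rfl, Or.inr rfl, Or.inr rfl, Or.inl hu, Or.inr rfl, Or.inr rfl, Or.inr rfl, Or.inr rfl,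
    Or.inr rfl]

variable {Γ : Type*} [Group Γ]

/-- the image of the part in `A` -/
def jv (x : Fin 9 → Γ) (u : Co) : Γ :=
  x 3 ^ u.c.val * x 4 ^ u.e.val * x 5 ^ u.f.val * x 6 ^ u.g.val * x 7 ^ u.h.val * x 8 ^ u.z.val

/-- the image of the part in `U` -/
def uv (x : Fin 9 → Γ) (u : Co) : Γ := x 1 ^ u.b.val * x 0 ^ u.a.val * x 2 ^ u.d.val

/-- the normal form -/
def io (x : Fin 9 → Γ) (u : Co) : Γ := jv x u * uv x u

/-- the relations -/
structure Rel (x : Fin 9 → Γ) : Prop where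
  cube : ∀ i, x i ^ 3 = 1
  cj : ∀ i j, x i * x j = io x (rt i * rt j * (rt i)⁻¹) * x i

theorem v0 : (0 : F3).val = 0 := rfl
theorem v1 : (1 : F3).val = 1 := rfl

theorem io_rt (x : Fin 9 → Γ) (j : Fin 9) : io x (rt j) = x j := by
  fin_cases j <;> simp [io, jv, uv, rt, xa, xb, xc, xd, xe, xf, xg, xh, xz, v0, v1]

theorem uv_A (x : Fin 9 → Γ) {u : Co} (hu : u ∈ sA) : uv x u = 1 := by
  simp [uv, hu.1, hu.2.1, hu.2.2]

theorem jv_congr (x : Fin 9 → Γ) {u w : Co} (c : u.c = w.c) (e : u.e = w.e) (f : u.f = w.f) (g : u.g = w.g)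
    (h : u.h = w.h) (z : u.z = w.z) : jv x u = jv x w := by
  rw [jv, jv, c, e, f, g, h, z]

theorem cj_A (s : Co) {v : Co} (hv : v ∈ sA) : s * v * s⁻¹ ∈ sA := by
  obtain ⟨h1, h2, h3⟩ := hv
  refine ⟨?_, ?_, ?_⟩ <;> simp [h1, h2, h3]

namespace Rel

variable {x : Fin 9 → Γ} (h : Rel x)
include h

theorem pw (i : Fin 9) (s t : F3) : x i ^ (s + t).val = x i ^ s.val * x i ^ t.val := by
  rw [ZMod.val_add, ← pow_eq_pow_mod _ (h.cube i), pow_add]

theorem comm (i j : Fin 9) (e : rt i * rt j * (rt i)⁻¹ = rt j := by decide) (m n : ℕ) :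
    Commute (x i ^ m) (x j ^ n) := by
  have := h.cj i j
  rw [e, io_rt] at this
  exact (show Commute (x i) (x j) from this).pow_pow m n

theorem jv_mul {u : Co} (hu : u ∈ sA) (w : Co) : jv x (u * w) = jv x u * jv x w := by
  obtain ⟨h1, h2, h3⟩ := hu
  simp only [jv, Co.mul_c, Co.mul_e, Co.mul_f, Co.mul_g, Co.mul_h, Co.mul_z, h1, h2, h3, zero_mul, mul_zero,
    add_zero, ne_eq, OfNat.ofNat_ne_zero, not_false_eq_true, zero_pow, h.pw]
  rw [(h.comm 3 4 (by decide) _ _).mul_mul_mul_comm,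
    ((h.comm 3 5 (by decide) _ _).mul_left (h.comm 4 5 (by decide) _ _)).mul_mul_mul_comm,
    (((h.comm 3 6 (by decide) _ _).mul_left (h.comm 4 6 (by decide) _ _)).mul_left
      (h.comm 5 6 (by decide) _ _)).mul_mul_mul_comm,
    ((((h.comm 3 7 (by decide) _ _).mul_left (h.comm 4 7 (by decide) _ _)).mul_left
      (h.comm 5 7 (by decide) _ _)).mul_left (h.comm 6 7 (by decide) _ _)).mul_mul_mul_comm,
    (((((h.comm 3 8 (by decide) _ _).mul_left (h.comm 4 8 (by decide) _ _)).mul_left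
      (h.comm 5 8 (by decide) _ _)).mul_left (h.comm 6 8 (by decide) _ _)).mul_left
      (h.comm 7 8 (by decide) _ _)).mul_mul_mul_comm]

theorem cj_rt (i : Fin 9) : ∀ v ∈ sA, x i * jv x v * (x i)⁻¹ = jv x (rt i * v * (rt i)⁻¹) := by
  refine rg_A.ind (by simp [jv]) (fun u hu w hw a b => ?_) fun j hj => ?_
  · rw [h.jv_mul hu, ← conj_mul, a, b, ← h.jv_mul (cj_A _ hu), conj_mul]
  · have := h.cj i j
    rw [io, uv_A x (cj_A _ hj), mul_one] at this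
    have e := io_rt x j
    rw [io, uv_A x hj, mul_one] at e
    rw [e, this, mul_inv_cancel_right]

theorem cj_pw (i : Fin 9) (n : ℕ) :
    ∀ v ∈ sA, x i ^ n * jv x v * (x i ^ n)⁻¹ = jv x (rt i ^ n * v * (rt i ^ n)⁻¹) := by
  induction n with
  | zero => simp
  | succ n ih =>
    intro v hv
    have := ih _ (cj_A (rt i) hv)
    rw [← h.cj_rt i v hv] at this
    rw [pow_succ, pow_succ]
    calc _ = x i ^ n * (x i * jv x v * (x i)⁻¹) * (x i ^ n)⁻¹ := by group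
      _ = _ := by rw [this]; congr 1; group

theorem cj_uv (u : Co) {v : Co} (hv : v ∈ sA) :
    uv x u * jv x v * (uv x u)⁻¹ = jv x (uu u.a u.b u.d * v * (uu u.a u.b u.d)⁻¹) := by
  have e : uu u.a u.b u.d = rt 1 ^ u.b.val * rt 0 ^ u.a.val * rt 2 ^ u.d.val := by
    have := dec9 (uu u.a u.b u.d)
    simpa [uu] using this
  have a := h.cj_pw 2 u.d.val v hv
  have b := h.cj_pw 0 u.a.val _ (cj_A (rt 2 ^ u.d.val) hv)
  have c := h.cj_pw 1 u.b.val _ (cj_A (rt 0 ^ u.a.val) (cj_A (rt 2 ^ u.d.val) hv))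
  rw [← b, ← a] at c
  rw [e, uv]
  calc _ = x 1 ^ u.b.val * (x 0 ^ u.a.val * (x 2 ^ u.d.val * jv x v * (x 2 ^ u.d.val)⁻¹) *
        (x 0 ^ u.a.val)⁻¹) * (x 1 ^ u.b.val)⁻¹ := by group
    _ = _ := by rw [c]; congr 1; group

theorem heis (m n : ℕ) : x 0 ^ m * x 1 ^ n = x 1 ^ n * x 0 ^ m * x 2 ^ (m * n) := by
  have e : x 0 * x 1 = x 1 * x 2 * x 0 := by
    have := h.cj 0 1
    rw [show rt 0 * rt 1 * (rt 0)⁻¹ = uu 0 1 1 by decide] at this
    simpa [io, jv, uv, uu, v1] using this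
  have c0 := h.comm 0 2 (by decide)
  have c1 := h.comm 1 2 (by decide)
  have k : ∀ n : ℕ, x 0 * x 1 ^ n = x 1 ^ n * x 2 ^ n * x 0 := fun n => by
    have : x 0 * x 1 * (x 0)⁻¹ = x 1 * x 2 := by rw [e, mul_inv_cancel_right]
    rw [← (show Commute (x 1) (x 2) by simpa using c1 1 1).mul_pow, ← this, conj_pow, inv_mul_cancel_right]
  induction m with
  | zero => simp
  | succ m ih =>
    rw [pow_succ', mul_assoc, ih, ← mul_assoc, ← mul_assoc, k, add_mul, one_mul, add_comm (m * n), pow_add]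
    simp only [mul_assoc]
    congr 1
    rw [← mul_assoc (x 0), ← pow_succ', ← mul_assoc (x 0), ← pow_succ', (c0 (m + 1) n).left_comm]

theorem uv_mul (u w : Co) : uv x (u * w) = uv x u * uv x w := by
  simp only [uv, Co.mul_a, Co.mul_b, Co.mul_d, h.pw]
  rw [ZMod.val_mul, ← pow_eq_pow_mod _ (h.cube 2)]
  have c0 := h.comm 0 2 (by decide)
  have c1 := h.comm 1 2 (by decide)
  have c2 := h.comm 2 2 (by decide)
  have k := h.heis u.a.val w.b.val
  generalize u.a.val * w.b.val = p at k ⊢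
  simp only [mul_assoc] at k ⊢
  congr 1
  rw [(c1 w.b.val u.d.val).symm.left_comm, ← mul_assoc (x 0 ^ u.a.val) (x 1 ^ w.b.val), k]
  simp only [mul_assoc]
  congr 2
  rw [(c0 w.a.val u.d.val).symm.left_comm, (c0 w.a.val p).symm.left_comm, (c2 p _).left_comm,
    (c2 p _).eq]

theorem io_mul (u w : Co) : io x (u * w) = io x u * io x w := by
  have hw : vv w.c w.e w.f w.g w.h w.z ∈ sA := ⟨rfl, rfl, rfl⟩
  have hu : vv u.c u.e u.f u.g u.h u.z ∈ sA := ⟨rfl, rfl, rfl⟩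
  have a := h.cj_uv u hw
  have b := h.jv_mul hu (uu u.a u.b u.d * vv w.c w.e w.f w.g w.h w.z * (uu u.a u.b u.d)⁻¹)
  rw [← a] at b
  have e : jv x (u * w) = jv x (vv u.c u.e u.f u.g u.h u.z *
      (uu u.a u.b u.d * vv w.c w.e w.f w.g w.h w.z * (uu u.a u.b u.d)⁻¹)) := by
    refine jv_congr x ?_ ?_ ?_ ?_ ?_ ?_ <;> simp [vv, uu] <;> ring
  rw [io, e, b, h.uv_mul, io, io]
  show jv x u * (uv x u * jv x w * (uv x u)⁻¹) * _ = _
  group

/-- the homomorphism -/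
def hom : Co →* Γ := MonoidHom.mk' (io x) h.io_mul

theorem hom_apply (u : Co) : h.hom u = io x u := rfl

theorem hom_rt (i : Fin 9) : h.hom (rt i) = x i := io_rt x i

end Rel

theorem two_ne : (2 : F3) ≠ 0 := by decide

theorem inj_of_z (ι : Co →* Γ) (hz : ι (xz 1) ≠ 1) : Function.Injective ι := by
  rw [injective_iff_map_eq_one]
  intro u hu
  by_contra hne
  have step : ∀ u s : Co, ι u = 1 → ι (u⁻¹ * s * u * s⁻¹) = 1 := fun u s hu => by simp [hu]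
  have z : ∀ u : Co, ι u = 1 → u ∈ sZ → u = 1 := fun u hu ⟨a, b, d, c, e, f, g, k⟩ => by
    have e1 : u = xz u.z := by ext <;> simp [xz, *]
    rcases tri u.z with t | t | t
    · rw [e1, t]; rfl
    · exact absurd (by rw [← t, ← e1, hu]) hz
    · refine absurd ?_ hz
      rw [show xz 1 = u * u by rw [e1, t]; decide, map_mul, hu, one_mul]
  have : Fact (Nat.Prime 3) := ⟨by norm_num⟩
  have hp : IsPGroup 3 ι.ker := pgroup_Co.to_subgroup _
  have hd : 3 ∣ Nat.card ι.ker := by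
    obtain ⟨n, hn⟩ := hp.exists_card_eq
    rw [hn]
    refine dvd_pow_self 3 fun h0 => hne ?_
    rw [h0, pow_zero] at hn
    have := (Subgroup.card_eq_one.1 hn).le (show u ∈ ι.ker from hu)
    exact this
  have hc : IsPGroup 3 (ConjAct Co) := pgroup_Co.of_equiv ConjAct.toConjAct
  obtain ⟨b, hb, hb1⟩ := hc.exists_fixed_point_of_prime_dvd_card_of_fixed_point ι.ker hd
    (a := 1) fun g => smul_one g
  refine hb1 (Subtype.ext (z b b.2 ?_)).symm
  have k : ∀ s : Co, s * b * s⁻¹ = b := fun s => congrArg Subtype.val (hb (ConjAct.toConjAct s))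
  have key : ∀ b : Co, (∀ s : Co, s * b * s⁻¹ = b) → b ∈ sZ := fun b k => by
    have k' : ∀ s : Co, s * b = b * s := fun s => by rw [← mul_inv_eq_iff_eq_mul]; exact k s
    have a1 := congrArg Co.d (k' (xa 1))
    have a2 := congrArg Co.d (k' (xb 1))
    have a3 := congrArg Co.e (k' (xb 1))
    have a4 := congrArg Co.f (k' (xc 1))
    have a5 := congrArg Co.f (k' (xa 1))
    have a6 := congrArg Co.h (k' (xa 1))
    have a7 := congrArg Co.h (k' (xb 1))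
    have a8 := congrArg Co.z (k' (xa 1))
    simp [xa, xb, xc] at a1 a2 a3 a4 a5 a6 a7 a8
    have h2 := two_ne
    simp_all [mem_sZ]
  exact key b k

theorem Rg.conj {E : Subgroup Co} (hE : Rg E) (ι : Co →* Γ) {ν : Co → Co}
    (hν : ∀ u ∈ E, ∀ w ∈ E, ν (u * w) = ν u * ν w) {g : Γ}
    (h : ∀ i, rt i ∈ E → g * ι (rt i) = ι (ν (rt i)) * g) : ∀ u ∈ E, g * ι u * g⁻¹ = ι (ν u) := by
  refine hE.ind ?_ (fun u hu w hw a b => ?_) fun i hi => ?_
  · have := hν 1 E.one_mem 1 E.one_mem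
    rw [mul_one, left_eq_mul] at this
    simp [this]
  · rw [map_mul, ← conj_mul, a, b, hν u hu w hw, map_mul]
  · rw [h i hi, mul_inv_cancel_right]

theorem syl_of [Finite Γ] (ι : Co →* Γ) (hi : Function.Injective ι) (hc : ¬ 3 ^ 10 ∣ Nat.card Γ) :
    ∃ S : Sylow 3 Γ, (S : Subgroup Γ) = ι.range := by
  have : Fact (Nat.Prime 3) := ⟨by norm_num⟩
  have c : Nat.card ι.range = 3 ^ 9 := by
    rw [← card_Co]; exact (Nat.card_congr (MonoidHom.ofInjective hi).toEquiv).symm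
  refine ⟨(IsPGroup.of_card c).toSylow fun ⟨m, hm⟩ => hc ⟨m, ?_⟩, rfl⟩
  rw [← ι.range.card_mul_index, c, hm]; ring

/-- the realization from relations -/
theorem rl_of [Finite Γ] {k : F3} (ι : Co →* Γ) (hz : ι (xz 1) ≠ 1) (hc : ¬ 3 ^ 10 ∣ Nat.card Γ)
    (n1 n2 n3 : Γ) (h1 : ∀ i, i ≠ 0 → n1 * ι (rt i) = ι ((rt i).nu1 k) * n1)
    (h2 : ∀ i, i ≠ 1 → n2 * ι (rt i) = ι (rt i).nu2 * n2)
    (h3 : ∀ i, i ≠ 3 → n3 * ι (rt i) = ι (rt i).nu3 * n3)
    (h4 : n1 * n1 * ι (rt 0) = ι (rt 0) * (n1 * n1))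
    (h5 : n2 * n2 * ι (rt 1) = ι (rt 1) * (n2 * n2)) : Rl k ι := by
  have e1 : ∀ i, (rt i).a = 0 ↔ i ≠ 0 := by decide
  have e2 : ∀ i, (rt i).b = 0 ↔ i ≠ 1 := by decide
  have e3 : ∀ i, (rt i).c = 0 ↔ i ≠ 3 := by decide
  have a1 := rg_E1.conj ι (fun _ hu _ hw => nu1_mul k hu hw) fun i hi => h1 i ((e1 i).1 hi)
  have a2 := rg_E2.conj ι (fun _ hu _ hw => nu2_mul hu hw) fun i hi => h2 i ((e2 i).1 hi)
  have a3 := rg_E3.conj ι (fun _ hu _ hw => nu3_mul hu hw) fun i hi => h3 i ((e3 i).1 hi)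
  refine ⟨inj_of_z ι hz, syl_of ι (inj_of_z ι hz) hc, ⟨n1 * n1, fun u => ?_⟩, ⟨n2 * n2, fun u => ?_⟩,
    ⟨n1, a1⟩, ⟨n2, a2⟩, ⟨n3, a3⟩⟩
  · refine rg_top.conj ι (fun u _ w _ => sd_mul t1 u w) (fun i _ => ?_) u trivial
    by_cases hi : i = 0
    · subst hi; rw [h4, show sd t1 (rt 0) = rt 0 by decide]
    · rw [← nu1_nu1 k ((e1 i).2 hi), ← a1 ((rt i).nu1 k) rfl, ← a1 _ ((e1 i).2 hi)]; group
  · refine rg_top.conj ι (fun u _ w _ => sd_mul t2 u w) (fun i _ => ?_) u trivial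
    by_cases hi : i = 1
    · subst hi; rw [h5, show sd t2 (rt 1) = rt 1 by decide]
    · rw [← nu2_nu2 ((e2 i).2 hi), ← a2 (rt i).nu2 rfl, ← a2 _ ((e2 i).2 hi)]; group

end H43.C3
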