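/- C3 tower: the models inside the symplectic group of degree six. -/
import Cfsg.Agent.H43.C3Lift
import Cfsg.Agent.H54.SpCard

set_option autoImplicit false
set_option linter.unusedSimpArgs false
set_option linter.unnecessarySeqFocus false

namespace H43.C3

open H20.C3 Matrix

/-- the symplectic group -/
abbrev Sp6 : Type := Matrix.symplecticGroup (Fin 3) F3

/-- the unitriangular matrix -/
def mU (u : Co) : Matrix (Fin 3) (Fin 3) F3 := !![1, 0, 0; u.b, 1, 0; u.d, u.a, 1]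
/-- its inverse transpose -/
def mV (u : Co) : Matrix (Fin 3) (Fin 3) F3 := !![1, -u.b, u.a * u.b - u.d; 0, 1, -u.a; 0, 0, 1]
/-- the symmetric matrix -/
def mX (u : Co) : Matrix (Fin 3) (Fin 3) F3 := !![u.c, u.e, u.f; u.e, u.g, u.h; u.f, u.h, u.z]

theorem mU_mul (u w : Co) : mU (u * w) = mU u * mU w := by
  ext i j; fin_cases i <;> fin_cases j <;> simp [mU, mul_apply, Fin.sum_univ_three] <;> ring
theorem mV_mul (u w : Co) : mV (u * w) = mV u * mV w := by
  ext i j; fin_cases i <;> fin_cases j <;> simp [mV, mul_apply, Fin.sum_univ_three] <;> ring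
theorem mX_mul (u w : Co) : mX (u * w) = mX u + mU u * mX w * (mU u)ᵀ := by
  ext i j; fin_cases i <;> fin_cases j <;> simp [mX, mU, mul_apply, Fin.sum_univ_three, vecMul, dotProduct] <;> ring
theorem mUV (u : Co) : (mU u)ᵀ * mV u = 1 := by
  ext i j; fin_cases i <;> fin_cases j <;> simp [mV, mU, mul_apply, Fin.sum_univ_three, vecMul, dotProduct] <;> ring
theorem mX_tr (u : Co) : (mX u)ᵀ = mX u := by
  ext i j; fin_cases i <;> fin_cases j <;> rfl

/-- the matrix of an element -/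
def mat (u : Co) : Matrix (Fin 3 ⊕ Fin 3) (Fin 3 ⊕ Fin 3) F3 := fromBlocks (mU u) (mX u * mV u) 0 (mV u)

theorem mat_mul (u w : Co) : mat (u * w) = mat u * mat w := by
  rw [mat, mat, mat, fromBlocks_multiply, mU_mul, mV_mul, mX_mul, add_mul, mul_assoc _ (mU u)ᵀ,
    ← mul_assoc (mU u)ᵀ, mUV]
  simp [mul_assoc, add_comm]

theorem mat_mem (u : Co) : mat u ∈ Matrix.symplecticGroup (Fin 3) F3 := by
  have a : mV u * (mU u)ᵀ = 1 := mul_eq_one_comm.1 (mUV u)
  have b : mU u * (mV u)ᵀ = 1 := by simpa using congrArg transpose a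
  rw [SymplecticGroup.mem_iff, mat, J, fromBlocks_transpose, fromBlocks_multiply, fromBlocks_multiply]
  simp [mul_assoc, a, ← mul_assoc (mU u), b, mX_tr]

/-- the embedding -/
def ι0 : Co →* Sp6 := MonoidHom.mk' (fun u => ⟨mat u, mat_mem u⟩) fun u w => Subtype.ext (mat_mul u w)

/-- Weyl element -/
def w1 : Sp6 := ⟨fromBlocks !![1, 0, 0; 0, 0, -1; 0, 1, 0] 0 0 !![1, 0, 0; 0, 0, -1; 0, 1, 0],
  SymplecticGroup.mem_iff.2 (by decide +kernel)⟩
/-- Weyl element -/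
def w2 : Sp6 := ⟨fromBlocks !![0, -1, 0; 1, 0, 0; 0, 0, 1] 0 0 !![0, -1, 0; 1, 0, 0; 0, 0, 1],
  SymplecticGroup.mem_iff.2 (by decide +kernel)⟩
/-- Weyl element -/
def w3 : Sp6 := ⟨fromBlocks !![0, 0, 0; 0, 1, 0; 0, 0, 1] !![1, 0, 0; 0, 0, 0; 0, 0, 0]
  !![-1, 0, 0; 0, 0, 0; 0, 0, 0] !![0, 0, 0; 0, 1, 0; 0, 0, 1],
  SymplecticGroup.mem_iff.2 (by decide +kernel)⟩

theorem card_Sp6 : Nat.card Sp6 = 9170703360 := by
  rw [H54.card_sp, Nat.card_zmod, Fintype.card_fin]; decide +kernel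

instance fin_Sp6 : Finite Sp6 := Nat.finite_of_card_ne_zero (by rw [card_Sp6]; norm_num)

theorem rl0 : Rl 0 ι0 := by
  have h1 : ∀ i, i ≠ 0 → w1.1 * mat (rt i) = mat ((rt i).nu1 0) * w1.1 := by decide +kernel
  have h2 : ∀ i, i ≠ 1 → w2.1 * mat (rt i) = mat (rt i).nu2 * w2.1 := by decide +kernel
  have h3 : ∀ i, i ≠ 3 → w3.1 * mat (rt i) = mat (rt i).nu3 * w3.1 := by decide +kernel
  have h4 : w1.1 * w1.1 * mat (rt 0) = mat (rt 0) * (w1.1 * w1.1) := by decide +kernel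
  have h5 : w2.1 * w2.1 * mat (rt 1) = mat (rt 1) * (w2.1 * w2.1) := by decide +kernel
  have hz : mat (xz 1) ≠ 1 := by decide +kernel
  exact rl_of ι0 (fun h => hz (congrArg Subtype.val h)) (by rw [card_Sp6]; norm_num) w1 w2 w3
    (fun i hi => Subtype.ext (h1 i hi)) (fun i hi => Subtype.ext (h2 i hi))
    (fun i hi => Subtype.ext (h3 i hi)) (Subtype.ext h4) (Subtype.ext h5)

theorem not_inv (g : Sp6) : g * ι0 (xz 1) * g⁻¹ ≠ (ι0 (xz 1))⁻¹ := fun h => by
  rw [← map_inv, mul_inv_eq_iff_eq_mul] at h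
  have e : g.1 * mat (xz 1) = mat (xz 1)⁻¹ * g.1 := congrArg Subtype.val h
  have m1 : mat (xz 1) = 1 + single (Sum.inl 2) (Sum.inr 2) 1 := by decide +kernel
  have m2 : mat (xz 1)⁻¹ = 1 - single (Sum.inl 2) (Sum.inr 2) 1 := by decide +kernel
  rw [m1, m2, mul_add, sub_mul, mul_one, one_mul, sub_eq_add_neg, add_right_inj] at e
  have k := fun i => congrFun (congrFun e i) (Sum.inr 2)
  have s := congrFun (congrFun (SymplecticGroup.mem_iff'.1 g.2) (Sum.inl 2)) (Sum.inr 2)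
  have k0 := k (Sum.inl 0)
  have k1 := k (Sum.inl 1)
  have k2 := k (Sum.inl 2)
  have k3 := k (Sum.inr 0)
  have k4 := k (Sum.inr 1)
  have k5 := k (Sum.inr 2)
  simp at k0 k1 k2 k3 k4 k5
  simp [mul_apply, Fintype.sum_sum_type, Fin.sum_univ_three, J, k0, k1, k2, k3, k4, k5, one_apply] at s
  revert s
  generalize g.1 (Sum.inr 2) (Sum.inr 2) = t
  revert t; decide

theorem jobM0 : JobM0 := ⟨Sp6, inferInstance, inferInstance, ι0, rl0, not_inv⟩

/-- the similitude -/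
def mD : Matrix (Fin 3 ⊕ Fin 3) (Fin 3 ⊕ Fin 3) F3 := fromBlocks 1 0 0 (-1)

theorem mD_sq : mD * mD = 1 := by decide +kernel

theorem mD_mem (g : Sp6) : mD * g.1 * mD ∈ Matrix.symplecticGroup (Fin 3) F3 := by
  have t : mDᵀ = mD := by decide +kernel
  have j : mD * J (Fin 3) F3 * mD = -J (Fin 3) F3 := by decide +kernel
  have e := SymplecticGroup.mem_iff.1 g.2
  rw [SymplecticGroup.mem_iff, transpose_mul, transpose_mul, t]
  calc _ = mD * (g.1 * (mD * J (Fin 3) F3 * mD) * g.1ᵀ) * mD := by simp only [mul_assoc]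
    _ = _ := by rw [j, mul_neg, neg_mul, e, mul_neg, neg_mul, j, neg_neg]

theorem mD_mD (g : Matrix (Fin 3 ⊕ Fin 3) (Fin 3 ⊕ Fin 3) F3) : mD * (mD * g * mD) * mD = g := by
  calc _ = mD * mD * g * (mD * mD) := by simp only [mul_assoc]
    _ = _ := by rw [mD_sq, one_mul, mul_one]

/-- the diagonal automorphism -/
def θD : MulAut Sp6 where
  toFun g := ⟨_, mD_mem g⟩
  invFun g := ⟨_, mD_mem g⟩
  left_inv g := Subtype.ext (mD_mD g.1)
  right_inv g := Subtype.ext (mD_mD g.1)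
  map_mul' g k := Subtype.ext (by
    show mD * (g.1 * k.1) * mD = mD * g.1 * mD * (mD * k.1 * mD)
    calc _ = mD * g.1 * (mD * mD) * k.1 * mD := by rw [mD_sq]; simp only [mul_assoc, mul_one]
      _ = _ := by simp only [mul_assoc])

theorem θD_sq : θD ^ 2 = 1 := MulEquiv.ext fun g => Subtype.ext (mD_mD g.1)

theorem θD_ι0 (u : Co) : θD (ι0 u) = ι0 (sd t3 u) := Subtype.ext (by
  show mD * mat u * mD = mat (sd t3 u)
  have a : mU (sd t3 u) = mU u := by simp [mU, sd, t3]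
  have b : mV (sd t3 u) = mV u := by simp [mV, sd, t3]
  have c : mX (sd t3 u) = -mX u := by
    ext i j; fin_cases i <;> fin_cases j <;> simp [mX, sd, t3]
  rw [mat, mat, a, b, c, mD, fromBlocks_multiply, fromBlocks_multiply]
  simp)

/-- the group of similitudes -/
abbrev GSp6 : Type := Sp6 ⋊[(Subgroup.zpowers θD).subtype] Subgroup.zpowers θD

theorem jobM0d : JobM0d := by
  have c : Nat.card GSp6 ∣ 9170703360 * 2 := by
    rw [SemidirectProduct.card, card_Sp6, Nat.card_zpowers]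
    exact Nat.mul_dvd_mul_left _ (orderOf_dvd_of_pow_eq_one θD_sq)
  have : Finite GSp6 := Nat.finite_of_card_ne_zero fun h => by
    rw [h] at c; revert c; norm_num
  have hi : Function.Injective ((SemidirectProduct.inl : Sp6 →* GSp6).comp ι0) :=
    SemidirectProduct.inl_injective.comp rl0.inj
  have k : ∀ {g : Sp6} {u w : Co}, g * ι0 u * g⁻¹ = ι0 w → (SemidirectProduct.inl g : GSp6) *
      (SemidirectProduct.inl.comp ι0) u * (SemidirectProduct.inl g)⁻¹ = (SemidirectProduct.inl.comp ι0) w :=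
    fun h => by simp only [MonoidHom.comp_apply, ← h, map_mul, map_inv]
  obtain ⟨a1, b1⟩ := rl0.t1
  obtain ⟨a2, b2⟩ := rl0.t2
  obtain ⟨a3, b3⟩ := rl0.n1
  obtain ⟨a4, b4⟩ := rl0.n2
  obtain ⟨a5, b5⟩ := rl0.n3
  refine ⟨GSp6, inferInstance, this, _, ⟨hi, syl_of _ hi fun h => ?_, ⟨_, fun u => k (b1 u)⟩,
    ⟨_, fun u => k (b2 u)⟩, ⟨_, fun u hu => k (b3 u hu)⟩, ⟨_, fun u hu => k (b4 u hu)⟩,
    ⟨_, fun u hu => k (b5 u hu)⟩⟩, SemidirectProduct.inr ⟨θD, Subgroup.mem_zpowers _⟩, fun u => ?_⟩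
  · have := h.trans c
    revert this; norm_num
  · rw [MonoidHom.comp_apply, MonoidHom.comp_apply, ← θD_ι0, ← map_inv, ← SemidirectProduct.inl_aut]
    rfl

end H43.C3
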