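/- C3 tower: the model inside `Co0`, and the Sylow 3-subgroups of `Co1`. -/
import Cfsg.Agent.H43.C3Lift
import Cfsg.Agent.H43.C3Pm
import Cfsg.Agent.H77.Simple

set_option autoImplicit false

namespace H43.C3

open H20.C3 H77 Cfsg

/-- the word of the normal form -/
def wd (u : Co) : List ℕ :=
  List.replicate u.d.val 2 ++ (List.replicate u.a.val 0 ++ (List.replicate u.b.val 1 ++
    (List.replicate u.z.val 8 ++ (List.replicate u.h.val 7 ++ (List.replicate u.g.val 6 ++
      (List.replicate u.f.val 5 ++ (List.replicate u.e.val 4 ++ (List.replicate u.c.val 3 ++ []))))))))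

theorem elW_rep (L : List PM) (n i : ℕ) (w : List ℕ) :
    elW L (List.replicate n i ++ w) = elW L w * elI L i ^ n := by
  induction n with
  | zero => simp
  | succ n ih => rw [List.replicate_succ, List.cons_append, elW, ih, pow_succ, mul_assoc]

/-- the nine root elements in `Co0` -/
noncomputable def xL (L : List PM) (i : Fin 9) : Co0 := elI L i

theorem elW_wd (L : List PM) (u : Co) : elW L (wd u) = io (xL L) u := by
  simp only [wd, elW_rep, elW, one_mul, io, jv, uv, mul_assoc]
  rfl

theorem xL_eq (L : List PM) :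
    xL L 0 = elI L 0 ∧ xL L 1 = elI L 1 ∧ xL L 8 = elI L 8 := ⟨rfl, rfl, rfl⟩

theorem ck_cube : ∀ i : Fin 9, eqF (actW LL [i, i, i]) (actW LL []) = true := by decide +kernel

theorem ck_cj : ∀ i j : Fin 9,
    eqF (actW LL [j, i]) (actW LL (i :: wd (rt i * rt j * (rt i)⁻¹))) = true := by decide +kernel

theorem ck_n1 : ∀ i : Fin 9, i ≠ 0 → eqF (actW LL [i, 9]) (actW LL (9 :: wd ((rt i).nu1 1))) = true := by
  decide +kernel

theorem ck_n2 : ∀ i : Fin 9, i ≠ 1 → eqF (actW LL [i, 10]) (actW LL (10 :: wd (rt i).nu2)) = true := by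
  decide +kernel

theorem ck_n3 : ∀ i : Fin 9, i ≠ 3 → eqF (actW LL [i, 11]) (actW LL (11 :: wd (rt i).nu3)) = true := by
  decide +kernel

theorem rel0 : Rel (xL LL) where
  cube i := by
    have := elW_eq inLL (ck_cube i)
    simp only [elW, one_mul] at this
    rw [pow_succ, pow_two]; exact this
  cj i j := by
    have := elW_eq inLL (ck_cj i j)
    simp only [elW, one_mul, elW_wd] at this
    exact this

/-- the projection -/
abbrev pr : Co0 →* Spor.Co1 := QuotientGroup.mk' (Subgroup.center Co0)

instance fin_co1 : Finite Spor.Co1 := Nat.finite_of_card_ne_zero (by rw [card_co1]; norm_num)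

theorem z_ne' : (pr.comp rel0.hom) (xz 1) ≠ 1 := fun h => by
  have hc : rel0.hom (xz 1) ∈ Subgroup.center Co0 := (QuotientGroup.eq_one_iff _).1 h
  have := elW_ne inLL (w := [8, 9]) (w' := [9, 8]) (by decide +kernel)
  simp only [elW, one_mul] at this
  rw [show xz 1 = rt 8 from rfl, Rel.hom_rt, (xL_eq LL).2.2] at hc
  exact this (Subgroup.mem_center_iff.1 hc _)

theorem rl1 : Rl 1 (pr.comp rel0.hom) := by
  refine rl_of _ z_ne' (by rw [card_co1]; norm_num) (pr (elI LL 9)) (pr (elI LL 10)) (pr (elI LL 11))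
    (fun i hi => ?_) (fun i hi => ?_) (fun i hi => ?_) ?_ ?_ <;>
    simp only [MonoidHom.comp_apply, ← map_mul, Rel.hom_rt] <;> refine congrArg pr ?_
  · have := elW_eq inLL (ck_n1 i hi)
    simp only [elW, one_mul, elW_wd] at this
    exact this
  · have := elW_eq inLL (ck_n2 i hi)
    simp only [elW, one_mul, elW_wd] at this
    exact this
  · have := elW_eq inLL (ck_n3 i hi)
    simp only [elW, one_mul, elW_wd] at this
    exact this
  · have := elW_eq inLL (w := [0, 9, 9]) (w' := [9, 9, 0]) (by decide +kernel)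
    simp only [elW, one_mul, mul_assoc, (xL_eq LL).1] at this ⊢
    exact this
  · have := elW_eq inLL (w := [1, 10, 10]) (w' := [10, 10, 1]) (by decide +kernel)
    simp only [elW, one_mul, mul_assoc, (xL_eq LL).2.1] at this ⊢
    exact this

theorem jobM1 : JobM1 := ⟨Spor.Co1, inferInstance, inferInstance, _, rl1⟩

theorem jobSyl : JobSyl := fun T => by
  obtain ⟨S, hS⟩ := rl1.syl
  exact ⟨(T.equiv S).trans ((MulEquiv.subgroupCongr hS).trans (MonoidHom.ofInjective rl1.inj).symm)⟩

end H43.C3
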