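import Cfsg.Agent.H63.CUJ
import Cfsg.Agent.H63.BT
import Cfsg.Agent.H63.Cent
import Cfsg.Agent.H63.AdMat
import Cfsg.Agent.H63.RSE8
import Cfsg.Agent.H67.RGDTop

/-! # Iterated cores of two conjugate maximal parabolic subgroups of E₈(2). -/

set_option autoImplicit false

namespace H43.Core6

open Cfsg Lie H63 H64

section core
variable {G : Type*} [Group G]

/-- The core of `Y` in `M`. -/
def core (M Y : Subgroup G) : Subgroup G := (Y.subgroupOf M).normalCore.map M.subtype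

theorem mem_core {M Y : Subgroup G} {g : G} :
    g ∈ core M Y ↔ g ∈ M ∧ ∀ m ∈ M, m * g * m⁻¹ ∈ Y :=
  ⟨by rintro ⟨y, hy, rfl⟩; exact ⟨y.2, fun m hm => hy ⟨m, hm⟩⟩,
    fun h => ⟨⟨g, h.1⟩, fun m => h.2 m m.2, rfl⟩⟩

theorem conj_mem_core {M Y : Subgroup G} {g m : G} (hm : m ∈ M) (hg : g ∈ core M Y) :
    m * g * m⁻¹ ∈ core M Y := by
  rw [mem_core] at hg ⊢
  refine ⟨mul_mem (mul_mem hm hg.1) (inv_mem hm), fun y hy => ?_⟩
  have := hg.2 _ (mul_mem hy hm)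
  rwa [show y * m * g * (y * m)⁻¹ = y * (m * g * m⁻¹) * y⁻¹ by group] at this

theorem core_le {M Y : Subgroup G} {g : G} (hg : g ∈ core M Y) : g ∈ Y := by
  simpa using (mem_core.1 hg).2 1 M.one_mem

theorem mem_map_conj {n : G} (hn : n * n = 1) {Y : Subgroup G} {g : G} :
    g ∈ Y.map (MulAut.conj n).toMonoidHom ↔ n * g * n⁻¹ ∈ Y := by
  have e : ∀ y : G, n * (n * y * n⁻¹) * n⁻¹ = y := fun y => by
    rw [show n * (n * y * n⁻¹) * n⁻¹ = (n * n) * y * (n * n)⁻¹ by group, hn]; simp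
  exact ⟨by rintro ⟨y, hy, rfl⟩; exact (e y).symm ▸ hy, fun h => ⟨_, h, e g⟩⟩

/-- The descending sequence of cores. -/
def seq (M : Subgroup G) (n : G) : ℕ → Subgroup G
  | 0 => M
  | i + 1 => core M (seq M n i ⊓ (seq M n i).map (MulAut.conj n).toMonoidHom)

theorem map_seq_succ (M : Subgroup G) {n : G} (hn : n * n = 1) (i : ℕ) :
    (seq M n (i + 1)).map (MulAut.conj n).toMonoidHom = core (M.map (MulAut.conj n).toMonoidHom)
      (seq M n i ⊓ (seq M n i).map (MulAut.conj n).toMonoidHom) := by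
  have e : ∀ y : G, n * (n * y * n⁻¹) * n⁻¹ = y := fun y => by
    rw [show n * (n * y * n⁻¹) * n⁻¹ = (n * n) * y * (n * n)⁻¹ by group, hn]; simp
  ext g
  simp only [seq, mem_map_conj hn, mem_core, Subgroup.mem_inf]
  refine and_congr_right fun _ => ⟨fun h m hm => ?_, fun h m hm => ?_⟩
  · have h1 := h _ hm
    rw [show n * m * n⁻¹ * (n * g * n⁻¹) * (n * m * n⁻¹)⁻¹ = n * (m * g * m⁻¹) * n⁻¹ by group,
      e] at h1
    exact h1.symm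
  · have h1 := h (n * m * n⁻¹) (by rwa [e])
    have e2 : n * (m * (n * g * n⁻¹) * m⁻¹) * n⁻¹ = n * m * n⁻¹ * g * (n * m * n⁻¹)⁻¹ := by
      rw [← e g]
      rw [show n * (n * (n * g * n⁻¹) * n⁻¹) * n⁻¹ = n * g * n⁻¹ from e _]
      have : n⁻¹ = n := inv_eq_of_mul_eq_one_right hn
      rw [show n * m * n⁻¹ * (n * (n * g * n⁻¹) * n⁻¹) * (n * m * n⁻¹)⁻¹ =
        n * (m * (n * g * n⁻¹) * m⁻¹) * n⁻¹ by group]
    rw [← e2, e] at h1
    rw [e2] at h1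
    exact ⟨h1.2, e2 ▸ h1.1⟩

end core

section rgd
variable {Φ ι : Type*} {R : WData Φ ι} {G : Type*} [Group G] (T : RGD R G) [Finite Φ]

theorem comm_of_conj {I : Set ι} {i j : ι} (hi : i ∈ I) (hj : j ∉ I) {x : G}
    (hx : T.Cell (R.sW i) x) (h : T.n j * x * (T.n j)⁻¹ ∈ T.PJ I) :
    R.s i * R.s j = R.s j * R.s i := by
  have hp : R.pos (R.s i (R.p j)) :=
    R.s_pos i _ (R.pos_p j) fun e => hj (R.p_inj e ▸ hi)
  have h2 := (hx.n_mul_of_pos (i := j) (by rwa [R.sW_inv])).inv.n_mul j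
  obtain ⟨v, hv, h3⟩ := T.mem_PJ_iff.1 (inv_mem h)
  rw [show (T.n j * x * (T.n j)⁻¹)⁻¹ = T.n j * (T.n j * x)⁻¹ by group] at h3
  rw [mul_inv_rev, R.sW_inv, R.sW_inv] at h2
  rcases h2 with h2 | h2 <;> obtain rfl := h3.unique h2
  · refine (R.conj _ (R.sW i).2 j j ?_)
    by_contra hc
    refine hj (R.p_mem_PhiJ_iff.1 (R.Inv_subset_PhiJ hv ⟨R.pos_p j, ?_⟩))
    rw [R.mul_apply, R.mul_apply, R.sW_val, R.sW_val, R.s_p, R.s_neg, R.s_neg, R.pos_neg, not_not]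
    exact R.s_pos j _ hp hc
  · have := mul_mem (R.sW_mem_WJ hi) hv
    rw [← mul_assoc, R.sW_mul_sW, one_mul] at this
    exact absurd (R.mem_of_sW_mem_WJ this) hj

theorem eq_PJ (hT : T.Gp = ⊤) {K : Subgroup G} (hK : T.B ≤ K) : K = T.PJ {i | T.n i ∈ K} := by
  rw [← H67.cellSubgroup_bnTop T hT]
  refine (H67.eq_cellSubgroup_of_le (P := H67.bnTop T hT) K hK).trans (congrArg _ ?_)
  ext s
  obtain ⟨i, rfl⟩ := (H67.sEq T hT).surjective s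
  exact ⟨fun h => ⟨i, h, rfl⟩, by rintro ⟨j, hj, e⟩; exact e ▸ hj⟩

theorem isCoatom_PJ (hT : T.Gp = ⊤) (k : ι) : IsCoatom (T.PJ {i | i ≠ k}) := by
  refine ⟨fun e => (T.n_mem_PJ_iff.1 (e ▸ trivial : T.n k ∈ T.PJ {i | i ≠ k})) rfl, fun K hK => ?_⟩
  have h1 := eq_PJ T hT ((T.B_le_PJ _).trans hK.le)
  by_cases hk : T.n k ∈ K
  · rw [h1, ← hT, ← T.PJ_univ]
    congr 1
    refine Set.eq_univ_of_forall fun i => ?_
    by_cases e : i = k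
    exacts [e ▸ hk, hK.le (T.n_mem_PJ e)]
  · have h2 : {i | T.n i ∈ K} = {i | i ≠ k} :=
      Set.ext fun i => ⟨fun (h : T.n i ∈ K) (e : i = k) => hk (e ▸ h), fun e => hK.le (T.n_mem_PJ e)⟩
    exact absurd (h2 ▸ h1) hK.ne'

/-- A normal subgroup of `P_J` inside the conjugate of `P_J` by `n_k` lies in `B`. -/
theorem le_B (hT : T.Gp = ⊤)
    (hc : ∀ J : Set ι, J.Nonempty → Jᶜ.Nonempty → ∃ i ∈ J, ∃ j ∉ J, R.s i * R.s j ≠ R.s j * R.s i)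
    (k : ι) {N : Subgroup G} (hN : ∀ m ∈ T.PJ {i | i ≠ k}, ∀ g ∈ N, m * g * m⁻¹ ∈ N)
    (h1 : N ≤ T.PJ {i | i ≠ k}) (h2 : ∀ g ∈ N, T.n k * g * (T.n k)⁻¹ ∈ T.PJ {i | i ≠ k}) :
    N ≤ T.B := by
  have h3 := eq_PJ T hT (le_sup_left : T.B ≤ T.B ⊔ N)
  have h4 : T.B ⊔ N ≤ T.PJ {i | i ≠ k} := sup_le (T.B_le_PJ _) h1
  have hk : k ∉ {i | T.n i ∈ T.B ⊔ N} := fun h => T.n_mem_PJ_iff.1 (h4 h) rfl
  rcases Set.eq_empty_or_nonempty {i | T.n i ∈ T.B ⊔ N} with h0 | h0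
  · rw [h0, T.PJ_empty] at h3
    exact le_sup_right.trans h3.le
  obtain ⟨i, hi, j, hj, h5⟩ := hc _ h0 ⟨k, hk⟩
  have hi' := hi
  rw [Set.mem_ofPred, ← SetLike.mem_coe, Subgroup.coe_mul_of_left_le_normalizer_right _ _
    fun b hb => RGD.mem_normalizer_of_conj (hN b (T.B_le_PJ _ hb))
      (hN _ (T.B_le_PJ _ (inv_mem hb)))] at hi'
  obtain ⟨b, hb, x, hx, e⟩ := hi'
  have h6 : T.Cell (R.sW i) x := by
    have := ((T.act_n i).cell (T.n_mem_N i)).mul_left (inv_mem hb)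
    rwa [← show b * x = T.n i from e, inv_mul_cancel_left] at this
  refine absurd ?_ h5
  by_cases e : j = k
  · exact comm_of_conj T (I := {i | i ≠ k}) (fun e => hk (e ▸ hi)) (fun h => h e) h6 (e ▸ h2 x hx)
  · exact comm_of_conj T hi hj h6 (h3 ▸ Subgroup.mem_sup_right (hN _ (T.n_mem_PJ e) x hx))

end rgd

variable {D : ChevalleyDatum} [RS D] {F : Type*} [Field F] {G : Type*} [Group G] {x : ℕ → F → G}

theorem exists_low (k : Fin D.rank) (r : Rt D) : ∃ w ∈ (H64.wdata D).WJ {i | i ≠ k},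
    rt (w.1 r) k = rt r k ∧ ∀ j, j ≠ k → D.cartan j (w.1 r) ≤ 0 := by
  obtain ⟨w, hw, h⟩ := Set.exists_min_image ((H64.wdata D).WJ {i | i ≠ k} : Set (H64.wdata D).W)
    (fun w => ht (w.1 r)) (Set.toFinite _) ⟨1, one_mem _⟩
  refine ⟨w, hw, rt_apply_of_notMem hw (fun h => h rfl) r, fun j hj => ?_⟩
  have := h _ (mul_mem ((H64.wdata D).sW_mem_WJ (J := {i | i ≠ k}) hj) hw)
  change _ ≤ ht (sref j (w.1 r)) at this
  rw [ht_sref] at this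
  omega

variable (D x) in
/-- The product of the root subgroups of level at least `a`. -/
def lev (k : Fin D.rank) (a : ℕ) : Subgroup G := gen (XR D x) {r | (a : ℤ) + 1 ≤ rt r k}

theorem pos_lev {k : Fin D.rank} {a : ℕ} {r : Rt D} (hr : (a : ℤ) + 1 ≤ rt r k) : Pos r :=
  pos_of_coord_pos (i := k) (by omega)

theorem lev_comb {k : Fin D.rank} {a : ℕ} {r s c : Rt D} (hr : (a : ℤ) + 1 ≤ rt r k) (hs : Pos s)
    {i j : ℤ} (hi : 1 ≤ i) (hj : 1 ≤ j) (h : rt c = i • rt r + j • rt s) : (a : ℤ) + 1 ≤ rt c k := by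
  have := hs k
  rw [h]
  simp only [Pi.add_apply, Pi.smul_apply, smul_eq_mul]
  nlinarith

theorem commUp_lev (h : St D x) (k : Fin D.rank) (a : ℕ) :
    CommUp (XR D x) {r | (a : ℤ) + 1 ≤ rt r k} Fin.val :=
  commUp_of_comb h (fun _ => pos_lev) fun _ hr _ hs _ _ _ => lev_comb hr (pos_lev hs)

variable (h : StB D x)

theorem conj_lev (k : Fin D.rank) (a : ℕ) {m : G} (hm : m ∈ h.rgd.PJ {i | i ≠ k}) {g : G}
    (hg : g ∈ lev D x k a) : m * g * m⁻¹ ∈ lev D x k a := by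
  have h1 : ∀ u ∈ h.rgd.U, ∀ g ∈ lev D x k a, u * g * u⁻¹ ∈ lev D x k a := fun u hu g hg =>
    U_conj_mem h.toSt (fun _ => pos_lev) (fun _ hr _ hs _ _ _ => lev_comb hr hs) hu hg
  have h2 : h.rgd.PJ {i | i ≠ k} ≤ Subgroup.normalizer (lev D x k a : Set G) := by
    refine sup_le (sup_le (fun u hu => RGD.mem_normalizer_of_conj (h1 u hu) (h1 _ (inv_mem hu)))
      (h.rgd.H_le_normalizer_gen _)) ((Subgroup.closure_le _).2 ?_)
    rintro _ ⟨j, hj, rfl⟩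
    have h3 : ∀ r ∈ {r : Rt D | (a : ℤ) + 1 ≤ rt r k},
        ((H64.wdata D).sW j).1 r ∈ {r : Rt D | (a : ℤ) + 1 ≤ rt r k} := fun r hr =>
      hr.out.trans (rt_sref_of_ne r (Ne.symm hj)).ge
    exact RGD.mem_normalizer_of_conj (fun _ => (h.rgd.act_n j).conj_gen h3)
      fun _ => (h.rgd.act_n j).inv.conj_gen (by rwa [WData.sW_inv])
  exact (Subgroup.mem_normalizer_iff.1 (h2 hm) g).1 hg

/-- The support of an element of a normal subgroup of `P_J`. -/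
theorem mem_lev_succ {k : Fin D.rank} {a : ℕ} {N : Subgroup G}
    (hN : ∀ m ∈ h.rgd.PJ {i | i ≠ k}, ∀ g ∈ N, m * g * m⁻¹ ∈ N) (h1 : N ≤ lev D x k a)
    {S : Set (Rt D)} (hS : CommUp (XR D x) S Fin.val) (hp : ∀ r ∈ S, Pos r)
    (h2 : ∀ g ∈ N, h.rgd.n k * g * (h.rgd.n k)⁻¹ ∈ gen (XR D x) S)
    (h3 : ∀ r : Rt D, rt r k = a + 1 → (∀ j, j ≠ k → D.cartan j r ≤ 0) → sref k r ∉ S) :
    N ≤ lev D x k (a + 1) := fun g hg => by
  classical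
  have hL : ∀ r, r ∈ (Finset.univ.filter fun r : Rt D => (a : ℤ) + 1 ≤ rt r k).toList ↔
      r ∈ {r : Rt D | (a : ℤ) + 1 ≤ rt r k} := by simp
  obtain ⟨y, hy, e⟩ := (commUp_lev h.toSt k a).exists_prod _ (Finset.nodup_toList _) hL (h1 hg)
  rw [e]
  refine Subgroup.list_prod_mem _ fun z hz => ?_
  obtain ⟨r, hr, rfl⟩ := List.mem_map.1 hz
  by_cases h4 : y r = 1
  · exact h4 ▸ one_mem _
  refine le_gen (XR D x) (c := r) ?_ (hy r)
  by_contra h5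
  obtain ⟨w, hw, h6, h7⟩ := exists_low k r
  obtain ⟨m, hm, -, h8⟩ := h.rgd.exists_act_of_mem_WJ hw
  have h9 := h2 _ (hN m (Subgroup.mem_sup_right hm) g hg)
  rw [show h.rgd.n k * (m * g * m⁻¹) * (h.rgd.n k)⁻¹ = h.rgd.n k * m * g * (h.rgd.n k * m)⁻¹ by group,
    e] at h9
  refine h3 _ ?_ h7 (act_mem_of_conj h.rgd hS hp (Finset.nodup_toList _)
    (fun r hr => pos_lev ((hL r).1 hr)) hy ((h.rgd.act_n k).mul h8) h9 hr h4)
  have := (hL r).1 hr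
  simp only [Set.mem_ofPred, Nat.cast_add, Nat.cast_one] at this h5
  omega

theorem rt_sref_self (k : Fin D.rank) (r : Rt D) : rt (sref k r) k = rt r k - D.cartan k r := by
  simp [rt_sref]

theorem seq_le (hT : h.rgd.Gp = ⊤) (hH : h.rgd.H = ⊥) {k : Fin D.rank}
    (h1 : ∀ r : Rt D, rt r k = 1 → (∀ j, j ≠ k → D.cartan j r ≤ 0) → r = simpleR k) (i : ℕ) :
    seq (h.rgd.PJ {i | i ≠ k}) (h.rgd.n k) (i + 1) ≤ lev D x k (i + 1) := by
  have hn : h.rgd.n k * h.rgd.n k = 1 := Subgroup.mem_bot.1 (hH ▸ h.rgd.n_sq k)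
  have h0 : ∀ i, ∀ m ∈ h.rgd.PJ {i | i ≠ k}, ∀ g ∈ seq (h.rgd.PJ {i | i ≠ k}) (h.rgd.n k) (i + 1),
      m * g * m⁻¹ ∈ seq (h.rgd.PJ {i | i ≠ k}) (h.rgd.n k) (i + 1) := fun _ _ hm _ hg =>
    conj_mem_core hm hg
  induction i with
  | zero =>
    have h2 : ∀ g ∈ seq (h.rgd.PJ {i | i ≠ k}) (h.rgd.n k) 1,
        h.rgd.n k * g * (h.rgd.n k)⁻¹ ∈ h.rgd.PJ {i | i ≠ k} := fun g hg =>
      (mem_map_conj hn).1 (core_le hg).2
    have h3 := le_B h.rgd hT wdata_connected k (h0 0) (fun g hg => (core_le hg).1) h2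
    rw [RGD.B, hH, sup_bot_eq] at h3
    refine mem_lev_succ h (h0 0) (fun g hg => ?_) (commUp_pos h.toSt) (fun _ h => h)
      (fun g hg => ?_) fun r hr h4 => ?_
    · refine gen_mono _ (fun r hr => ?_) (mem_UJ_of_conj h.rgd fun y hy => h3 (h0 0 y hy g hg))
      have h5 := hr.1 k
      have h6 : rt r k ≠ 0 := fun e => hr.2 (H64.mem_PhiJ_iff.2 fun i hi => (not_not.1 hi) ▸ e)
      simp only [Set.mem_ofPred]
      omega
    · obtain ⟨a, ha, y, hy, rfl⟩ := h.rgd.mem_U_split k (h3 hg)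
      have h5 := h.rgd.Up_le_U k (h.rgd.n_conj_Up k ha)
      have h6 := h2 _ hg
      rw [show h.rgd.n k * (a * y) * (h.rgd.n k)⁻¹ = h.rgd.n k * a * (h.rgd.n k)⁻¹ *
        (h.rgd.n k * y * (h.rgd.n k)⁻¹) by group] at h6 ⊢
      have h7 := h.rgd.n_conj k _ y hy
      rw [WData.s_p] at h7
      have h8 : (H64.wdata D).neg ((H64.wdata D).p k) ∈ {r | ¬ (H64.wdata D).pos r ∧
          r ∉ (H64.wdata D).PhiJ {i | i ≠ k}} := ⟨WData.not_pos_neg_p _ k, fun h8 =>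
        (H64.wdata D).p_mem_PhiJ_iff.1 ((H64.wdata D).neg_mem_PhiJ_iff.1 h8) rfl⟩
      rw [h.rgd.eq_one_of_mem_PJ_VJ ((mul_mem_cancel_left
        (h.rgd.B_le_PJ _ (h.rgd.U_le_B h5))).1 h6) (le_gen _ h8 h7), mul_one]
      exact h5
    · rw [h1 r (by simpa using hr) h4, sref_simpleR_self]
      exact fun h5 => pos_negR.1 h5 (pos_simpleR k)
  | succ i ih =>
    refine mem_lev_succ h (h0 _) (fun g hg => ih (core_le hg).1) (commUp_lev h.toSt k (i + 1))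
      (fun _ => pos_lev) (fun g hg => ih ((mem_map_conj hn).1 (core_le hg).2)) fun r hr h4 h5 => ?_
    obtain ⟨j, h6, -⟩ := exists_cartan_pos (pos_lev hr.ge)
    obtain rfl : j = k := by_contra fun e => h6.not_ge (h4 j e)
    rw [Set.mem_ofPred, rt_sref_self] at h5
    omega

theorem le_seq (hH : h.rgd.H = ⊥) {k : Fin D.rank}
    (h1 : ∀ r : Rt D, 2 ≤ rt r k → D.cartan k r ≤ 1) (i : ℕ) :
    lev D x k i ≤ seq (h.rgd.PJ {i | i ≠ k}) (h.rgd.n k) i := by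
  have hn : h.rgd.n k * h.rgd.n k = 1 := Subgroup.mem_bot.1 (hH ▸ h.rgd.n_sq k)
  have h0 : ∀ i, lev D x k i ≤ h.rgd.PJ {i | i ≠ k} := fun i =>
    (gen_mono _ fun _ => pos_lev).trans (h.rgd.U_le_B.trans (h.rgd.B_le_PJ _))
  induction i with
  | zero => exact h0 0
  | succ i ih =>
    refine fun g hg => mem_core.2 ⟨h0 _ hg, fun m hm => ?_⟩
    have h2 := conj_lev h k _ hm hg
    refine ⟨ih (gen_mono _ (fun r hr => ?_) h2), (mem_map_conj hn).2 (ih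
      ((h.rgd.act_n k).conj_gen (fun r hr => ?_) h2))⟩
    · simp only [Set.mem_ofPred, Nat.cast_add, Nat.cast_one] at hr ⊢
      omega
    · change _ ≤ rt (sref k r) k
      simp only [Set.mem_ofPred, Nat.cast_add, Nat.cast_one] at hr
      have := h1 r (by omega)
      rw [rt_sref_self]
      omega

theorem e8_facts : (∀ r < 240, certE8.rtc r 3 ≤ 6 ∧ (2 ≤ certE8.rtc r 3 → chevE8.cartan 3 r ≤ 1) ∧
    (certE8.rtc r 3 = 1 → (∀ j < 8, j ≠ 3 → chevE8.cartan j r ≤ 0) → r = chevE8.simple 3)) ∧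
    certE8.rtc 239 3 = 6 := by decide +kernel

theorem e8_root (k : Fin chevE8.rank) (hk : (k : ℕ) = 3) : (∀ r : Rt chevE8, rt r k ≤ 6 ∧
    (2 ≤ rt r k → chevE8.cartan k r ≤ 1) ∧ (rt r k = 1 → (∀ j, j ≠ k → chevE8.cartan j r ≤ 0) →
      r = simpleR k)) ∧ ∃ r : Rt chevE8, rt r k = 6 := by
  simp only [rt_E8, hk]
  refine ⟨fun r => ⟨(e8_facts.1 r r.2).1, (e8_facts.1 r r.2).2.1, fun h1 h2 => Fin.ext ?_⟩,
    ⟨239, show 239 < 240 by decide⟩, e8_facts.2⟩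
  rw [simpleR_val, hk]
  exact (e8_facts.1 r r.2).2.2 h1 fun j hj e => h2 ⟨j, hj⟩ fun e' => e (hk ▸ congrArg Fin.val e')

include h in
theorem main_of (hT : h.rgd.Gp = ⊤) (hH : h.rgd.H = ⊥) {k j : Fin D.rank} (hj : j ≠ k)
    (h0 : ∀ r : Rt D, rt r k ≤ 6 ∧ (2 ≤ rt r k → D.cartan k r ≤ 1) ∧
      (rt r k = 1 → (∀ j, j ≠ k → D.cartan j r ≤ 0) → r = simpleR k)) {r : Rt D} (hr : rt r k = 6) :
    ∃ (M₁ M₂ : Subgroup G) (g : G) (A B : ℕ → Subgroup G), IsCoatom M₁ ∧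
      M₂ = M₁.map (MulAut.conj g).toMonoidHom ∧ M₁ ≠ M₂ ∧
      M₁.normalCore = ⊥ ∧ A 0 = M₁ ∧ B 0 = M₂ ∧ (∀ i, A (i + 1) = core M₁ (A i ⊓ B i)) ∧
      (∀ i, B (i + 1) = core M₂ (A i ⊓ B i)) ∧ A 6 = ⊥ ∧ A 5 ≠ ⊥ := by
  have hn : h.rgd.n k * h.rgd.n k = 1 := Subgroup.mem_bot.1 (hH ▸ h.rgd.n_sq k)
  have h6 : seq (h.rgd.PJ {i | i ≠ k}) (h.rgd.n k) 6 = ⊥ :=
    le_bot_iff.1 ((seq_le h hT hH (fun r => (h0 r).2.2) 5).trans
      (gen_le fun r hr => absurd (hr.out.trans (h0 r).1) (by norm_num)))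
  refine ⟨h.rgd.PJ {i | i ≠ k}, _, h.rgd.n k,
    seq _ (h.rgd.n k), fun i => (seq _ (h.rgd.n k) i).map (MulAut.conj (h.rgd.n k)).toMonoidHom,
    isCoatom_PJ _ hT k, rfl, fun e => ?_, ?_, rfl, rfl, fun _ => rfl, map_seq_succ _ hn, h6,
    fun e => ?_⟩
  · exact h.rgd.n_not_mem_B j (le_B h.rgd hT wdata_connected k
      (fun m hm g hg => mul_mem (mul_mem hm hg) (inv_mem hm)) le_rfl
      (fun g hg => (mem_map_conj hn).1 (e ▸ hg)) (h.rgd.n_mem_PJ hj))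
  · refine le_bot_iff.1 (h6 ▸ ?_)
    generalize 6 = i
    induction i with
    | zero => exact Subgroup.normalCore_le _
    | succ i ih =>
      have h1 := (h.rgd.PJ {i | i ≠ k}).normalCore_normal
      exact fun g hg => mem_core.2 ⟨Subgroup.normalCore_le _ hg, fun m _ =>
        ⟨ih (h1.conj_mem _ hg m), (mem_map_conj hn).2 (ih (h1.conj_mem _ (h1.conj_mem _ hg m) _))⟩⟩
  · have h1 := (le_seq h hH (fun r => (h0 r).2.1) 5).trans e.le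
      (le_gen _ (c := r) hr.ge (x_mem_XR _ _ _ 1))
    exact one_ne_zero (h.eq_zero_of_x_eq_one _ h1)

theorem H_eq_bot {x : ℕ → ZMod 2 → G} (h : StB D x) : h.rgd.H = ⊥ := by
  refine (Subgroup.closure_eq_bot_iff).2 ?_
  rintro _ ⟨r, t, ht, rfl⟩
  obtain rfl : t = 1 := by revert t; decide
  exact h.toSt.hh_one r

theorem main : ∃ (G : Type) (_ : Group G) (_ : Finite G) (M₁ M₂ : Subgroup G) (g : G)
    (A B : ℕ → Subgroup G), IsCoatom M₁ ∧ M₂ = M₁.map (MulAut.conj g).toMonoidHom ∧ M₁ ≠ M₂ ∧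
      M₁.normalCore = ⊥ ∧ A 0 = M₁ ∧ B 0 = M₂ ∧ (∀ i, A (i + 1) = core M₁ (A i ⊓ B i)) ∧
      (∀ i, B (i + 1) = core M₂ (A i ⊓ B i)) ∧ A 6 = ⊥ ∧ A 5 ≠ ⊥ := by
  obtain ⟨_, _⟩ := H65.tab_comm_of_mem (D := chevE8) (by simp)
  have hA : Ad chevE8 (xG chevE8 (ZMod 2)) := ad_xG matOK
  obtain ⟨k, hk⟩ : ∃ k : Fin chevE8.rank, (k : ℕ) = 3 := ⟨⟨3, show 3 < 8 by decide⟩, rfl⟩
  obtain ⟨j, hj⟩ : ∃ j : Fin chevE8.rank, j ≠ k :=
    ⟨⟨0, show 0 < 8 by decide⟩, fun e => by simp [← e] at hk⟩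
  obtain ⟨h0, r, hr⟩ := e8_root k hk
  exact ⟨chevE8.group (ZMod 2), inferInstance, inferInstance,
    main_of hA.toStB hA.Gp_eq (H_eq_bot _) hj h0 hr⟩

end H43.Core6
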