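/- S3916, tower CY: slot Top. -/
import Cfsg.Agent.H56.CySpec
import Cfsg.Agent.S0205
import Cfsg.Agent.H4.SolRad
import Cfsg.Agent.H14.FStar

set_option autoImplicit false

namespace H43.CyTop

open Subgroup Cfsg H56.CY

universe u

theorem job : H56.CY.JobTop.{u} := by
  intro jq ml G _ _ hP hns
  have hK := H4.solRad_normal G
  let π := QuotientGroup.mk' (solvableRadical G)
  have hs : Function.Surjective π := QuotientGroup.mk'_surjective _
  have hX := jq G (solvableRadical G) hP
  have h0 := H4.solRad_quotient_solRad G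
  have : Nontrivial (G ⧸ solvableRadical G) :=
    QuotientGroup.nontrivial_iff.2 fun e => hns (H4.solRad_eq_top_iff.1 e)
  have hF : fittingSubgroup (G ⧸ solvableRadical G) = ⊥ := by
    have := H2.fitting_isNilpotent (G ⧸ solvableRadical G)
    have := H2.fitting_normal (G ⧸ solvableRadical G)
    exact le_bot_iff.1 (h0 ▸ H4.le_solRad _)
  have hE : layer (G ⧸ solvableRadical G) ≠ ⊥ := fun e =>
    H14.fstar_ne_bot (G := G ⧸ solvableRadical G) (by
      rw [generalizedFittingSubgroup, e, hF, bot_sup_eq])
  have hn := H14.layer_normal (G ⧸ solvableRadical G)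
  obtain ⟨h1, h2⟩ := Cfsg.Agent.S3915.result hX hE
  have hodd := ml _ _ hX hE H14.layer_perfect
  generalize layer (G ⧸ solvableRadical G) = E at *
  have hZ : center E = ⊥ := by
    have : ((center E).map E.subtype).Normal := inferInstance
    have : Group.IsSolvable ((center E).map E.subtype) :=
      Group.isSolvable_of_comm (by
        rintro ⟨_, a, ha, rfl⟩ ⟨_, b, -, rfl⟩
        exact Subtype.ext (congrArg Subtype.val (mem_center_iff.1 ha b).symm :))
    exact (map_eq_bot_iff_of_injective _ E.subtype_injective).1 (le_bot_iff.1 (h0 ▸ H4.le_solRad _))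
  have hk : (solvableRadical G).subgroupOf (E.comap π) = (π.subgroupComap E).ker := by
    ext x
    rw [mem_subgroupOf, MonoidHom.mem_ker, Subtype.ext_iff]
    exact (QuotientGroup.eq_one_iff _).symm
  let e : (E.comap π) ⧸ (solvableRadical G).subgroupOf (E.comap π) ≃* E ⧸ center E :=
    ((QuotientGroup.quotientMulEquivOfEq hk).trans (QuotientGroup.quotientKerEquivOfSurjective _
      (π.subgroupComap_surjective_of_surjective E hs))).trans
      ((QuotientGroup.quotientMulEquivOfEq hZ).trans QuotientGroup.quotientBot).symm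
  refine ⟨solvableRadical G, E.comap π, hK, inferInstance, fun x hx => ?_, H4.solRad_isSolvable G,
    Cfsg.Agent.S0205.result ?_, e.isSimpleGroup, fun k => h2 ⟨⟨fun a b => ?_⟩⟩⟩
  · rw [mem_comap, show π x = 1 from (QuotientGroup.eq_one_iff x).2 hx]
    exact one_mem _
  · rw [← index_eq_card, index_comap_of_surjective E hs]
    exact hodd
  · obtain ⟨a, rfl⟩ := e.surjective a
    obtain ⟨b, rfl⟩ := e.surjective b
    rw [← map_mul, ← map_mul, k.1.1 a b]

end H43.CyTop
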