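import Cfsg.Agent.H82.FSSpec
import Cfsg.Agent.H1.Coprime
import Cfsg.Agent.H14.Local

/-! Tower FS: the growth lemma for two blocks. -/

set_option autoImplicit false
set_option linter.unusedSectionVars false

namespace H43.FSG

open H82.FS Subgroup H1
open scoped commutatorElement Pointwise

universe u

variable {G : Type u} [Group G] {p r : ℕ} {A N X Y : Subgroup G}

theorem mem_sup_nor {H K : Subgroup G} (h : K ≤ normalizer (H : Set G)) {x : G} (hx : x ∈ H ⊔ K) :
    ∃ a ∈ H, ∃ b ∈ K, a * b = x := by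
  rw [← SetLike.mem_coe, coe_mul_of_right_le_normalizer_left _ _ h] at hx
  exact hx

theorem cm_mul (a b c : G) : ⁅a * b, c⁆ = a * ⁅b, c⁆ * a⁻¹ * ⁅a, c⁆ := by
  simp only [commutatorElement_def]; group

theorem cm_one {a b : G} (h : a * b = b * a) : ⁅a, b⁆ = 1 :=
  commutatorElement_eq_one_iff_mul_comm.2 h

/-- The map `w ↦ ⁅w, z⁆` kills `⁅W, A⁆` modulo `T`. -/
theorem kill {W T : Subgroup G} {z : G} (h1 : W ≤ normalizer (T : Set G))
    (h2 : A ≤ normalizer (W : Set G)) (h3 : z ∈ centralizer (A : Set G))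
    (h4 : ∀ w ∈ W, ∀ a ∈ A, ⁅a, ⁅w, z⁆⁆ ∈ T) : ∀ u ∈ ⁅W, A⁆, ⁅u, z⁆ ∈ T := by
  let K : Subgroup G :=
    { carrier := {w | w ∈ W ∧ ⁅w, z⁆ ∈ T}
      one_mem' := ⟨W.one_mem, by simp⟩
      mul_mem' := fun {a b} ha hb => ⟨W.mul_mem ha.1 hb.1, by
        rw [cm_mul]; exact T.mul_mem (conj_mem_of_le_normalizer h1 ha.1 hb.2) ha.2⟩
      inv_mem' := fun {a} ha => ⟨W.inv_mem ha.1, by
        have := conj_mem_of_le_normalizer h1 (W.inv_mem ha.1) (T.inv_mem ha.2)
        convert this using 1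
        simp only [commutatorElement_def]; group⟩ }
  have : ⁅W, A⁆ ≤ K := commutator_le.2 fun w hw a ha =>
    ⟨commutator_le_of_le_normalizer h2 (commutator_mem_commutator hw ha), by
      have := conj_mem_of_le_normalizer h1 hw (h4 _ (W.inv_mem hw) a ha)
      have e : ⁅a * w⁻¹ * a⁻¹, z⁆ = a * ⁅w⁻¹, z⁆ * a⁻¹ := by
        rw [conjugate_commutatorElement, h3 a ha, mul_inv_cancel_right]
      rw [show ⁅w, a⁆ = w * (a * w⁻¹ * a⁻¹) by rw [commutatorElement_def]; group, cm_mul, e]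
      convert this using 1
      simp only [commutatorElement_def]; group⟩
  exact fun u hu => (this hu).2

variable [Finite G]

theorem comm_A (h : Lin p r A) {a b : G} (ha : a ∈ A) (hb : b ∈ A) : a * b = b * a := by
  have := Fact.mk h.hp
  have := isCyclic_of_prime_card h.card
  exact congrArg Subtype.val (mul_comm' (⟨a, ha⟩ : A) ⟨b, hb⟩)

theorem cop (h : Lin p r A) {W : Subgroup G} (hW : IsPGroup r W) :
    (Nat.card A).Coprime (Nat.card W) := by
  have := Fact.mk h.hr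
  obtain ⟨k, hk⟩ := IsPGroup.iff_card.1 hW
  rw [h.card, hk]
  exact ((Nat.coprime_primes h.hp h.hr).2 h.pr.symm).pow_right _

theorem solv (h : Lin p r A) {W : Subgroup G} (hW : IsPGroup r W) :
    Group.IsSolvable A ∨ Group.IsSolvable W := by
  have := Fact.mk h.hr
  have := hW.isNilpotent
  exact .inr inferInstance

theorem sp_cm (h : Lin p r A) {W : Subgroup G} (hW : IsPGroup r W)
    (h1 : A ≤ normalizer (W : Set G)) : Sp r A ⁅W, A⁆ :=
  ⟨hW.to_le (commutator_le_of_le_normalizer h1), le_normalizer_commutator_right _ _,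
    commutator_commutator_eq h1 (cop h hW) (solv h hW)⟩

/-- The centraliser of a central commutator of a block. -/
theorem cz (h : Geo p r A N) (hX : Blk r A X) {z : G} (hz : z ∈ ⁅X, X⁆) (h1 : z ≠ 1) :
    centralizer {z} ≤ normalizer (X : Set G) ∧ ∀ L, Sp r A L → L ≤ centralizer {z} → L ≤ X := by
  obtain ⟨c1, c2, -⟩ := h.cls X hX.1
  obtain ⟨R, hR, -, h3, h4⟩ := h.loc (centralizer {z}) (fun e => h1 (mem_bot.1 (h.cen ▸
    fun g _ => mem_centralizer_singleton_iff.1 (e.ge (mem_top g)))))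
    fun a ha => mem_centralizer_singleton_iff.2 ((c1.le hz).2 a ha)
  have k : ∀ L, Sp r A L → L ≤ centralizer {z} → L ≤ R := fun L hL hl => by
    have hA : A ≤ centralizer {z} := fun a ha => mem_centralizer_singleton_iff.2 ((c1.le hz).2 a ha)
    have h5 : L ≤ R ⊔ A := hL.2.2 ▸ commutator_le.2 fun l l1 a ha => by
      obtain ⟨y, y1, y2⟩ := h4 l (by
        rintro _ ⟨b, hb, rfl⟩
        exact mul_mem (mul_mem (hl l1) (hA hb)) (inv_mem (hl l1)))
      obtain ⟨b, hb, e⟩ := y2.le ⟨a, ha, rfl⟩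
      rw [commutatorElement_def, show l * a * l⁻¹ = y * b * y⁻¹ from e.symm]
      exact mul_mem (mul_mem (mul_mem (mem_sup_left y1) (mem_sup_right hb))
        (inv_mem (mem_sup_left y1))) (inv_mem (mem_sup_right ha))
    rw [← hL.2.2]
    refine commutator_le.2 fun l l1 a ha => ?_
    obtain ⟨y, y1, b, hb, rfl⟩ := mem_sup_nor hR.2.1 (h5 l1)
    rw [cm_mul, cm_one (comm_A h.lin hb ha), mul_one, mul_inv_cancel, one_mul]
    exact hR.2.2 ▸ commutator_mem_commutator y1 ha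
  obtain rfl := hX.2 R hR (k X hX.1 fun x hx => mem_centralizer_singleton_iff.2 (c2 hz x hx))
  exact ⟨h3, k⟩

theorem jobBlkG : JobBlkG.{u} := by
  intro G _ _ p r A N h X Y hX hY ne hV
  have := Fact.mk h.lin.hr
  obtain ⟨x1, x2, -⟩ := h.cls X hX.1
  obtain ⟨y1, y2, -⟩ := h.cls Y hY.1
  have nle : ¬ Y ≤ X := fun e => ne (hY.2 X hX.1 e)
  have nI := le_normalizer_inf hX.1.2.1 hY.1.2.1
  have sL := sp_cm h.lin (hX.1.1.to_le inf_le_left) nI
  have lL := commutator_le_of_le_normalizer nI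
  set L := ⁅X ⊓ Y, A⁆ with eL
  set V := ⁅X, X⁆ ⊓ normalizer (Y : Set G)
  set T := L ⊔ ⁅Y, Y⁆ ⊓ normalizer (X : Set G) with eT
  obtain ⟨⟨z, hz⟩, z1⟩ := ne_bot_iff_exists_ne_one.1 hV
  replace z1 : z ≠ 1 := fun e => z1 (Subtype.ext e)
  obtain ⟨c1, c2⟩ := cz h hX hz.1 z1
  have ab : ∀ a ∈ L, ∀ b ∈ L, a * b = b * a := fun a ha b hb => by
    by_contra e
    exact nle ((cz h hX (commutator_mem_commutator (lL ha).1 (lL hb).1)
      fun k => e (commutatorElement_eq_one_iff_mul_comm.1 k)).2 Y hY.1 fun y hy =>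
        mem_centralizer_singleton_iff.2 (y2 (commutator_mem_commutator (lL ha).2 (lL hb).2) y hy))
  have YY : ⁅Y, Y⁆ ≤ Y := y1.le.trans inf_le_left
  have dB : ∀ b ∈ L ⊔ ⁅Y, Y⁆, ∃ l ∈ L, ∃ c ∈ ⁅Y, Y⁆, l * c = b := fun b hb =>
    mem_sup_nor (le_normalizer_of_conj_mem fun c hc l hl => by
      rwa [← y2 hc l (lL hl).2, mul_inv_cancel_right]) hb
  have BY : L ⊔ ⁅Y, Y⁆ ≤ Y := sup_le (lL.trans inf_le_right) YY
  have aB : ∀ b ∈ L ⊔ ⁅Y, Y⁆, ∀ a ∈ A, ⁅b, a⁆ ∈ L := fun b hb a ha => by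
    obtain ⟨l, hl, c, hc, rfl⟩ := dB b hb
    rw [cm_mul, cm_one ((y1.le hc).2 a ha).symm, mul_one, mul_inv_cancel, one_mul]
    exact sL.2.2 ▸ commutator_mem_commutator hl ha
  have nB : Y ≤ normalizer ((L ⊔ ⁅Y, Y⁆ : Subgroup G) : Set G) :=
    le_normalizer_of_commutator_le ((commutator_mono BY le_rfl).trans le_sup_right)
  let W : Subgroup G :=
    { carrier := {w | w ∈ Y ∧ ∀ v ∈ V, ⁅w, v⁆ ∈ L ⊔ ⁅Y, Y⁆}
      one_mem' := ⟨Y.one_mem, by simp⟩
      mul_mem' := fun {a b} ha hb => ⟨Y.mul_mem ha.1 hb.1, fun v hv => by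
        rw [cm_mul]; exact mul_mem (conj_mem_of_le_normalizer nB ha.1 (hb.2 v hv)) (ha.2 v hv)⟩
      inv_mem' := fun {a} ha => ⟨Y.inv_mem ha.1, fun v hv => by
        have := conj_mem_of_le_normalizer nB (Y.inv_mem ha.1) (inv_mem (ha.2 v hv))
        convert this using 1
        simp only [commutatorElement_def]; group⟩ }
  have WY : W ≤ Y := fun _ k => k.1
  have pW : IsPGroup r W := hY.1.1.to_le WY
  have nW : A ≤ normalizer (W : Set G) := le_normalizer_of_conj_mem fun a ha w hw =>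
    ⟨conj_mem_of_le_normalizer hY.1.2.1 ha hw.1, fun v hv => by
      have := conj_mem_of_le_normalizer (le_normalizer_sup sL.2.1
        (le_normalizer_commutator hY.1.2.1 hY.1.2.1)) ha (hw.2 v hv)
      rwa [conjugate_commutatorElement, (x1.le hv.1).2 a ha, mul_inv_cancel_right] at this⟩
  have sU := sp_cm h.lin pW nW
  have UW := commutator_le_of_le_normalizer nW
  have lt : L < ⁅W, A⁆ := by
    refine lt_of_le_of_ne (sL.2.2.symm.trans_le (commutator_mono (fun l hl => ⟨(lL hl).2,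
      fun v hv => by rw [cm_one (x2 hv.1 l (lL hl).1)]; exact one_mem _⟩) le_rfl)) fun e => ?_
    obtain ⟨w, w1, w2, w3⟩ := H14.exists_commutator_mem (W := L ⊔ ⁅Y, Y⁆) hY.1.1
      (hX.1.1.to_le (inf_le_left.trans (x1.le.trans inf_le_left))) (inf_le_right : V ≤ _)
      fun k => nle (hY.1.2.2.symm.trans_le ((commutator_le.2 fun b hb => aB b (k hb)).trans
        (lL.trans inf_le_left)))
    obtain ⟨c, hc, u, hu, rfl⟩ := exists_centralizer_mul_commutator nW (cop h.lin pW)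
      (solv h.lin pW) (show w ∈ W from ⟨w1, fun v hv => (w3 v hv).2⟩)
    exact w2 (mul_mem (mem_sup_right (y1.ge ⟨hc.1.1, hc.2⟩)) (mem_sup_left (e.ge hu)))
  have nT : W ≤ normalizer (T : Set G) := le_normalizer_of_commutator_le (by
    rw [commutator_comm, ← le_normalizer_iff_commutator_le_right]
    refine le_normalizer_of_conj_mem fun w hw t ht => ?_
    refine (show T ≤ T.comap (MulAut.conj w).toMonoidHom from sup_le (fun l hl => ?_)
      fun c hc => ?_) ht
    · have k := commutator_mem_commutator hw.1 (lL hl).2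
      change w * l * w⁻¹ ∈ T
      rw [show w * l * w⁻¹ = ⁅w, l⁆ * l by rw [commutatorElement_def]; group]
      refine mul_mem (mem_sup_right ⟨k, c1 (mem_centralizer_singleton_iff.2 ?_)⟩) (mem_sup_left hl)
      obtain ⟨l', hl', c, hc, e⟩ := dB _ (inv_mem (hw.2 z hz))
      have e1 : z * w * z⁻¹ = l' * c * w := by rw [e, commutatorElement_def]; group
      rw [eq_comm, ← mul_inv_eq_iff_eq_mul,
        conjugate_commutatorElement, ← x2 hz.1 l (lL hl).1, mul_inv_cancel_right, e1, cm_mul, y2 k _ (BY (e ▸ inv_mem (hw.2 z hz))),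
        mul_inv_cancel_right, cm_one (a := l' * c), mul_one]
      rw [mul_assoc, ← y2 hc l (lL hl).2, ← mul_assoc, ab l' hl' l hl, mul_assoc]
    · change w * c * w⁻¹ ∈ T
      rw [y2 hc.1 w hw.1, mul_inv_cancel_right]
      exact mem_sup_right hc)
  have aW : ∀ v ∈ V, ∀ w ∈ W, ∀ a ∈ A, ⁅a, ⁅w, v⁆⁆ ∈ L := fun v hv w hw a ha => by
    rw [← commutatorElement_inv]; exact inv_mem (aB _ (hw.2 v hv) a ha)
  refine ⟨fun e => lt.not_ge ?_, _, sU, lt, UW.trans WY, le_normalizer_of_conj_mem fun w hw t ht => ?_⟩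
  · refine sU.2.2.symm.trans_le (commutator_mono (le_inf (c2 _ sU fun u hu => ?_) (UW.trans WY)) le_rfl)
    exact mem_centralizer_singleton_iff.2 (commutatorElement_eq_one_iff_mul_comm.1 (mem_bot.1
      (kill (T := ⊥) (le_normalizer_of_conj_mem fun a _ x hx => by simpa using hx) nW (x1.le hz.1).2 (fun w hw a ha => e ▸ aW z hz w hw a ha) u hu)))
  · have TT : T ≤ L ⊔ V ⊔ ⁅Y, Y⁆ ⊓ normalizer (X : Set G) := sup_le_sup_right le_sup_left _
    refine (show _ ≤ (L ⊔ V ⊔ ⁅Y, Y⁆ ⊓ normalizer (X : Set G)).comap (MulAut.conj w).toMonoidHom from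
      sup_le (sup_le (fun l hl => ?_) fun v hv => ?_) fun c hc => ?_) ht
    · exact TT (conj_mem_of_le_normalizer nT (UW hw) (mem_sup_left hl))
    · rw [mem_comap, MulEquiv.coe_toMonoidHom, MulAut.conj_apply, show w * v * w⁻¹ = ⁅w, v⁆ * v by rw [commutatorElement_def]; group]
      exact mul_mem (TT (kill nT nW (x1.le hv.1).2
        (fun w hw a ha => mem_sup_left (aW v hv w hw a ha)) w hw)) (mem_sup_left (mem_sup_right hv))
    · exact TT (conj_mem_of_le_normalizer nT (UW hw) (mem_sup_right hc))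

end H43.FSG
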