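/- Large fixed spaces, part G: lifting `SL₂(p)` along a kernel of odd order. -/
import Cfsg.Agent.H43.FxF
import Cfsg.Agent.H7.GWCons
import Cfsg.Agent.H47.NQ8
import Cfsg.Agent.H21.CoverId
import Cfsg.Agent.H21.SL2Mult
import Cfsg.Agent.H48.Meta
import Cfsg.Agent.H61.Post1
import Cfsg.Agent.H93.Core1
import Cfsg.Agent.S0102

set_option autoImplicit false
set_option linter.unusedSectionVars false

namespace H43.Fx

open Subgroup Matrix H56.SL2M H47.N
open scoped MatrixGroups commutatorElement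

universe u

variable {M : Type*} [Group M]

/-- all `r`-subgroups are cyclic -/
def Cy (r : ℕ) (M : Type*) [Group M] : Prop := ∀ P : Subgroup M, IsPGroup r P → IsCyclic P

theorem Cy.comap {r : ℕ} (h : Cy r M) {N : Type*} [Group N] (φ : N →* M)
    (hφ : Function.Injective φ) : Cy r N := fun P hP =>
  (P.equivMapOfInjective φ hφ).isCyclic.2 (h _ (hP.map φ))

theorem Cy.map [Finite M] {r : ℕ} [Fact r.Prime] (h : Cy r M) {Q : Type*} [Group Q] (π : M →* Q)
    (hπ : Function.Surjective π) : Cy r Q := fun P hP => by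
  have := Finite.of_surjective π hπ
  obtain ⟨S, hS⟩ := hP.exists_le_sylow
  obtain ⟨T, rfl⟩ := Sylow.mapSurjective_surjective hπ r S
  have := h _ T.2
  have : IsCyclic (T.mapSurjective hπ : Subgroup Q) :=
    isCyclic_of_surjective _ (π.subgroupMap_surjective T)
  exact isCyclic_of_le hS

theorem cy_of_rank [Finite M] {r : ℕ} [hr : Fact r.Prime] (h2 : r ≠ 2)
    (h : ∀ a b : M, a ^ r = 1 → b ^ r = 1 → Commute a b → b ≠ 1 → a ∈ zpowers b) : Cy r M := by
  refine fun P hP => (H48.isCyclic_iff_pRankLE_one h2 hP).2 fun A hA he => ?_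
  rw [pow_one]
  by_cases h0 : A = ⊥
  · rw [h0, card_bot]; exact hr.out.one_le
  obtain ⟨⟨b, hb⟩, hb1⟩ := ne_bot_iff_exists_ne_one.1 h0
  have h1 : A ≤ zpowers b := fun a ha => by
    obtain ⟨k, hk⟩ := h a b (congrArg Subtype.val (he a ha)) (congrArg Subtype.val (he b hb))
      (congrArg (fun x : A => (x.1 : M)) (hA.1.1 ⟨a, ha⟩ ⟨b, hb⟩))
      fun e => hb1 (Subtype.ext (Subtype.ext e))
    exact ⟨k, Subtype.ext hk⟩
  refine (card_le_of_le h1).trans ?_
  rw [Nat.card_zpowers]
  exact Nat.le_of_dvd hr.out.pos (orderOf_dvd_of_pow_eq_one (he b hb))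

structure Gd (M : Type*) [Group M] : Prop where
  uniq : ∀ a b : M, orderOf a = 2 → orderOf b = 2 → a = b
  frob : ∀ y a : M, y ^ 3 = 1 → Commute a (y * a * y⁻¹) → y * a * y⁻¹ = a
  cyc : Cy 3 M

theorem Gd.comap (h : Gd M) {N : Type*} [Group N] (φ : N →* M) (hφ : Function.Injective φ) :
    Gd N where
  uniq a b ha hb := hφ (h.uniq _ _ (by rwa [orderOf_injective φ hφ]) (by rwa [orderOf_injective φ hφ]))
  frob y a hy hc := hφ (by
    simpa using h.frob (φ y) (φ a) (by rw [← map_pow, hy, map_one]) (by simpa using hc.map φ))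
  cyc := h.cyc.comap φ hφ

theorem exists_lift_coprime [Finite M] {Q : Type*} [Group Q] (π : M →* Q)
    (hπ : Function.Surjective π) (Γ : Subgroup Q) (h : (Nat.card π.ker).Coprime (Nat.card Γ)) :
    ∃ φ : Γ →* M, ∀ g, π (φ g) = g := by
  have hs := π.subgroupComap_surjective_of_surjective Γ hπ
  obtain ⟨X, hX⟩ := exists_right_complement'_of_coprime (N := (π.subgroupComap Γ).ker) (by
    rw [index_ker, MonoidHom.range_eq_top.2 hs, card_top]
    refine Nat.Coprime.coprime_dvd_left (card_dvd_of_injective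
      (((Γ.comap π).subtype.comp (π.subgroupComap Γ).ker.subtype).codRestrict π.ker fun x =>
        congrArg Subtype.val x.2) fun a b e => ?_) h
    exact Subtype.ext (Subtype.ext (congrArg (fun x : π.ker => x.1) e)))
  let e := MulEquiv.ofBijective ((π.subgroupComap Γ).comp X.subtype)
    ⟨(injective_iff_map_eq_one _).2 fun x hx => Subtype.ext
      (disjoint_def.1 hX.disjoint hx x.2), fun g => by
      obtain ⟨w, rfl⟩ := hs g
      obtain ⟨⟨n, x⟩, rfl⟩ := hX.2 w
      exact ⟨x, by simp only [map_mul, show π.subgroupComap Γ n = 1 from n.2, one_mul]; rfl⟩⟩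
  exact ⟨(Γ.comap π).subtype.comp (X.subtype.comp e.symm.toMonoidHom), fun g =>
    congrArg Subtype.val (e.apply_symm_apply g)⟩

theorem commute_of_sq {a b : M} (hb : Odd (orderOf b)) (h : Commute a (b * b)) : Commute a b := by
  obtain ⟨k, hk⟩ := hb
  have : b = (b * b) ^ (k + 1) := by
    rw [← pow_two, ← pow_mul, show 2 * (k + 1) = 2 * k + 1 + 1 by ring, ← hk, pow_succ,
      pow_orderOf_eq_one, one_mul]
  rw [this]
  exact h.pow_right _

theorem eq_one_of_inv {a : M} (ha : Odd (orderOf a)) (h : a = a⁻¹) : a = 1 := by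
  have h1 : orderOf a ∣ 2 := orderOf_dvd_of_pow_eq_one (by rw [pow_two, mul_eq_one_iff_eq_inv, ← h])
  rcases (Nat.dvd_prime Nat.prime_two).1 h1 with e | e
  · exact orderOf_eq_one_iff.1 e
  · rw [e] at ha; exact absurd ha (by decide)

theorem cent_step (hM : Gd M) {i j y : M} (h : R24 i j y) (hz : ∀ x, i ^ 2 * x = x * i ^ 2)
    {D : Subgroup M} [hD : D.Normal] (ho : ∀ x ∈ D, Odd (orderOf x))
    (hc : ∀ d ∈ ⁅D, D⁆, MulAut.conj i d = d) {g : M} (hg : g ∈ D) : MulAut.conj i g = g := by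
  have cm : ∀ a b x : M, MulAut.conj (a * b) x = MulAut.conj a (MulAut.conj b x) := fun a b x => by
    rw [map_mul, MulAut.mul_apply]
  have mem : ∀ a, ∀ {x}, x ∈ D → MulAut.conj a x ∈ D := fun a x hx => hD.conj_mem x hx a
  have key : ∀ c a : M, (∀ d ∈ ⁅D, D⁆, MulAut.conj c d = d) → a ∈ D → MulAut.conj c a = a →
      MulAut.conj c (MulAut.conj y a) = (MulAut.conj y a)⁻¹ → a = 1 := fun c a h1 ha h2 h3 => by
    have hb := mem y ha
    have h4 := h1 _ (commutator_mem_commutator ha hb)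
    have h6 : MulAut.conj y a = a → a = 1 := fun e => by
      rw [e, h2] at h3
      exact eq_one_of_inv (ho a ha) h3
    refine h6 (hM.frob y a h.g3 (commute_of_sq (ho _ hb) ?_))
    change Commute a (MulAut.conj y a * MulAut.conj y a)
    generalize MulAut.conj y a = b at h3 h4
    simp only [commutatorElement_def, map_mul, map_inv, h2, h3, inv_inv, mul_assoc,
      mul_right_inj] at h4
    refine Commute.inv_left_iff.1 ?_
    calc a⁻¹ * (b * b) = b * (b⁻¹ * (a⁻¹ * b)) * b := by group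
      _ = b * b * a⁻¹ := by rw [h4]; group
  have ii : ∀ x, MulAut.conj i (MulAut.conj i x) = x := fun x => by
    rw [← cm, ← pow_two, MulAut.conj_apply, hz, mul_inv_cancel_right]
  have jj : ∀ x, MulAut.conj j (MulAut.conj j x) = x := fun x => by
    rw [← cm, h.bb, MulAut.conj_apply, hz, mul_inv_cancel_right]
  have ij : ∀ x, MulAut.conj i (MulAut.conj j x) = MulAut.conj j (MulAut.conj i x) := fun x => by
    have e : i * (i * j) * i = i ^ 2 * (j * i * j⁻¹) * j := by rw [pow_two]; group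
    rw [← ii (MulAut.conj j (MulAut.conj i x)), ← cm, ← cm, ← cm, ← cm, mul_assoc i i, e, h.rel,
      pow_two, mul_inv_cancel_right]
  have jy : ∀ x, MulAut.conj j (MulAut.conj y x) = MulAut.conj y (MulAut.conj i x) := fun x => by
    rw [← cm, ← cm, ← h.ga, inv_mul_cancel_right]
  have ky : ∀ x, MulAut.conj (i * j) (MulAut.conj y x) = MulAut.conj y (MulAut.conj j x) :=
    fun x => by rw [← cm, ← cm, ← h.gb, inv_mul_cancel_right]
  have hcj : ∀ d ∈ ⁅D, D⁆, MulAut.conj j d = d := fun d hd => by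
    obtain ⟨x, rfl⟩ := (MulAut.conj y).surjective d
    have : x ∈ ⁅D, D⁆ := by
      simpa [mul_assoc] using (inferInstance : (⁅D, D⁆).Normal).conj_mem _ hd y⁻¹
    rw [jy, hc x this]
  have ht : g⁻¹ * MulAut.conj i g ∈ D := mul_mem (inv_mem hg) (mem i hg)
  have h1 : MulAut.conj i (g⁻¹ * MulAut.conj i g) = (g⁻¹ * MulAut.conj i g)⁻¹ := by
    rw [map_mul, map_inv, ii, _root_.mul_inv_rev, inv_inv]
  refine (inv_mul_eq_one.1 ?_).symm
  generalize g⁻¹ * MulAut.conj i g = t at ht h1
  have hb := mem j ht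
  have h2 := jj t
  have h3 : MulAut.conj i (MulAut.conj j t) = (MulAut.conj j t)⁻¹ := by rw [ij, h1, map_inv]
  generalize hbt : MulAut.conj j t = b at hb h2 h3
  have h4 : Commute t b := by
    have hd := commutator_mem_commutator ht hb
    refine commutatorElement_eq_one_iff_commute.1
      (eq_one_of_inv (ho _ (commutator_le_left _ _ hd)) ?_)
    rw [commutatorElement_inv]
    conv_lhs => rw [← hcj _ hd]
    simp only [commutatorElement_def, map_mul, map_inv, hbt, h2]
  have h5 := key j (t * b) hcj (mul_mem ht hb) (by rw [map_mul, hbt, h2, h4.eq]) (by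
    rw [jy, ← map_inv, map_mul, h1, h3, ← h4.mul_inv])
  have h6 := key (i * j) (t * b⁻¹) (fun d hd => by rw [cm, hcj d hd, hc d hd])
    (mul_mem ht (inv_mem hb))
    (by rw [cm]; simp only [map_mul, map_inv, hbt, h2, h1, h3, inv_inv, h4.inv_right.eq]) (by
      rw [ky, ← map_inv, map_mul, map_inv, hbt, h2, _root_.mul_inv_rev, inv_inv])
  rw [← mul_inv_eq_one.1 h6] at h5
  exact eq_one_of_inv (ho t ht) (eq_inv_of_mul_eq_one_left h5)

theorem cent_odd [Finite M] (hM : Gd M) {i j y : M} (h : R24 i j y)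
    (hz : ∀ x, i ^ 2 * x = x * i ^ 2) (D : Subgroup M) :
    D.Normal → Odd (Nat.card D) → ∀ g ∈ D, MulAut.conj i g = g := by
  induction D using WellFoundedLT.induction with | ind D ih =>
  intro hD ho g hg
  by_cases h0 : D = ⊥
  · rw [h0, mem_bot] at hg
    rw [hg, map_one]
  exact cent_step hM h hz (fun x hx => ho.of_dvd_nat (orderOf_dvd_natCard D hx))
    (ih _ (H93.commutator_lt_of_odd ho h0) inferInstance
      (ho.of_dvd_nat (card_dvd_of_le (commutator_le_left _ _)))) hg

variable {p : ℕ} [hp : Fact p.Prime]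

theorem two_ne (h5 : 5 ≤ p) : (2 : ZMod p) ≠ 0 := fun e => by
  have : p ∣ 2 := (ZMod.natCast_eq_zero_iff 2 p).1 (by exact_mod_cast e)
  have := Nat.le_of_dvd two_pos this
  omega

theorem exists_r24 (h5 : 5 ≤ p) : ∃ b g : SL(2, ZMod p), R24 ww b g := by
  obtain ⟨α, β, h⟩ := ZMod.sq_add_sq p (-1)
  obtain ⟨c, hc⟩ : ∃ c : ZMod p, 2 * c = 1 := ⟨2⁻¹, mul_inv_cancel₀ (two_ne h5)⟩
  let b : SL(2, ZMod p) := ⟨!![α, β; β, -α], by rw [det_fin_two_of]; linear_combination -h⟩
  let g : SL(2, ZMod p) := ⟨!![-c * (1 + α - β), -c * (α + β - 1); -c * (1 + α + β), -c * (1 - α + β)],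
    by rw [det_fin_two_of]; grind⟩
  have hb : b.1 = !![α, β; β, -α] := rfl
  have hg : g.1 = !![-c * (1 + α - β), -c * (α + β - 1); -c * (1 + α + β), -c * (1 - α + β)] := rfl
  refine ⟨b, g, ?_, ?_, mul_inv_eq_of_eq_mul (eq_inv_mul_of_mul_eq ?_), ?_,
    mul_inv_eq_of_eq_mul ?_, mul_inv_eq_of_eq_mul ?_⟩
  all_goals
    ext i j; fin_cases i <;> fin_cases j <;> simp [hb, hg, ww_coe, pow_succ] <;> grind

theorem ww_sq_ne (h5 : 5 ≤ p) : (ww : SL(2, ZMod p)) ^ 2 ≠ 1 := fun e => by
  have := congrArg (fun g : SL(2, ZMod p) => g 0 0) e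
  simp [ww_coe, pow_two] at this
  exact two_ne h5 (by linear_combination -this)

theorem lift_min [Finite M] (h5 : 5 ≤ p) (hM : Gd M) (π : M →* SL(2, ZMod p))
    (hπ : Function.Surjective π) (ho : Odd (Nat.card π.ker))
    (hmin : ∀ X : Subgroup M, X.map π = ⊤ → X = ⊤) : ∃ φ : SL(2, ZMod p) →* M, ∀ g, π (φ g) = g := by
  have hP : commutator SL(2, ZMod p) = ⊤ := H7.GW.sl2_perfect (by rw [Nat.card_zmod]; omega)
  have perf : ∀ {Q : Type _} [Group Q] (f : M →* Q), Function.Surjective f →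
      (commutator M).map f = commutator Q := fun f hf => by
    rw [commutator_def, map_commutator, map_top_of_surjective f hf, commutator_def]
  have hPM : commutator M = ⊤ := hmin _ ((perf π hπ).trans hP)
  have : Fact (Nat.Prime 3) := ⟨Nat.prime_three⟩
  have h3 : ¬ 3 ∣ Nat.card π.ker := fun h3 => by
    obtain ⟨P⟩ : Nonempty (Sylow 3 π.ker) := inferInstance
    have h1 := congrArg (Subgroup.map π) P.normalizer_sup_eq_top
    rw [Subgroup.map_sup, (Subgroup.map_eq_bot_iff _).2 le_rfl, sup_bot_eq,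
      map_top_of_surjective π hπ] at h1
    have hN := normalizer_eq_top_iff.1 (hmin _ h1)
    set R := (P : Subgroup π.ker).map π.ker.subtype
    have := hM.cyc R (P.2.map _)
    have h2 := Abelianization.commutator_subset_ker
      ((IsCyclic.mulAutMulEquiv R).toMonoidHom.comp MulAut.conjNormal)
    refine Cfsg.Agent.S0102.result (G := M ⧸ R) ?_
      (fun S => hM.cyc.map _ (QuotientGroup.mk'_surjective R) _ S.2) _
      (QuotientGroup.mk'_surjective R) ?_ hPM ?_
    · rw [commutator_def, ← map_top_of_surjective _ (QuotientGroup.mk'_surjective R),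
        ← map_commutator, ← commutator_def, hPM]
    · rw [QuotientGroup.ker_mk']
      refine fun x hx => mem_center_iff.2 fun g => ?_
      have h4 : MulAut.conjNormal (H := R) g = 1 :=
        (IsCyclic.mulAutMulEquiv R).injective ((h2 (hPM ▸ mem_top g)).trans (map_one _).symm)
      exact mul_inv_eq_iff_eq_mul.1 (congrArg Subtype.val (MulEquiv.congr_fun h4 ⟨x, hx⟩))
    · rw [QuotientGroup.ker_mk', card_map_of_injective (subtype_injective _)]
      exact P.dvd_card_of_dvd_card h3
  obtain ⟨b, g, h⟩ := exists_r24 h5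
  have ha : ww ∈ Subgroup.closure ({ww, b, g} : Set SL(2, ZMod p)) :=
    Subgroup.subset_closure (by simp)
  have hb : b ∈ Subgroup.closure ({ww, b, g} : Set SL(2, ZMod p)) :=
    Subgroup.subset_closure (by simp)
  have hg : g ∈ Subgroup.closure ({ww, b, g} : Set SL(2, ZMod p)) :=
    Subgroup.subset_closure (by simp)
  have hw := ww_sq_ne h5
  have hc : Nat.card (Subgroup.closure ({ww, b, g} : Set SL(2, ZMod p))) ∣ 2 ^ 3 * 3 := by
    have e1 := orderOf_dvd_natCard _ ha
    have e2 := orderOf_dvd_natCard _ hg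
    have e3 := h.card_le
    have e4 : 0 < Nat.card (Subgroup.closure ({ww, b, g} : Set SL(2, ZMod p))) := Nat.card_pos
    rw [orderOf_eq_prime_pow (p := 2) (n := 1) hw h.a4] at e1
    rw [orderOf_eq_prime h.g3 fun e => hw (by
      have := h.gb
      rw [e, one_mul, inv_one, mul_one, right_eq_mul] at this
      rw [this, one_pow])] at e2
    obtain e | e : Nat.card (Subgroup.closure ({ww, b, g} : Set SL(2, ZMod p))) = 12 ∨
      Nat.card (Subgroup.closure ({ww, b, g} : Set SL(2, ZMod p))) = 24 := by omega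
    all_goals rw [e]; decide
  obtain ⟨φ, hφ⟩ := exists_lift_coprime π hπ _ (Nat.Coprime.coprime_dvd_right hc
    (Nat.Coprime.mul_right (Nat.Coprime.pow_right 3 (Nat.coprime_two_right.2 ho))
      ((Nat.prime_three.coprime_iff_not_dvd.2 h3).symm)))
  have h' : R24 (φ ⟨ww, ha⟩) (φ ⟨b, hb⟩) (φ ⟨g, hg⟩) := by
    refine ⟨?_, ?_, ?_, ?_, ?_, ?_⟩ <;> simp only [← map_pow, ← map_mul, ← map_inv]
    exacts [(congrArg φ (Subtype.ext h.a4)).trans (map_one φ), congrArg φ (Subtype.ext h.bb),
      congrArg φ (Subtype.ext h.rel), (congrArg φ (Subtype.ext h.g3)).trans (map_one φ),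
      congrArg φ (Subtype.ext h.ga), congrArg φ (Subtype.ext h.gb)]
  have hz : orderOf (φ ⟨ww, ha⟩ ^ 2) = 2 := orderOf_eq_prime (by rw [← pow_mul]; exact h'.a4)
    fun e => hw (by have := congrArg π e; rwa [map_pow, hφ, map_one] at this)
  have h6 := cent_odd hM h' (fun x => (mul_inv_eq_iff_eq_mul.1 (hM.uniq _ _
    ((MulAut.conj x).orderOf_eq _ |>.trans hz) hz)).symm) π.ker inferInstance ho
  have : ((centralizer (π.ker : Set M)).map π).Normal := Normal.map inferInstance π hπ
  have h7 := (H61.Post.normal_cases ⟨2, two_ne h5, fun e => by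
    have : p ∣ 3 := (ZMod.natCast_eq_zero_iff 3 p).1 (by push_cast; linear_combination e)
    have := Nat.le_of_dvd three_pos this
    omega⟩ ((centralizer (π.ker : Set M)).map π)).resolve_right fun e => by
      have e1 := mem_center_iff.1 (e ⟨φ ⟨ww, ha⟩, fun x hx =>
        (mul_inv_eq_iff_eq_mul.1 (h6 x hx)).symm, hφ _⟩) b
      have e2 := h.rel
      rw [e1, mul_inv_cancel_right] at e2
      exact hw (by rw [pow_two, mul_eq_one_iff_eq_inv, ← e2])
  exact H21.exists_lift_of_perfect hP (H21.sl2_multCard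
    (by rw [Nat.card_zmod]; omega) (by rw [Nat.card_zmod]; rintro rfl; exact absurd hp.out (by decide)))
    (MonoidHom.id _) hπ fun x hx => mem_center_iff.2 fun y =>
      ((hmin _ h7 ▸ mem_top y : y ∈ centralizer (π.ker : Set M)) x hx).symm

theorem exists_lift [Finite M] (h5 : 5 ≤ p) (hM : Gd M) (π : M →* SL(2, ZMod p))
    (hπ : Function.Surjective π) (ho : Odd (Nat.card π.ker)) :
    ∃ φ : SL(2, ZMod p) →* M, Function.Injective φ := by
  obtain ⟨X, hX⟩ := exists_minimal_of_wellFoundedLT (fun X : Subgroup M => X.map π = ⊤)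
    ⟨⊤, map_top_of_surjective π hπ⟩
  obtain ⟨φ, hφ⟩ := lift_min h5 (hM.comap _ X.subtype_injective) (π.comp X.subtype) (fun g => by
      obtain ⟨x, hx, rfl⟩ : g ∈ X.map π := hX.1 ▸ mem_top g
      exact ⟨⟨x, hx⟩, rfl⟩)
    (ho.of_dvd_nat (card_dvd_of_injective
      ((X.subtype.comp (π.comp X.subtype).ker.subtype).codRestrict π.ker fun x => x.2)
      fun a b e => Subtype.ext (Subtype.ext (congrArg (fun x : π.ker => x.1) e)))) fun Y hY =>
    map_injective X.subtype_injective (by
      rw [← MonoidHom.range_eq_map, range_subtype]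
      exact (hX.eq_of_ge (by rwa [Subgroup.map_map]) (map_subtype_le Y)).symm)
  exact ⟨X.subtype.comp φ, Function.LeftInverse.injective (g := π) hφ⟩

end H43.Fx
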