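/- Large fixed spaces, part H: the theorem. -/
import Cfsg.Agent.H43.FxG
import Cfsg.Agent.H0.GWFinal
import Cfsg.Agent.H84.GWC2
import Cfsg.Agent.H24.Socle
import Cfsg.Agent.H61.DicksonField
import Cfsg.Agent.S0813

set_option autoImplicit false
set_option linter.unusedSectionVars false

namespace H43.Fx

open Subgroup Matrix Module H56.SL2M Cfsg
open scoped MatrixGroups

variable {K : Type*} [Field K] {V : Type*} [AddCommGroup V] [Module K V] [FiniteDimensional K V]

theorem no_sl [IsAlgClosed K] {p : ℕ} [hp : Fact p.Prime] (h7 : 7 ≤ p)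
    {ρ : Representation K SL(2, ZMod p) V} (h : Sm ρ) : False := by
  have : Fact (Nat.Prime 3) := ⟨Nat.prime_three⟩
  have h3 := h.char_ne (r := 3) (by omega) yE_cube yE_ne
  have h1 := h _ yE_ne
  have h2 := h _ xx_ne
  have nd : ∀ k, 2 ≤ k → k < p → ¬ k ∣ p := fun k h1 h2 h3 => by
    have := (Nat.dvd_prime hp.out).1 h3
    omega
  have n2 := nd 2 (by omega) (by omega)
  have n3 := nd 3 (by omega) (by omega)
  obtain e | e : p % 3 = 1 ∨ p % 3 = 2 := by omega
  · obtain ⟨s, hs⟩ := exists_prime_orderOf_dvd_card (G := (ZMod p)ˣ) 3 (by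
      rw [ZMod.card_units]; omega)
    have e1 : hh s * xx 1 * (hh s)⁻¹ = xx (s * s * 1 : ZMod p) := by rw [hh_xx, mul_inv_cancel_right]
    have e2 : s * s * s = 1 := by rw [← pow_three', ← hs, pow_orderOf_eq_one]
    have e3 := h.frob (y := hh s) (a := xx 1)
      (by rw [pow_three', ← hh_mul, ← hh_mul, e2, hh_one])
      (by rw [e1, Commute, SemiconjBy, ← xx_add, ← xx_add, add_comm])
    rw [e1] at e3
    have e4 : s * s = 1 := Units.ext (by
      simpa [xx] using congrArg (fun g : SL(2, ZMod p) => g 0 1) e3)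
    rw [e4, one_mul] at e2
    simp [e2] at hs
  by_cases hK : (p : K) = 0
  · have : CharP K p := (CharP.charP_iff_prime_eq_zero hp.out).2 hK
    obtain rfl | h17 : p = 11 ∨ 17 ≤ p := by omega
    · have := sl_def_11 (ZMod.castHom dvd_rfl K) ρ
      omega
    · have := sl_def_big (ZMod.castHom dvd_rfl K) ρ h17
      omega
  · have := sl_cross e (by omega) hK h3 ρ
    omega

theorem card_le_of_cy {F : Type*} [Field F] [Finite F] {r : ℕ} [hr : Fact r.Prime] [CharP F r]
    (h : Cy r SL(2, F)) : Nat.card F ≤ r := by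
  let f : Multiplicative F →* SL(2, F) :=
    { toFun := fun t => xx t.toAdd, map_one' := xx_zero, map_mul' := fun _ _ => xx_add _ _ }
  have hf : Function.Injective f := fun a b e =>
    Multiplicative.toAdd.injective (congrArg (fun g : SL(2, F) => g 0 1) e)
  have he : ∀ t : Multiplicative F, t ^ r = 1 := fun t => Multiplicative.toAdd.injective (by simp)
  have := h.comap f hf ⊤ fun t => ⟨1, Subtype.ext (by simpa using he t)⟩
  have := topEquiv.isCyclic.1 this
  rw [← Nat.card_congr (Multiplicative.toAdd (α := F)), ← IsCyclic.exponent_eq_card]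
  exact Nat.le_of_dvd hr.out.pos (Monoid.exponent_dvd_of_forall_pow_eq_one he)

theorem not_cy_a7 (h : Cy 3 (alternatingGroup (Fin 7))) : False := by
  have : Fact (Nat.Prime 3) := ⟨Nat.prime_three⟩
  have hd : 3 ^ 2 ∣ Nat.card (alternatingGroup (Fin 7)) := by
    rw [nat_card_alternatingGroup, Nat.card_eq_fintype_card, Fintype.card_fin]
    decide
  obtain ⟨P, hP⟩ := Sylow.exists_subgroup_card_pow_prime 3 hd
  obtain ⟨g, hg⟩ := (h P (IsPGroup.of_card hP)).exists_generator
  have h1 : orderOf g.1.1 = 3 ^ 2 := by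
    rw [Subgroup.orderOf_coe, Subgroup.orderOf_coe, orderOf_eq_card_of_forall_mem_zpowers hg, hP]
  have h3 : 3 ^ 2 ∣ g.1.1.cycleType.lcm := by rw [Equiv.Perm.lcm_cycleType, h1]
  have h4 : g.1.1.cycleType.lcm ∣ 3 := Multiset.lcm_dvd.2 fun n hn => by
    have e1 := Equiv.Perm.dvd_of_mem_cycleType hn
    have e2 := (Equiv.Perm.le_card_support_of_mem_cycleType hn).trans (Finset.card_le_univ _)
    rw [h1, Nat.dvd_prime_pow Nat.prime_three] at e1
    obtain ⟨k, hk, rfl⟩ := e1
    rw [Fintype.card_fin] at e2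
    interval_cases k <;> simp_all
  exact absurd (h3.trans h4) (by decide)

theorem no_small [IsAlgClosed K] {H : Type*} [Group H] [Finite H]
    (hR : 120 < (solvableRadical H).index) {ρ : Representation K H V} (h : Sm ρ) : False := by
  have : Fact (Nat.Prime 3) := ⟨Nat.prime_three⟩
  have : Fact (Nat.Prime 5) := ⟨Nat.prime_five⟩
  have c3 : Cy 3 H := cy_of_rank (by decide) fun a b ha hb hc h1 => h.rank (by decide) ha hb hc h1
  have c5 : Cy 5 H := cy_of_rank (by decide) fun a b ha hb hc h1 => h.rank (by decide) ha hb hc h1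
  have hG : Gd H := ⟨fun a b => h.uniq, fun y a => h.frob, c3⟩
  have rad : ∀ N : Subgroup H, N.Normal → Group.IsSolvable N → 120 < N.index := fun N h1 h2 =>
    hR.trans_le (index_antitone (le_sSup ⟨h1, h2⟩))
  have hns : ¬ Group.IsSolvable H := fun hs => by
    have := rad ⊤ inferInstance inferInstance
    rw [index_top] at this
    omega
  obtain ⟨S⟩ := (inferInstance : Nonempty (Sylow 2 H))
  obtain ⟨n, ⟨e⟩⟩ := (H84.isCyclic_or_quaternion_of_unique_involution S.2
    fun a _ b _ => h.uniq).resolve_left fun hc => hns (H24.solvable_of_cyclic S hc)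
  obtain ⟨R, -, ⟨φ⟩⟩ := H86.exists_sylow_quotient_equiv S (oddCore H) (H2.coprime_card_pPrimeCore 2 H)
  have hO := H42.odd_order (H2.odd_card_oddCore H)
  have hns' : ¬ Group.IsSolvable (H ⧸ oddCore H) := fun h =>
    hns (H2.isSolvable_of_normal_of_quotient (oddCore H))
  obtain ⟨z, L, hz, hc, -, -, hL⟩ := H7.GW.exists_cs_gq H0.gwSimple
    (H2.pPrimeCore_quotient_pPrimeCore 2 H) R (φ.symm.trans e)
    fun h => hns' (have := h.isNilpotent; inferInstance)
  have hs := QuotientGroup.mk'_surjective (oddCore H)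
  have hs' := QuotientGroup.mk'_surjective (center (H ⧸ oddCore H))
  rcases hL.cases with ⟨F, i1, i2, h2, ⟨e1⟩, ⟨e2⟩, h4, -⟩ | ⟨-, ⟨e1⟩, -⟩
  swap
  · exact not_cy_a7 (((c3.map _ hs).map _ hs').comap e1.symm.toMonoidHom e1.symm.injective)
  obtain ⟨p, hp⟩ := CharP.exists F
  have hpp : Fact p.Prime := ⟨CharP.char_is_prime F p⟩
  have h4' := h4 hns'
  have inj : Function.Injective (L.subtype.comp e1.symm.toMonoidHom) :=
    L.subtype_injective.comp e1.symm.injective
  obtain ⟨f, -, hq⟩ := FiniteField.card F p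
  have hf := f.pos
  have hle : p ≤ Fintype.card F := hq ▸ Nat.le_self_pow hf.ne' p
  have nd : ∀ k, 2 ≤ k → k < p → ¬ k ∣ p := fun k h1 h2 h3 => by
    have := (Nat.dvd_prime hpp.out).1 h3
    omega
  have hp2 : p ≠ 2 := by
    rintro rfl
    rw [hq, Nat.odd_pow_iff hf.ne'] at h2
    exact absurd h2 (by decide)
  have n2 := nd 2 le_rfl
  have := hpp.out.two_le
  obtain rfl | rfl | h7 : p = 3 ∨ p = 5 ∨ 7 ≤ p := by omega
  · have := card_le_of_cy ((c3.map _ hs).comap _ inj)
    rw [Nat.card_eq_fintype_card] at this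
    omega
  · have h5 := card_le_of_cy ((c5.map _ hs).comap _ inj)
    rw [Nat.card_eq_fintype_card] at h5
    have h6 : Fintype.card F = 5 := le_antisymm h5 hle
    have := hL.ds.normal
    obtain ⟨A, -, ⟨e3⟩⟩ := H84.GWC.exists_between _ hL.ds.cent e2
    have h8 := Cfsg.Agent.S0813.result (F := F) 5 1 le_rfl h6 2 le_rfl fun _ => by decide
    rw [H61.card_pgl_two, Nat.card_eq_fintype_card (α := F), h6] at h8
    have : Finite (MulAut PSL(2, F)) := Nat.finite_of_card_ne_zero (by rw [h8]; decide)
    have h9 := rad ((center _).comap (QuotientGroup.mk' (oddCore H))) inferInstance (by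
      have : Group.IsSolvable (center (H ⧸ oddCore H)) :=
        Group.isSolvable_of_comm fun a b => Subtype.ext (mem_center_iff.1 b.2 a)
      refine Group.isSolvable_of_ker_le_range (inclusion (fun x hx => ?_ : oddCore H ≤ _))
        ((QuotientGroup.mk' (oddCore H)).subgroupComap (center _)) fun x hx =>
          ⟨⟨x.1, (QuotientGroup.eq_one_iff _).1 (congrArg Subtype.val hx)⟩, rfl⟩
      rw [mem_comap, QuotientGroup.mk'_apply, (QuotientGroup.eq_one_iff x).2 hx]
      exact one_mem _)
    rw [index_comap_of_surjective _ hs, index_eq_card, Nat.card_congr e3.toEquiv] at h9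
    have := h9.trans_le (card_le_card_group A)
    rw [h8] at this
    exact absurd this (by decide)
  · let ψ : SL(2, ZMod p) →* H ⧸ oddCore H := (L.subtype.comp e1.symm.toMonoidHom).comp
      (SpecialLinearGroup.map (ZMod.castHom dvd_rfl F))
    have hψ : Function.Injective ψ := inj.comp fun a b e => by
      ext i j
      exact (ZMod.castHom dvd_rfl F).injective (congrArg (fun g : SL(2, F) => g i j) e)
    let π := (MonoidHom.ofInjective hψ).symm.toMonoidHom.comp
      ((QuotientGroup.mk' (oddCore H)).subgroupComap ψ.range)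
    obtain ⟨θ, hθ⟩ := exists_lift (by omega) (hG.comap _ (subtype_injective _)) π
      ((MonoidHom.ofInjective hψ).symm.surjective.comp
        (MonoidHom.subgroupComap_surjective_of_surjective _ _ hs))
      ((H2.odd_card_oddCore H).of_dvd_nat (card_dvd_of_injective
        (((Subgroup.subtype _).comp π.ker.subtype).codRestrict (oddCore H) fun x =>
          (QuotientGroup.eq_one_iff _).1 (congrArg Subtype.val
            ((MonoidHom.ofInjective hψ).symm.map_eq_one_iff.1 x.2)))
        fun a b e => Subtype.ext (Subtype.ext (congrArg (fun x : oddCore H => x.1) e))))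
    exact no_sl h7 ((h.comp _ (subtype_injective _)).comp θ hθ)

theorem s5720 {H : Type*} [Group H] [Finite H] (hR : 120 < (solvableRadical H).index)
    (ρ : Representation K H V) :
    ∃ h : H, h ≠ 1 ∧ (finrank K V : ℚ) / 6 ≤ finrank K (LinearMap.ker (ρ h - 1)) := by
  by_contra hn
  push Not at hn
  refine no_small hR (Sm.baseChange (ρ := ρ) (fun g hg => ?_) (AlgebraicClosure K))
  have := hn g hg
  rw [lt_div_iff₀ (by norm_num), mul_comm] at this
  exact_mod_cast this

end H43.Fx
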