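/- S3275, chapter C4 part II: slot K4. -/
import Cfsg.Agent.H73.GSSpec

set_option autoImplicit false

namespace H43.GSK4

open Subgroup Cfsg H98 H48.DP H57.DPC H48.DP2 H98.DP0C H73.GS

universe u

theorem four {X : Type u} [Group X] [Finite X] {Y : Subgroup X} (h : Nat.card Y = 4) {a b c : X}
    (ha : a ∈ Y) (hb : b ∈ Y) (hc : c ∈ Y) (a1 : a ≠ 1) (b1 : b ≠ 1) (c1 : c ≠ 1) (ab : a ≠ b)
    (ac : a ≠ c) (bc : b ≠ c) : ∀ y ∈ Y, y = 1 ∨ y = a ∨ y = b ∨ y = c := by
  classical
  intro y hy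
  by_contra hn
  push Not at hn
  obtain ⟨h1, h2, h3, h4⟩ := hn
  have h5 : ({y, 1, a, b, c} : Finset X).card = 5 := by
    rw [Finset.card_insert_of_notMem (by simp [h1, h2, h3, h4]),
      Finset.card_insert_of_notMem (by simp [a1.symm, b1.symm, c1.symm]),
      Finset.card_insert_of_notMem (by simp [ab, ac]), Finset.card_pair bc]
  have h6 : (({y, 1, a, b, c} : Finset X) : Set X) ⊆ Y := by
    intro t ht
    simp only [Finset.coe_insert, Finset.coe_singleton, Set.mem_insert_iff,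
      Set.mem_singleton_iff] at ht
    rcases ht with rfl | rfl | rfl | rfl | rfl
    exacts [hy, one_mem Y, ha, hb, hc]
  have h7 := Set.ncard_le_ncard h6
  rw [Set.ncard_coe_finset, h5, ← Nat.card_coe_set_eq] at h7
  have h8 : Nat.card (Y : Set X) = 4 := h
  omega

/-- the Klein four group with its orbit of `x`. -/
theorem klein {X : Type u} [Group X] [Finite X] {Y : Subgroup X} {x : X} (h : Nat.card Y = 4)
    (x3 : orderOf x = 3) (xY : x ∈ No Y) (act : ¬ Y ≤ C1 x) :
    (∀ y ∈ Y, y * y = 1) ∧ (∀ y ∈ Y, x * y * x⁻¹ = y → y = 1) ∧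
      ¬ ∀ y ∈ Y, x * x * y * (x * x)⁻¹ = y := by
  obtain ⟨a, ha, hax⟩ := SetLike.not_le_iff_exists.1 act
  have hx3 : x * x * x = 1 := by rw [← pow_three', ← x3, pow_orderOf_eq_one]
  have cy : ∀ {y : X}, y ∈ Y → x * y * x⁻¹ ∈ Y := fun hy => conj_mem_of_mem_normalizer xY hy
  have ab : a ≠ x * a * x⁻¹ := fun e => hax (mem_centralizer_singleton_iff.2 (by
    conv_lhs => rw [e]
    group))
  have a1 : a ≠ 1 := fun e => ab (by rw [e]; group)
  have ca : x * (x * (x * a * x⁻¹) * x⁻¹) * x⁻¹ = a := by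
    calc _ = (x * x * x) * a * (x * x * x)⁻¹ := by group
      _ = a := by rw [hx3]; group
  have ac : a ≠ x * (x * a * x⁻¹) * x⁻¹ := fun e => ab (by rw [← e] at ca; exact ca.symm)
  have bc : x * a * x⁻¹ ≠ x * (x * a * x⁻¹) * x⁻¹ := fun e => ab (by simpa using e)
  have H := four h ha (cy ha) (cy (cy ha)) a1 (by simpa using a1) (by simpa using a1) ab ac bc
  have a4 : a * a * (a * a) = 1 := by
    have := congrArg Subtype.val (pow_card_eq_one' (G := Y) (x := ⟨a, ha⟩))
    rw [h] at this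
    calc _ = a ^ 4 := by simp only [pow_succ, pow_zero, one_mul, mul_assoc]
      _ = 1 := this
  have a2 : a * a = 1 := by
    rcases H _ (mul_mem ha ha) with e | e | e | e
    · exact e
    · rw [e] at a4; exact a4
    · rw [e] at a4
      calc a * a = x⁻¹ * (x * a * x⁻¹ * (x * a * x⁻¹)) * x := by group
        _ = 1 := by rw [a4]; group
    · rw [e] at a4
      calc a * a = x⁻¹ * x⁻¹ * (x * (x * a * x⁻¹) * x⁻¹ * (x * (x * a * x⁻¹) * x⁻¹)) * x * x := by
            group
        _ = 1 := by rw [a4]; group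
  refine ⟨fun y hy => ?_, fun y hy e => ?_, fun k => ac ?_⟩
  · rcases H y hy with rfl | rfl | rfl | rfl
    · simp
    · exact a2
    · calc _ = x * (a * a) * x⁻¹ := by group
        _ = 1 := by rw [a2]; group
    · calc _ = x * x * (a * a) * x⁻¹ * x⁻¹ := by group
        _ = 1 := by rw [a2]; group
  · rcases H y hy with rfl | rfl | rfl | rfl
    · rfl
    · exact absurd e.symm ab
    · exact absurd e.symm bc
    · exact absurd (ca.symm.trans e) ac
  · conv_lhs => rw [← k a ha]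
    group

theorem job : H73.GS.K4.{u} := by
  intro X _ _ Y x s q h h4 hS
  obtain ⟨sq, fx, nx⟩ := klein h4 h.x3 h.xY h.act
  have cs : ∀ {y : X}, y ∈ Y → s * y * s⁻¹ ∈ Y := fun hy => conj_mem_of_mem_normalizer h.sY hy
  have iv : ∀ y ∈ Y, y⁻¹ = y := fun y hy => inv_eq_of_mul_eq_one_left (sq y hy)
  have cm : ∀ a ∈ Y, ∀ b ∈ Y, a * b = b * a := fun a ha b hb => by
    rw [← iv _ (mul_mem ha hb), mul_inv_rev, iv a ha, iv b hb]
  have sx' : s * x⁻¹ * s⁻¹ = x := by
    calc _ = (s * x * s⁻¹)⁻¹ := by group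
      _ = x := by rw [h.sx, inv_inv]
  have s2 : s * s = 1 := fx _ h.s2 (by
    calc x * (s * s) * x⁻¹ = x * (s * (s * x⁻¹ * s⁻¹) * s⁻¹) * (s * s) := by group
      _ = s * s := by rw [sx', h.sx]; group)
  have si : s⁻¹ = s := inv_eq_of_mul_eq_one_left s2
  obtain ⟨v, hv, vs⟩ : ∃ v ∈ Y, s * v * s⁻¹ ≠ v := by
    by_contra hn
    push Not at hn
    refine nx fun y hy => ?_
    have k1 := hn _ (conj_mem_of_mem_normalizer' h.xY hy)
    have k2 := hn y hy
    calc x * x * y * (x * x)⁻¹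
        = x * (s * x⁻¹ * s⁻¹) * y * (x * (s * x⁻¹ * s⁻¹))⁻¹ := by rw [sx']
      _ = x * (s * (x⁻¹ * (s⁻¹ * y * s) * x) * s⁻¹) * x⁻¹ := by group
      _ = x * (s * (x⁻¹ * y * x) * s⁻¹) * x⁻¹ := by
          conv_lhs => rw [← k2]
          group
      _ = y := by rw [k1]; group
  have v1 : v ≠ 1 := fun e => vs (by rw [e]; group)
  obtain ⟨w, hw⟩ : ∃ w, w = s * v * s⁻¹ := ⟨_, rfl⟩
  have wY : w ∈ Y := hw ▸ cs hv
  have wv : w ≠ v := hw ▸ vs
  have w1 : w ≠ 1 := by rw [hw]; simpa using v1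
  have sw : s * w * s⁻¹ = v := by
    calc _ = (s * s) * v * (s * s)⁻¹ := by rw [hw]; group
      _ = v := by rw [s2]; group
  have j1 : w * v ≠ 1 := fun e => wv (by rw [eq_inv_of_mul_eq_one_left e, iv v hv])
  have H := four h4 hv wY (mul_mem wY hv) v1 w1 j1 wv.symm (by simpa using w1) (by simpa using v1)
  have sj : s * (w * v) * s⁻¹ = w * v := by
    calc _ = (s * w * s⁻¹) * (s * v * s⁻¹) := by group
      _ = _ := by rw [sw, ← hw, cm v hv w wY]
  have fix : ∀ y ∈ Y, s * y * s⁻¹ = y → y = 1 ∨ y = w * v := fun y hy e => by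
    rcases H y hy with k | k | k | k
    · exact .inl k
    · rw [k] at e; exact absurd e vs
    · rw [k, sw] at e; exact absurd e.symm wv
    · exact .inr k
  have inv : ∀ y ∈ Y, y * s * (y * s) = 1 → s * y * s⁻¹ = y := fun y hy e => by
    have : y * (s * y * s⁻¹) = 1 := by rw [si, ← e]; group
    rw [eq_inv_of_mul_eq_one_right this, iv y hy]
  have mt : ∀ t ∈ Y ⊔ zpowers s, t ∈ Y ∨ ∃ y ∈ Y, t = y * s := fun t ht =>
    (mem_two h.sY h.s2 ht).imp id fun k => ⟨_, k, by group⟩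
  have sT : s ∈ Y ⊔ zpowers s := mem_sup_right (mem_zpowers s)
  have cq : ∀ {t : X}, t ∈ Y ⊔ zpowers s → q * t * q⁻¹ ∈ Y ⊔ zpowers s := fun ht =>
    conj_mem_of_mem_normalizer h.qT ht
  -- `q` fixes `j = w v`
  have qj : q * (w * v) * q⁻¹ = w * v := by
    have e : q * (w * v) * q⁻¹ = q * (s * v) * q⁻¹ * (q * (s * v) * q⁻¹) := by
      rw [hw, si]; group
    have n1 : q * (w * v) * q⁻¹ ≠ 1 := by simpa using j1
    rcases mt _ (cq (mul_mem sT (mem_sup_left hv))) with k | ⟨y, hy, k⟩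
    · exact absurd (e.trans (sq _ k)) n1
    · rw [k] at e
      have e' : q * (w * v) * q⁻¹ = y * (s * y * s⁻¹) := by rw [e, si]; group
      rcases H y hy with rfl | rfl | rfl | rfl
      · exact absurd (e'.trans (by group)) n1
      · rw [e', ← hw, cm _ hy w wY]
      · rw [e', sw]
      · rw [sj] at e'
        exact absurd (e'.trans (sq _ hy)) n1
  have fq : ∀ y ∈ Y, s * y * s⁻¹ = y → q * y * q⁻¹ = y := fun y hy e => by
    rcases fix y hy e with rfl | rfl
    · group
    · exact qj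
  by_contra hq
  have hu : q * v * q⁻¹ ∉ Y := fun k => hq (mem_normalizer_of_cj_le (by
    rintro _ ⟨y, hy, rfl⟩
    show q * y * q⁻¹ ∈ Y
    rcases H y hy with rfl | rfl | rfl | rfl
    · simp
    · exact k
    · have : q * y * q⁻¹ = q * (y * v) * q⁻¹ * (q * v * q⁻¹)⁻¹ := by group
      rw [this, qj]
      exact mul_mem (mul_mem hy hv) (inv_mem k)
    · rw [qj]; exact hy))
  obtain ⟨y', hy', hu'⟩ := (mt _ (cq (mem_sup_left hv))).resolve_left hu
  have sy' : s * y' * s⁻¹ = y' := inv y' hy' (by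
    rw [← hu']
    calc _ = q * (v * v) * q⁻¹ := by group
      _ = 1 := by rw [sq v hv]; group)
  have vT : v ∈ Y ⊔ zpowers s ⊔ zpowers q := mem_sup_left (mem_sup_left hv)
  have qT : q ∈ Y ⊔ zpowers s ⊔ zpowers q := mem_sup_right (mem_zpowers q)
  have key : ∀ g ∈ Y ⊔ zpowers s ⊔ zpowers q, ∀ y ∈ Y, g * g = y * s → s * y * s⁻¹ = y := by
    intro g hg y hy e
    rcases hS g hg v vT with k | k
    · refine inv y hy ?_
      rw [← e, ← k]; simp only [pow_succ, pow_zero, one_mul, mul_assoc]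
    · rw [e] at k
      refine absurd ?_ vs
      have k' : v * (y * s) = y * s * v := k
      calc s * v * s⁻¹ = y⁻¹ * (y * s * v) * s⁻¹ := by group
        _ = y⁻¹ * (v * y) := by rw [← k']; group
        _ = v := by rw [cm v hv y hy]; group
  rcases mt _ h.q2 with k | ⟨y, hy, k⟩
  · have qq : q * (q * q) * q⁻¹ = q * q := by group
    have sqq : s * (q * q) * s⁻¹ = q * q := by
      rcases H _ k with e | e | e | e
      · rw [e]; group
      · rw [e] at qq; exact absurd (qq.symm ▸ hv) hu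
      · rw [e] at qq
        refine absurd ?_ hu
        have : q * v * q⁻¹ = (q * w * q⁻¹)⁻¹ * (q * (w * v) * q⁻¹) := by group
        rw [this, qq, qj]
        exact mul_mem (inv_mem wY) (mul_mem wY hv)
      · rw [e]; exact sj
    have := key (q * v) (mul_mem qT vT) (y' * (q * q) * w) (mul_mem (mul_mem hy' k) wY) (by
      calc q * v * (q * v) = (q * v * q⁻¹) * (q * q) * v := by group
        _ = y' * (s * (q * q) * s⁻¹) * (s * v * s⁻¹) * s := by rw [hu']; group
        _ = _ := by rw [sqq, ← hw])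
    refine wv ?_
    have e : s * (y' * (q * q) * w) * s⁻¹ = y' * (q * q) * v := by
      calc _ = (s * y' * s⁻¹) * (s * (q * q) * s⁻¹) * (s * w * s⁻¹) := by group
        _ = _ := by rw [sy', sqq, sw]
    exact mul_left_cancel (this.symm.trans e)
  · have qy := fq y hy (key q qT y hy k)
    have qs : q * s * q⁻¹ = s := by
      calc q * s * q⁻¹ = (q * y * q⁻¹)⁻¹ * (q * (y * s) * q⁻¹) := by group
        _ = y⁻¹ * (q * q) := by rw [qy, ← k]; group
        _ = s := by rw [k]; group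
    have e : q * (y' * s) * q⁻¹ = y' * s := by
      calc _ = (q * y' * q⁻¹) * (q * s * q⁻¹) := by group
        _ = _ := by rw [fq y' hy' sy', qs]
    have e2 : y' * s = v := by
      have := e.trans hu'.symm
      simpa using this
    exact hu (by rw [hu', e2]; exact hv)

end H43.GSK4
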