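import Cfsg.Agent.H43.KFAsm
import Cfsg.Agent.S2066
import Cfsg.Agent.S2067
import Cfsg.Agent.S2068
import Cfsg.Agent.S2076
import Cfsg.Agent.S2077
import Cfsg.Agent.S2082
import Cfsg.Agent.S2083
import Cfsg.Agent.S0399
import Cfsg.Agent.S1620
import Cfsg.Agent.S1625
import Cfsg.Agent.S1694
import Cfsg.Agent.S1695
import Cfsg.Agent.S1696
import Cfsg.Agent.S1697
import Cfsg.Agent.S1698
import Cfsg.Agent.S1699
import Cfsg.Agent.S1700
import Cfsg.Agent.S1701
import Cfsg.Agent.S1702
import Cfsg.Agent.S1703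
import Cfsg.Agent.H72.Mathieu
import Cfsg.Agent.H74.J1M
import Cfsg.Agent.H77.Simple
import Cfsg.Agent.H79.RuGrp

/-! # Job 181: outer automorphism groups and simplicity of the sporadic groups, collected. -/

set_option autoImplicit false

namespace H43.KF

open Cfsg

theorem sporO_of_card {K : Type*} [Group K] {n : ℕ} (h : Nat.card (Out K) = n)
    (hn : n ∣ 4 := by decide) : SporO K := fun _ _ => isPGroup_of_card_dvd_four (h ▸ hn)

theorem allSporO (hFi : SporO Spor.Fi24') (hB : SporO Spor.BabyMonster)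
    (hM : SporO Spor.Monster) : AllSpor fun K _ => SporO K where
  m11 := sporO_of_card Cfsg.Agent.S2060.result
  m12 := sporO_of_card Cfsg.Agent.S2061.result
  m22 := sporO_of_card Cfsg.Agent.S2062.result
  m23 := sporO_of_card Cfsg.Agent.S2063.result
  m24 := sporO_of_card Cfsg.Agent.S2064.result
  j1 := sporO_of_card Cfsg.Agent.S2065.result
  j2 := sporO_of_card Cfsg.Agent.S2066.result
  j4 := sporO_of_card Cfsg.Agent.S2068.result
  co1 := sporO_of_card Cfsg.Agent.S2069.result
  co2 := sporO_of_card Cfsg.Agent.S2070.result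
  co3 := sporO_of_card Cfsg.Agent.S2071.result
  mcl := sporO_of_card Cfsg.Agent.S2073.result
  hs := sporO_of_card Cfsg.Agent.S2072.result
  suz := sporO_of_card Cfsg.Agent.S2074.result
  he := sporO_of_card Cfsg.Agent.S2075.result
  ru := sporO_of_card Cfsg.Agent.S2077.result
  on := sporO_of_card Cfsg.Agent.S2078.result
  ly := sporO_of_card Cfsg.Agent.S2076.result
  fi22 := sporO_of_card Cfsg.Agent.S2079.result
  fi23 := sporO_of_card Cfsg.Agent.S2080.result
  hn := sporO_of_card Cfsg.Agent.S2082.result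
  th := sporO_of_card Cfsg.Agent.S2083.result
  j3 _ _ _ ω h1 h2 := sporO_of_card (Cfsg.Agent.S2067.result h1 ω h2)
  fi24 := hFi
  b := hB
  m := hM

theorem allSporS (hB : SporS Spor.BabyMonster) (hM : SporS Spor.Monster) :
    AllSpor fun K _ => SporS K where
  m11 _ := H72.simple_M11
  m12 _ := H72.simple_M12
  m22 _ := H72.simple_M22
  m23 _ := H72.simple_M23
  m24 _ := H72.simple_M24
  j1 _ := H74.J1.simple_J1
  j2 _ := Cfsg.Agent.S1620.result.1
  j4 _ := Cfsg.Agent.S1703.result.1
  co1 _ := Cfsg.Agent.S0399.result.1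
  co2 _ := H77.simple_Co2
  co3 _ := H77.simple_Co3
  mcl _ := H77.simple_McL
  hs _ := H77.simple_HS
  suz _ := Cfsg.Agent.S1694.result.1
  he _ := Cfsg.Agent.S1695.result.1
  ru _ := H79.Ru.simple
  on _ := Cfsg.Agent.S1699.result.1
  ly _ := Cfsg.Agent.S1702.result.1
  fi22 _ := Cfsg.Agent.S1696.result.1
  fi23 _ := Cfsg.Agent.S1697.result.1
  fi24 _ := Cfsg.Agent.S1698.result.1
  hn _ := Cfsg.Agent.S1701.result.1
  th _ := Cfsg.Agent.S1700.result.1
  j3 F _ _ ω h1 h2 _ := (Cfsg.Agent.S1625.result F h1 ω h2).2.2.2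
  b := hB
  m := hM

/-- The Schreier property from the three outstanding outer automorphism groups. -/
theorem schreier_of_three (hFi : SporO Spor.Fi24') (hB : SporO Spor.BabyMonster)
    (hM : SporO Spor.Monster) : H15.KF.Schreier := by
  have h := allSporO hFi hB hM
  have k : ∀ {K : Type} [Group K], SporO K → H15.KF.SO K := fun h hf hs _ =>
    solvable_of_isPGroup_out (h hf hs)
  exact H15.KF.schreier_of (k h.j2) (fun F _ _ ω h1 h2 => k (h.j3 F ω h1 h2)) (k h.j4) (k h.ru)
    (k h.ly) (k h.fi24) (k h.hn) (k h.th) (k h.b) (k h.m)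

end H43.KF
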