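import Cfsg.Agent.H63.KgvSpec
import Cfsg.Agent.H28.CharCenter

/-! KGV-JSF: the faithful case of the structure of non-linear characters of nilpotent groups. -/

set_option autoImplicit false

namespace H43.KgvSF

open Cfsg

universe u

theorem job : H63.Kgv.JSF.{u} := by
  intro sg sa sb E _ _ χ q hN hχ h1 hq hpow hf
  have hk : H28.charKer χ = ⊥ := by
    rw [eq_bot_iff]
    intro g hg
    rw [Subgroup.mem_bot]
    exact hf g (H28.apply_of_mem_charKer hg)
  have hZ : IsCyclic (Subgroup.center E) := H28.Cfsg.IsIrrCharacter.isCyclic_center hχ hk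
  have hna : ¬ (∀ a b : E, a * b = b * a) := fun h =>
    h1 (H28.Cfsg.IsIrrCharacter.apply_one_of_comm hχ h)
  rcases sg E hN hZ hna with ⟨r, z, a, hr, hz, hzc, ha, hac, hy⟩ | ⟨H, hH, hi⟩
  · obtain ⟨H, hHn, x, φ, hid, h2, h3⟩ := sa E χ q r z a hχ hq hpow hf hr hz hzc ha hac hy
    exact ⟨H, hHn, r, x, φ, hid, Or.inl ⟨h2, h3⟩⟩
  · haveI hHn : H.Normal := Subgroup.normal_of_index_eq_two hi
    obtain ⟨x, φ, hid, h⟩ := sb E χ q H hχ h1 hq hpow hH hi
    refine ⟨H, hHn, 2, x, φ, hid, ?_⟩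
    rcases h with h | h
    · exact Or.inl h
    · exact Or.inr ⟨rfl, h⟩

end H43.KgvSF
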