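/- S3275, chapter U0, section B: slot XL. -/
import Cfsg.Agent.H92.DP0BSpec
import Cfsg.Agent.H2.PrimeCore

set_option autoImplicit false

namespace H43.U0XL

open Subgroup Cfsg H98 H48.DP H57.DPC H48.DP2 H92.DPB

universe u

section

variable {Y X : Type u} [Group Y] [Group X]

theorem el_map {A : Subgroup Y} (h : IsElementaryAbelian 3 A) (f : Y →* X) :
    IsElementaryAbelian 3 (A.map f) := by
  refine el_of ?_ ?_
  · rintro _ ⟨a, ha, rfl⟩ _ ⟨b, hb, rfl⟩; exact (el_comm h ha hb).map _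
  · rintro _ ⟨a, ha, rfl⟩; rw [← map_pow, h.2 a ha, map_one]

theorem card_map_le' [Finite Y] (A : Subgroup Y) (f : Y →* X) :
    Nat.card (A.map f) ≤ Nat.card A :=
  Nat.le_of_dvd Nat.card_pos (card_map_dvd A f)

theorem card_map_eq {A : Subgroup Y} {f : Y →* X} (h : ∀ a ∈ A, f a = 1 → a = 1) :
    Nat.card (A.map f) = Nat.card A := by
  refine (Nat.card_congr (Equiv.ofBijective (f.subgroupMap A) ⟨?_, f.subgroupMap_surjective A⟩)).symm
  rw [injective_iff_map_eq_one]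
  intro a ha
  exact Subtype.ext (h a a.2 (congrArg Subtype.val ha))

theorem inj3 [Finite Y] {π : Y →* X} (hk : (Nat.card π.ker).Coprime 3) {S : Subgroup Y}
    (hS : IsPGroup 3 S) : ∀ a ∈ S, π a = 1 → a = 1 := by
  intro a ha h1
  obtain ⟨k, hk'⟩ := isPGroup_iff_forall.1 hS a ha
  have d1 : orderOf a ∣ 3 ^ k := orderOf_dvd_of_pow_eq_one hk'
  have d2 : orderOf a ∣ Nat.card π.ker := (π.ker).orderOf_dvd_natCard h1
  exact orderOf_eq_one_iff.1 (Nat.eq_one_of_self_dvd_coprime d2 d1 hk)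
where
  Nat.eq_one_of_self_dvd_coprime {a n k : ℕ} (h1 : a ∣ n) (h2 : a ∣ 3 ^ k) (h : n.Coprime 3) :
      a = 1 := Nat.eq_one_of_dvd_coprimes (h.pow_right k) h1 h2

theorem lift_map [Finite Y] {π : Y →* X} (hs : Function.Surjective π) {A : Subgroup X}
    (hA : IsPGroup 3 A) {S : Subgroup Y} (hS : IsSyl 3 S (A.comap π)) : S.map π = A := by
  have : Fact (Nat.Prime 3) := ⟨Nat.prime_three⟩
  have h := hS.map π
  rw [map_comap_eq_self_of_surjective hs] at h
  exact h.eq_of_isPGroup hA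

theorem lift_e27 [Finite Y] {π : Y →* X} (hs : Function.Surjective π)
    (hk : (Nat.card π.ker).Coprime 3) {A : Subgroup X} (hA : E27 A) {S : Subgroup Y}
    (hS : IsSyl 3 S (A.comap π)) : E27 S := by
  have hi := inj3 hk hS.isPGroup
  refine ⟨el_of (fun a ha b hb => ?_) fun a ha => ?_, ?_⟩
  · have c : Commute (π a) (π b) := el_comm hA.1 (hS.le ha) (hS.le hb)
    have := hi (a * b * (b * a)⁻¹) (mul_mem (mul_mem ha hb) (inv_mem (mul_mem hb ha)))
      (by rw [map_mul, map_inv, map_mul, map_mul, c.eq, mul_inv_cancel])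
    exact mul_inv_eq_one.1 this
  · exact hi _ (pow_mem ha 3) (by rw [map_pow]; exact hA.1.2 _ (hS.le ha))
  · have := card_map_le' S π
    rw [lift_map hs (el_pg hA.1) hS] at this
    exact hA.2.trans this

theorem transfer [Finite Y] [Finite X] {π : Y →* X} (hs : Function.Surjective π)
    (hk : (Nat.card π.ker).Coprime 3) {W : Subgroup Y} (hW : π.ker ≤ W)
    (t : ∀ (B : Subgroup Y) (g : Y), E27 B → B ≤ W → cj g B ≤ W → g ∈ W)
    (n : ∀ A : Subgroup Y, InU W A → 9 ≤ Nat.card A → No A ≤ W) :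
    (∀ (B : Subgroup X) (g : X), E27 B → B ≤ W.map π → cj g B ≤ W.map π → g ∈ W.map π) ∧
    ∀ A : Subgroup X, InU (W.map π) A → 9 ≤ Nat.card A → No A ≤ W.map π := by
  have : Fact (Nat.Prime 3) := ⟨Nat.prime_three⟩
  have e : (W.map π).comap π = W := comap_map_eq_self hW
  refine ⟨fun B g hB h1 h2 => ?_, fun A ⟨B, h1, hB, h2⟩ h9 g hg => ?_⟩
  · obtain ⟨g, rfl⟩ := hs g
    obtain ⟨S, hS⟩ := exists_isSyl 3 (B.comap π)
    refine mem_map_of_mem π (t S g (lift_e27 hs hk hB hS) (hS.le.trans ?_) ?_)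
    · rw [← e]; exact comap_mono h1
    · rw [← e, ← map_le_iff_le_comap, map_cj, lift_map hs (el_pg hB.1) hS]
      exact h2
  · obtain ⟨g, rfl⟩ := hs g
    obtain ⟨T, hT⟩ := exists_isSyl 3 (A.comap π)
    obtain ⟨S, hS, hTS⟩ := exists_isSyl_le (H := B.comap π) hT.isPGroup
      (hT.le.trans (comap_mono h2))
    have hBW : B.comap π ≤ W := by rw [← e]; exact comap_mono h1
    have hN : No T ≤ W := n T ⟨S, hS.le.trans hBW, lift_e27 hs hk hB hS, hTS⟩ (by
      have := card_map_le' T π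
      rw [lift_map hs (el_pg (el_le hB.1 h2)) hT] at this
      exact h9.trans this)
    have hg' : g ∈ No (A.comap π) := comap_le_normalizer_comap π (H := No A) le_rfl hg
    obtain ⟨a, ha, m, hm, rfl⟩ := hT.frattini_mem hg'
    exact mem_map_of_mem π (mul_mem (hN ha) (hBW (comap_mono h2 hm)))

theorem p3_of [Finite X] {N : Subgroup X}
    (t : ∀ (B : Subgroup X) (g : X), E27 B → B ≤ N → cj g B ≤ N → g ∈ N) (B R : Subgroup X)
    (hB : E27 B) (h1 : B ≤ N) (h2 : B ≤ R) (hR : IsPGroup 3 R) : R ≤ N := by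
  have : Fact (Nat.Prime 3) := ⟨Nat.prime_three⟩
  by_contra hn
  have h3 : N ⊓ R < R := lt_of_le_of_ne inf_le_right fun e => hn (e ▸ inf_le_left)
  obtain ⟨g, hg, hg'⟩ := SetLike.exists_of_lt (lt_inf_normalizer hR h3)
  exact hg' ⟨t B g hB h1 ((cj_le_of_le (le_inf h1 h2) hg.2).trans inf_le_left), hg.1⟩

end

theorem jobXL : H92.DPB.JobXL.{u} := by
  intro xs k3 G _ _ M Q H B h hH hB hBH
  have : Fact (Nat.Prime 3) := ⟨Nat.prime_three⟩
  have : Fact (Nat.Prime 2) := ⟨Nat.prime_two⟩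
  have hc : ∀ A : Subgroup H, Nat.card (A.map H.subtype) = Nat.card A := fun A =>
    card_map_of_injective H.subtype_injective
  have hO : O3p H ≤ M := by
    refine (k3 G M Q h B hB (hBH.trans inf_le_right)).1 _ ?_
      ((hBH.trans inf_le_left).trans (le_normalizer_map_subtype _))
    rw [hc]
    exact H2.not_dvd_card_pPrimeCore 3 H
  have ho := H2.pPrimeCore_quotient_pPrimeCore 3 H
  have h2 : pCore 2 (H ⧸ pPrimeCore 3 H) = ⊥ :=
    le_bot_iff.1 (ho ▸ H2.pCore_le_pPrimeCore_of_ne (by norm_num))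
  have hk : (Nat.card (QuotientGroup.mk' (pPrimeCore 3 H)).ker).Coprime 3 := by
    rw [QuotientGroup.ker_mk']
    exact H2.coprime_card_pPrimeCore 3 H
  have hE : ∀ A : Subgroup H, E27 A → E27 (A.map H.subtype) := fun A hA =>
    ⟨el_map hA.1 _, by rw [hc]; exact hA.2⟩
  obtain ⟨t, n⟩ := transfer (QuotientGroup.mk'_surjective (pPrimeCore 3 H)) hk
    (W := M.subgroupOf H) (by rw [QuotientGroup.ker_mk']; exact map_le_iff_le_comap.1 hO)
    (fun A g hA h1 h2 => h.t27 (A.map H.subtype) g (hE A hA) (map_le_iff_le_comap.2 h1)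
      (by rw [← H.subtype_apply g, ← map_cj]; exact map_le_iff_le_comap.2 h2))
    (fun A ⟨C, h1, hC, h2⟩ h9 g hg => h.n9 (A.map H.subtype)
      ⟨C.map H.subtype, map_le_iff_le_comap.2 h1, hE C hC, map_mono h2⟩ (by rw [hc]; exact h9)
      (map_le_normalizer_map H.subtype (H := No A) le_rfl (mem_map_of_mem _ hg)))
  refine ⟨hO, { xs G h.toHyp H hH _ h2 with
    o := ho, e27 := ?_, t27 := t, n9 := n, p3 := p3_of t }⟩
  have hBe : (B.subgroupOf H).map H.subtype = B :=
    map_subgroupOf_eq_of_le (hBH.trans inf_le_left)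
  have hB' : IsElementaryAbelian 3 (B.subgroupOf H) :=
    el_of (fun a ha b hb => Subtype.ext (el_comm hB.1 ha hb)) fun a ha =>
      Subtype.ext (hB.1.2 a ha)
  refine ⟨(B.subgroupOf H).map (QuotientGroup.mk' (pPrimeCore 3 H)),
    map_mono (comap_mono (hBH.trans inf_le_right)), el_map hB' _, ?_⟩
  rw [card_map_eq (inj3 hk (el_pg hB')), ← hc, hBe]
  exact hB.2

end H43.U0XL
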