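/- S3275, chapter alpha: slot PK1. -/
import Cfsg.Agent.H48.DNASpec
import Cfsg.Agent.H43.U0XL

set_option autoImplicit false

namespace H43.NAPK1

open Subgroup Cfsg H98 H48.DP H57.DPC H48.DP2 H26.DA H43.U0XL
open scoped commutatorElement

universe u

theorem no_zp {G : Type u} [Group G] [Finite G] {r x : G} (h : r * x * r⁻¹ ∈ zpowers x) :
    r ∈ No (zpowers x) := mem_normalizer_of_cj_le
  ((MonoidHom.map_zpowers (MulAut.conj r).toMonoidHom x).le.trans (zpowers_le.2 h))

theorem job : H48.DP2.JPK1.{u} := by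
  intro lr fu g1 G _ _ M Q y h
  have : Fact (Nat.Prime 3) := ⟨Nat.prime_three⟩
  obtain ⟨B, BM, hB, yB⟩ := h.inU
  have yB' : y ∈ B := yB (mem_zpowers y)
  have BH : B ≤ C1 y := fun b hb =>
    mem_centralizer_singleton_iff.2 (H92.DPB.el_comm hB.1 hb yB').eq
  obtain ⟨K, comp, u33, sup, rk, -, out⟩ := h.al
  obtain ⟨S3, hS3, BS⟩ := exists_isSyl_le (H92.DPB.el_pg hB.1) BH
  have SM : S3 ≤ M := p3_of h.t27 B S3 hB BM BS hS3.isPGroup
  have hs : Function.Surjective (pm (C1 y)) := QuotientGroup.mk'_surjective _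
  have hk : (Nat.card (pm (C1 y)).ker).Coprime 3 := by
    rw [QuotientGroup.ker_mk']
    exact H2.coprime_card_pPrimeCore 3 _
  have Kn : K.Normal := normal_of_top_le_normalizer
    (sup ▸ sup_le le_normalizer (centralizer_le_normalizer _))
  obtain ⟨P', hP'⟩ : ∃ P' : Subgroup (C1 y),
      P' = S3.subgroupOf (C1 y) ⊓ K.comap (pm (C1 y)) := ⟨_, rfl⟩
  have syl : IsSyl 3 P' (K.comap (pm (C1 y))) := by
    rw [hP']
    exact hS3.subgroupOf_top.inf_of_le_normalizer le_top
      (by rw [normalizer_eq_top_iff.2 (Kn.comap _)]; exact le_top)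
  have syl' : IsSyl 3 (P'.map (pm (C1 y))) K := by
    have := syl.map (pm (C1 y))
    rwa [map_comap_eq_self_of_surjective hs] at this
  obtain ⟨P0, S, z0, r0, le0, F⟩ := fu _ K _ u33 syl'.le syl'.isPGroup
  obtain rfl : P0 = P'.map (pm (C1 y)) := syl'.eq_of_le F.syl.isPGroup le0 F.syl.le
  have hi := inj3 hk syl.isPGroup
  have hi' : ∀ a ∈ P', ∀ b ∈ P', pm (C1 y) a = pm (C1 y) b → a = b := fun a ha b hb e =>
    mul_inv_eq_one.1 (hi _ (mul_mem ha (inv_mem hb)) (by rw [map_mul, map_inv, e, mul_inv_cancel]))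
  have cP : ⁅P', P'⁆ ≤ P' := commutator_le.2 fun a ha b hb =>
    mul_mem (mul_mem (mul_mem ha hb) (inv_mem ha)) (inv_mem hb)
  have der0 : ⁅P', P'⁆.map (pm (C1 y)) = zpowers z0 := by rw [map_commutator, F.der]
  obtain ⟨z, hz, rfl⟩ : z0 ∈ ⁅P', P'⁆.map (pm (C1 y)) := der0 ▸ mem_zpowers z0
  have zP : z ∈ P' := cP hz
  have der : ⁅P', P'⁆ = zpowers z := by
    refine le_antisymm (fun a ha => ?_) (zpowers_le.2 hz)
    obtain ⟨n, hn⟩ : pm (C1 y) a ∈ zpowers (pm (C1 y) z) := der0 ▸ mem_map_of_mem _ ha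
    exact ⟨n, hi' _ (zpow_mem zP n) _ (cP ha) (by rw [map_zpow]; exact hn)⟩
  have ex : ∀ p ∈ P', p ^ 3 = 1 := fun p hp =>
    hi _ (pow_mem hp 3) (by rw [map_pow]; exact F.ex _ (mem_map_of_mem _ hp))
  obtain ⟨r, rP, rfl, r2⟩ := (lr _ _ (pm (C1 y)) hs
    (fun k => by simpa using Nat.eq_one_of_dvd_coprimes hk k dvd_rfl)).1 P' syl.isPGroup r0 F.rP
  have rz : r * z * r⁻¹ = z⁻¹ := hi' _ (conj_mem_of_mem_normalizer rP zP) _ (inv_mem zP) (by
    rw [map_mul, map_mul, map_inv, map_inv]; exact F.rz)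
  have z3 : orderOf z = 3 := orderOf_eq_prime (ex z zP) fun e => by
    have := F.z3
    rw [e, map_one, orderOf_one] at this
    omega
  have e1 : (P'.map (C1 y).subtype).subgroupOf (C1 y) = P' :=
    comap_map_eq_self_of_injective (C1 y).subtype_injective _
  have lt : Lt (P'.map (C1 y).subtype) y z r := by
    refine ⟨h.y3, by rw [orderOf_coe]; exact z3, map_subtype_le _, ?_, ?_, ?_, ?_, ?_,
      mem_centralizer_singleton_iff.1 r.2, congrArg Subtype.val rz⟩
    · rw [card_map_of_injective (C1 y).subtype_injective, ← card_map_eq hi]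
      exact F.card
    · rintro _ ⟨p, hp, rfl⟩
      exact congrArg Subtype.val (ex p hp)
    · rw [← map_commutator, der, MonoidHom.map_zpowers]
      rfl
    · rintro _ ⟨p, hp, rfl⟩
      have := hi' (p * z) (mul_mem hp zP) (z * p) (mul_mem zP hp) (by
        rw [map_mul, map_mul]
        exact mem_centralizer_singleton_iff.1 (F.zc (mem_map_of_mem _ hp)))
      exact mem_centralizer_singleton_iff.2 (congrArg Subtype.val this)
    · rintro ⟨p, hp, e⟩
      have c : Commute p r := Subtype.ext (by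
        have : (p : G) = y := e
        rw [coe_mul, coe_mul, this]
        exact (mem_centralizer_singleton_iff.1 r.2).symm)
      have p1 := hi p hp (F.cr _ (F.syl.le (mem_map_of_mem _ hp))
        (F.ex _ (mem_map_of_mem _ hp)) (c.map _))
      have := h.y3
      rw [← e, p1, map_one, orderOf_one] at this
      omega
  have PM : P'.map (C1 y).subtype ≤ M := by
    rintro _ ⟨p, hp, rfl⟩
    rw [hP'] at hp
    exact SM hp.1
  have yM : y ∈ M := BM yB'
  obtain ⟨⟨B0, hB0, l0, y0, z0⟩, -⟩ := g1 G M Q _ y z r h.toUa lt PM yM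
  have nA : No (zpowers y ⊔ zpowers (z : G)) ≤ M := by
    refine h.n9 _ ⟨B0, l0.trans (sup_le PM (zpowers_le.2 yM)), hB0,
      sup_le (zpowers_le.2 y0) (zpowers_le.2 z0)⟩ (H92.DPB.e9 lt.y3 lt.z3
        (H92.DPB.el_comm hB0.1 y0 z0) fun k => lt.yP ?_).2.ge
    exact zpowers_le.2 (mem_map_of_mem (C1 y).subtype zP) k
  refine ⟨P'.map (C1 y).subtype, z, r, K, S, h, lt, yM, PM, nA ?_, ?_, ?_, nA, comp, u33, sup, rk,
    out, by rw [e1]; exact F⟩
  · refine le_normalizer_sup (H := zpowers (r : G)) (zpowers_le.2 (no_zp ?_))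
      (zpowers_le.2 (no_zp ?_)) (mem_zpowers _)
    · rw [lt.ry.eq, mul_inv_cancel_right]; exact mem_zpowers y
    · rw [lt.rz]; exact inv_mem (mem_zpowers _)
  · have := (r2 F.r2).map (C1 y).subtype
    rwa [MonoidHom.map_zpowers] at this
  · exact map_le_normalizer_map (C1 y).subtype (H := No P') le_rfl (mem_map_of_mem _ rP)

end H43.NAPK1
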