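/- Invariant subspaces of the four-dimensional orthogonal spaces over the field with two elements. -/
import Cfsg.Agent.Base

set_option autoImplicit false

namespace H43.O6C

/-- the polar form on bit vectors -/
def bb (i j : ℕ) : Bool := (i.testBit 0 && j.testBit 1) ^^ (i.testBit 1 && j.testBit 0) ^^
  (i.testBit 2 && j.testBit 3) ^^ (i.testBit 3 && j.testBit 2)

/-- the quadratic form on bit vectors -/
def qq (δ : Bool) (i : ℕ) : Bool := (i.testBit 0 && i.testBit 1) ^^ i.testBit 2 ^^
  (i.testBit 2 && i.testBit 3) ^^ (δ && i.testBit 3)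

/-- an Eichler transformation on bit vectors -/
def mv (u a x : ℕ) : ℕ := x ^^^ (bif bb a x then u else 0) ^^^ (bif bb u x then a ^^^ u else 0)

def cl (k n : ℕ) : Bool := (List.range k).all fun i => !n.testBit i ||
  (List.range k).all fun j => !n.testBit j || n.testBit (i ^^^ j)

def iv (δ : Bool) (n : ℕ) : Bool := (List.range 16).all fun u => u == 0 || qq δ u ||
  (List.range 16).all fun a => !qq δ a || bb u a ||
    (List.range 16).all fun x => !n.testBit x || n.testBit (mv u a x)

def cc (n : ℕ) : Bool := (List.range 16).all n.testBit ||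
  (((List.range 16).all fun x => !n.testBit x || x == 0 ||
    (List.range 16).any fun y => n.testBit y && bb x y) &&
  (List.range 16).any fun c => !n.testBit c && (List.range 16).any fun c1 => bb c c1 &&
    (List.range 16).all fun y => !n.testBit y || (!bb c y && !bb c1 y))

theorem comb : ((List.range 256).all fun l => !(l.testBit 0 && cl 8 l) ||
    (List.range 256).all fun h => !cl 16 (256 * h + l) ||
      !(iv false (256 * h + l) || iv true (256 * h + l)) || cc (256 * h + l)) = true := by
  decide +kernel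

theorem xor_lt {k i j : ℕ} (hi : i < 2 ^ k) (hj : j < 2 ^ k) : i ^^^ j < 2 ^ k :=
  Nat.xor_lt_two_pow hi hj

theorem mv_lt {u a x : ℕ} (hu : u < 16) (ha : a < 16) (hx : x < 16) : mv u a x < 16 := by
  refine xor_lt (k := 4) (xor_lt (k := 4) hx ?_) ?_
  · cases bb a x <;> simp [hu]
  · cases bb u x
    · simp
    · exact xor_lt (k := 4) ha hu

theorem nondeg : ∀ i < 16, i ≠ 0 → ∃ j < 16, bb i j = true := by decide

theorem bits : ∀ b0 b1 b2 b3 : Bool, ∃ i < 16, Nat.testBit i 0 = b0 ∧ Nat.testBit i 1 = b1 ∧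
    Nat.testBit i 2 = b2 ∧ Nat.testBit i 3 = b3 := by decide

theorem main (P : ℕ → Prop) (δ : Bool) (h0 : P 0) (hadd : ∀ i j, P i → P j → P (i ^^^ j))
    (hmv : ∀ u < 16, ∀ a x, u ≠ 0 → qq δ u = false → qq δ a = true → bb u a = false → P x →
      P (mv u a x)) :
    (∀ i < 16, P i) ∨ ((∀ x < 16, P x → (∀ y < 16, P y → bb x y = false) → x = 0) ∧
      ∃ c c1, bb c c1 = true ∧ ¬ P c ∧ ∀ y < 16, P y → bb c y = false ∧ bb c1 y = false) := by
  classical
  obtain ⟨n, hn, ht⟩ : ∃ n < 2 ^ 16, ∀ i < 16, n.testBit i = true ↔ P i :=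
    ⟨Nat.ofBits fun i : Fin 16 => decide (P i), Nat.ofBits_lt_two_pow _, fun i hi => by
      rw [Nat.testBit_ofBits_lt _ _ hi, decide_eq_true_iff]⟩
  have hl : ∀ i < 8, (n % 256).testBit i = n.testBit i := fun i hi => by
    rw [show 256 = 2 ^ 8 from rfl, Nat.testBit_mod_two_pow]; simp [hi]
  have h1 := List.all_eq_true.1 comb (n % 256) (List.mem_range.2 (Nat.mod_lt _ (by norm_num)))
  have c8 : ((n % 256).testBit 0 && cl 8 (n % 256)) = true := by
    simp only [cl, Bool.and_eq_true, List.all_eq_true, List.mem_range, Bool.or_eq_true,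
      Bool.not_eq_true', ← Bool.not_eq_true, ← imp_iff_not_or]
    refine ⟨by rw [hl 0 (by norm_num), ht 0 (by norm_num)]; exact h0, fun i hi ti j hj tj => ?_⟩
    have := xor_lt (k := 3) hi hj
    rw [hl _ hi, ht _ (by omega)] at ti
    rw [hl _ hj, ht _ (by omega)] at tj
    rw [hl _ this, ht _ (by omega)]
    exact hadd i j ti tj
  rw [c8, Bool.not_true, Bool.false_or] at h1
  have h2 := List.all_eq_true.1 h1 (n / 256) (List.mem_range.2 (by omega))
  rw [Nat.div_add_mod] at h2
  have c16 : cl 16 n = true := by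
    simp only [cl, List.all_eq_true, List.mem_range, Bool.or_eq_true,
      Bool.not_eq_true', ← Bool.not_eq_true, ← imp_iff_not_or]
    intro i hi ti j hj tj
    exact (ht _ (xor_lt (k := 4) hi hj)).2 (hadd i j ((ht _ hi).1 ti) ((ht _ hj).1 tj))
  have i16 : iv δ n = true := by
    simp only [iv, List.all_eq_true, List.mem_range, Bool.or_eq_true, beq_iff_eq,
      Bool.not_eq_true']
    intro u hu
    refine or_iff_not_imp_left.2 fun h3 a ha => or_iff_not_imp_left.2 fun h4 x hx =>
      or_iff_not_imp_left.2 fun h5 => ?_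
    push Not at h3 h4
    exact (ht _ (mv_lt hu ha hx)).2 (hmv u hu a x h3.1 (by simpa using h3.2) (by simpa using h4.1)
      (by simpa using h4.2) ((ht _ hx).1 (by simpa using h5)))
  have i2 : (iv false n || iv true n) = true := by cases δ <;> simp [i16]
  rw [c16, i2] at h2
  simp only [Bool.not_true, Bool.false_or, cc, List.all_eq_true, List.any_eq_true, List.mem_range,
    Bool.or_eq_true, Bool.and_eq_true, beq_iff_eq, Bool.not_eq_true'] at h2
  rcases h2 with h2 | ⟨h2, c, hc, h3, c1, -, h4, h5⟩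
  · exact Or.inl fun i hi => (ht i hi).1 (h2 i hi)
  · refine Or.inr ⟨fun x hx px hy => ?_, c, c1, h4, fun pc => ?_, fun y hy py => ?_⟩
    · rcases h2 x hx with (h | h) | ⟨y, hy', h6, h7⟩
      · rw [(ht x hx).2 px] at h; cases h
      · exact h
      · rw [hy y hy' ((ht y hy').1 h6)] at h7; cases h7
    · rw [(ht c hc).2 pc] at h3; cases h3
    · exact (h5 y hy).resolve_left (by simp [(ht y hy).2 py])

end H43.O6C
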