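/- The slot `RA2` of the orthogonal model: `Q / Z` for `Ω₈^±(2)`. -/
import Cfsg.Agent.H86.O6.RAKit
import Cfsg.Agent.H43.O6Comb

set_option autoImplicit false
set_option linter.unusedSectionVars false

namespace H43.O6RA2

open H64.SG (Cs Ns mem_Cs)
open H64.YE (PO)
open H67.SA (cm cm_eq_one)
open H59.SO H46.SOG H86.O6 H86.O6.JRA H43.O6C
open H56 H58 QuadraticMap Module Subgroup

variable {F V : Type} [Field F] [Finite F] [CharP F 2] [AddCommGroup V] [Module F V]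
  [FiniteDimensional F V] {Q : QuadraticForm F V}

variable (F) in
/-- a bit as a scalar -/
def β (b : Bool) : F := bif b then 1 else 0

@[simp] theorem β_true : β F true = 1 := rfl
@[simp] theorem β_false : β F false = 0 := rfl

theorem β_xor (a b : Bool) : β F (a ^^ b) = β F a + β F b := by
  cases a <;> cases b <;> simp [CharTwo.add_self_eq_zero]

theorem β_and (a b : Bool) : β F (a && b) = β F a * β F b := by cases a <;> cases b <;> simp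

theorem β_sq (a : Bool) : β F a * β F a = β F a := by cases a <;> simp

theorem β_eq_zero {a : Bool} : β F a = 0 ↔ a = false := by cases a <;> simp

theorem β_surj (h : Nat.card F = 2) (c : F) : ∃ b, c = β F b := by
  by_cases h0 : c = 0
  · exact ⟨false, h0⟩
  · obtain ⟨y, -, hy⟩ := (Nat.card_eq_two_iff' (0 : F)).1 h
    exact ⟨true, (hy c h0).trans (hy 1 one_ne_zero).symm⟩

variable (r : Fr Q) (a b : V)

/-- coordinates on a complement of `L` in `L^⊥` -/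
def φ (i : ℕ) : V := β F (i.testBit 0) • r.e 2 + β F (i.testBit 1) • r.f 2 +
  β F (i.testBit 2) • a + β F (i.testBit 3) • b

theorem φ_zero : φ r a b 0 = 0 := by simp [φ]

theorem φ_xor (i j : ℕ) : φ r a b (i ^^^ j) = φ r a b i + φ r a b j := by
  simp only [φ, Nat.testBit_xor, β_xor, add_smul]
  abel

theorem φ_bif (c : Bool) (i : ℕ) : φ r a b (bif c then i else 0) = β F c • φ r a b i := by
  cases c <;> simp [φ_zero]

variable {r a b}

/-- a basis of `W` -/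
structure Bs (r : Fr Q) (a b : V) (δ : Bool) : Prop where
  ha : a ∈ r.W
  hb : b ∈ r.W
  qa : Q a = 1
  qb : Q b = β F δ
  ab : polar Q a b = 1
  sp : ∀ x ∈ LP r, ∃ i < 16, ∃ s t : F, x = φ r a b i + t • r.e 1 + s • r.e 0

variable {δ : Bool}

theorem exists_bs (p : H86.O6.Par Q) (r : Fr Q) : ∃ a b δ, Bs r a b δ := by
  obtain ⟨a, ha, b, hb, qa, ab⟩ := exists_pair r p.toPar0
  obtain ⟨δ, hδ⟩ := β_surj p.two (Q b)
  obtain ⟨ε, hε⟩ := β_surj p.two (Q a)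
  have ba : polar Q b a = 1 := by rw [polar_comm, ab]
  have h2 : finrank F r.W = 2 := by have := r.finrank_W p.toPar0; have := p.eight; omega
  have li : LinearIndependent F ![(⟨a, ha⟩ : r.W), ⟨b, hb⟩] := LinearIndependent.pair_iff.2
    fun s t h => by
      have h1 : s • a + t • b = 0 := congrArg Subtype.val h
      have h3 := congrArg (polar Q a) h1
      have h4 := congrArg (polar Q b) h1
      simp [-polar_self, polar_self2, ab, ba] at h3 h4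
      exact ⟨h4, h3⟩
  have sp := li.span_eq_top_of_card_eq_finrank (by simp [h2])
  refine ⟨a, b, δ, ha, hb, ?_, hδ, ab, fun x hx => ?_⟩
  · cases ε
    · exact absurd hε qa
    · exact hε
  · obtain ⟨s, t, c, d, w, hw, rfl⟩ := LP_dec r hx
    have : (⟨w, hw⟩ : r.W) ∈ Submodule.span F {(⟨a, ha⟩ : r.W), ⟨b, hb⟩} := by
      rw [← Matrix.range_cons_cons_empty, sp]; trivial
    obtain ⟨k, l, h⟩ := Submodule.mem_span_pair.1 this
    have h1 : k • a + l • b = w := congrArg Subtype.val h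
    obtain ⟨b0, rfl⟩ := β_surj p.two c
    obtain ⟨b1, rfl⟩ := β_surj p.two d
    obtain ⟨b2, rfl⟩ := β_surj p.two k
    obtain ⟨b3, rfl⟩ := β_surj p.two l
    obtain ⟨i, hi, rfl, rfl, rfl, rfl⟩ := bits b0 b1 b2 b3
    exact ⟨i, hi, s, t, by rw [← h1, φ]; abel⟩

theorem Bs.lp (h : Bs r a b δ) (i : ℕ) : φ r a b i ∈ LP r :=
  add_mem (add_mem (add_mem ((LP r).smul_mem _ (e_LP r 2)) ((LP r).smul_mem _ (f_LP r)))
    ((LP r).smul_mem _ (W_LP r h.ha))) ((LP r).smul_mem _ (W_LP r h.hb))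

theorem Bs.pol (h : Bs r a b δ) (i j : ℕ) :
    polar Q (φ r a b i) (φ r a b j) = β F (bb i j) := by
  have ba : polar Q b a = 1 := by rw [polar_comm, h.ab]
  simp [-polar_self, φ, bb, β_xor, β_and, polar_self2, h.ab, ba, r.ef, r.fe, W_e r h.ha, W_e r h.hb,
    W_f r h.ha, W_f r h.hb, W_e' r h.ha, W_e' r h.hb, W_f' r h.ha, W_f' r h.hb]
  ring

theorem Bs.q (h : Bs r a b δ) (i : ℕ) : Q (φ r a b i) = β F (O6C.qq δ i) := by
  simp [φ, O6C.qq, β_xor, β_and, H56.Q_add, H56.Q_smul, β_sq, r.qe, r.qf, h.qa, h.qb, h.ab, r.ef,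
    W_e r h.ha, W_e r h.hb, W_f r h.ha, W_f r h.hb]
  ring

theorem Bs.ne (h : Bs r a b δ) {i : ℕ} (hi : i < 16) (h0 : i ≠ 0) : φ r a b i ≠ 0 := fun m => by
  obtain ⟨j, -, hj⟩ := nondeg i hi h0
  have := h.pol i j
  rw [m, hj] at this
  simp at this

theorem Bs.mv (h : Bs r a b δ) {u c : ℕ} (x : ℕ) (hu : O6C.qq δ u = false) (hc : O6C.qq δ c = true)
    (huc : bb u c = false) :
    (E Q (φ r a b u) (φ r a b c)).1 (φ r a b x) = φ r a b (mv u c x) := by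
  rw [E_apply (by rw [h.q, hu]; rfl) (by rw [h.pol, huc]; rfl), h.pol, h.pol, h.q, hc, O6C.mv,
    φ_xor, φ_xor, φ_bif, φ_bif, φ_xor, β_true, one_mul, smul_add]
  abel

theorem cm01 (p : Par0 Q) {x y : V} (hx : x ∈ LP r) (hy : y ∈ LP r) :
    Commute (E Q (r.e 0) x) (E Q (r.e 1) y) ↔ polar Q x y = 0 := by
  rw [mem_LP] at hx hy
  rw [commute_iff_eq, ← cm_eq_one, E_cm (r.qe 0) (r.qe 1) (r.ee ..) hx.1 hx.2 hy.1 hy.2]
  exact r.z_eq_one p

theorem cm00 {u x y : V} (hu : Q u = 0) (hx : polar Q u x = 0) (hy : polar Q u y = 0) :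
    Commute (E Q u x) (E Q u y) := by
  rw [commute_iff_eq, ← E_add hu hx hy, ← E_add hu hy hx, add_comm]

theorem pol_L {x y : V} (hy : y ∈ LP r) (s t : F) :
    polar Q (x + t • r.e 1 + s • r.e 0) y = polar Q x y := by
  rw [mem_LP] at hy
  simp [hy.1, hy.2]

theorem main (p : H86.O6.Par Q) {B : Subgroup (Om Q)} (hZ : r.Z ≤ B) (hQ : B ≤ r.QQ)
    (hF : ∀ u ∈ LP r, ∀ c ∈ LP r, u ≠ 0 → Q u = 0 → polar Q u c = 0 → Q c ≠ 0 → E Q u c ∈ Ns B)
    {m : V} (hm : m ∈ r.W) (p0 : E Q (r.e 0) ((1 : F) • r.f 1 + m) ∈ Ns B)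
    (p1 : E Q (r.e 1) ((1 : F) • r.f 0 + m) ∈ Ns B) : r.QQ ≤ B ∨ (B ⊓ Cs B ≤ r.Z ∧
      ∃ x ∈ r.QQ ⊓ Cs B, ∃ y ∈ r.QQ ⊓ Cs B, x ∉ B ∧ y ∉ B ∧ x * x ≠ y * y) := by
  obtain ⟨a, b, δ, h⟩ := exists_bs p r
  have hz : ∀ c, r.z c ∈ B := fun c => hZ (r.z_mem c)
  have l0 : ∀ {x}, x ∈ LP r → polar Q (r.e 0) x = 0 := fun hx => ((mem_LP r).1 hx).1
  have l1 : ∀ {x}, x ∈ LP r → polar Q (r.e 1) x = 0 := fun hx => ((mem_LP r).1 hx).2
  have kk : ∀ {x y}, x ∈ LP r → y ∈ LP r → E Q (r.e 0) x * E Q (r.e 1) y ∈ B →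
      E Q (r.e 0) y ∈ B ∧ E Q (r.e 1) x ∈ B := fun hx hy hB => by
    simpa using key r hz hm 1 p0 p1 hx hy hB
  have k01 : ∀ {y}, y ∈ LP r → E Q (r.e 0) y ∈ B → E Q (r.e 1) y ∈ B := fun hy hB =>
    (kk hy (zero_mem _) (by simpa using hB)).2
  have k10 : ∀ {y}, y ∈ LP r → E Q (r.e 1) y ∈ B → E Q (r.e 0) y ∈ B := fun hy hB =>
    (kk (zero_mem _) hy (by simpa using hB)).1
  have red : ∀ (i : ℕ) (s t : F), E Q (r.e 0) (φ r a b i + t • r.e 1 + s • r.e 0) =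
      E Q (r.e 0) (φ r a b i) * r.z t := fun i s t => by
    rw [E_add_smul_self s (r.qe 0) (by simp [l0 (h.lp i), r.ee]),
      E_add (r.qe 0) (l0 (h.lp i)) (by simp [r.ee])]
  have dec : ∀ g ∈ B, ∃ x ∈ LP r, ∃ y ∈ LP r, g = E Q (r.e 0) x * E Q (r.e 1) y ∧
      E Q (r.e 0) x ∈ B ∧ E Q (r.e 0) y ∈ B := fun g hg => by
    obtain ⟨x, y, u0, v0, u1, v1, rfl⟩ := r.ts.mem_Ql.1 (hQ hg)
    have hx := (mem_LP r).2 ⟨u0, v0⟩
    have hy := (mem_LP r).2 ⟨u1, v1⟩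
    exact ⟨x, hx, y, hy, rfl, k10 hx (kk hx hy hg).2, (kk hx hy hg).1⟩
  rcases O6C.main (fun i => E Q (r.e 0) (φ r a b i) ∈ B) δ (by simp [φ_zero])
    (fun i j hi hj => by
      rw [φ_xor, E_add (r.qe 0) (l0 (h.lp i)) (l0 (h.lp j))]; exact mul_mem hi hj)
    (fun u hu c x u0 qu qc uc hx => by
      have := cj_mem (hF _ (h.lp u) _ (h.lp c) (h.ne hu u0) (by rw [h.q, qu]; rfl)
        (by rw [h.pol, uc]; rfl) (by rw [h.q, qc]; exact one_ne_zero)) hx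
      rwa [E_conj, ((mem_Fx r).1 (E_mem_Fx r (h.lp u) (h.lp c))).1, h.mv x qu qc uc] at this)
    with hall | ⟨hrad, c, d, cd, nc, hc⟩
  · have all : ∀ x ∈ LP r, E Q (r.e 0) x ∈ B := fun x hx => by
      obtain ⟨i, hi, s, t, rfl⟩ := h.sp x hx
      rw [red]; exact mul_mem (hall i hi) (hz t)
    refine Or.inl fun g hg => ?_
    obtain ⟨x, y, u0, v0, u1, v1, rfl⟩ := r.ts.mem_Ql.1 hg
    have hy := (mem_LP r).2 ⟨u1, v1⟩
    exact mul_mem (all x ((mem_LP r).2 ⟨u0, v0⟩)) (k01 hy (all y hy))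
  have rad : ∀ x ∈ LP r, E Q (r.e 0) x ∈ B →
      (∀ y ∈ LP r, E Q (r.e 0) y ∈ B → polar Q x y = 0) → ∃ s t : F, x = t • r.e 1 + s • r.e 0 :=
    fun x hx hB hy => by
      obtain ⟨i, hi, s, t, rfl⟩ := h.sp x hx
      rw [red, mul_mem_cancel_right (hz t)] at hB
      obtain rfl := hrad i hi hB fun j _ hj => by
        rw [← β_eq_zero (F := F), ← h.pol, ← pol_L (h.lp j) s t]; exact hy _ (h.lp j) hj
      exact ⟨s, t, by rw [φ_zero, zero_add]⟩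
  have orth : ∀ x ∈ LP r, E Q (r.e 0) x ∈ B →
      polar Q x (φ r a b c) = 0 ∧ polar Q x (φ r a b d) = 0 := fun x hx hB => by
    obtain ⟨i, hi, s, t, rfl⟩ := h.sp x hx
    rw [red, mul_mem_cancel_right (hz t)] at hB
    rw [pol_L (h.lp c), pol_L (h.lp d), polar_comm, polar_comm Q (φ r a b i), h.pol, h.pol,
      (hc i hi hB).1, (hc i hi hB).2]
    exact ⟨rfl, rfl⟩
  have m0 := (E_mem_Ql (Q := Q) (l0 (h.lp c)) (l1 (h.lp c))).1
  have m1 := (E_mem_Ql (Q := Q) (l0 (h.lp d)) (l1 (h.lp d))).2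
  have c0 : E Q (r.e 0) (φ r a b c) ∈ Cs B := mem_Cs.2 fun g hg => by
    obtain ⟨x, hx, y, hy, rfl, -, by'⟩ := dec g hg
    exact ((cm00 (r.qe 0) (l0 hx) (l0 (h.lp c))).mul_left ((cm01 p.toPar0 (h.lp c) hy).2
      (by rw [polar_comm]; exact (orth y hy by').1)).symm).eq
  have c1 : E Q (r.e 1) (φ r a b d) ∈ Cs B := mem_Cs.2 fun g hg => by
    obtain ⟨x, hx, y, hy, rfl, bx, -⟩ := dec g hg
    exact (((cm01 p.toPar0 hx (h.lp d)).2 (orth x hx bx).2).mul_left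
      (cm00 (r.qe 1) (l1 hy) (l1 (h.lp d)))).eq
  refine Or.inr ⟨fun g hg => ?_, _, ⟨m0, c0⟩, _, ⟨mul_mem m0 m1, mul_mem c0 c1⟩, nc,
    fun hB => nc (k10 (h.lp c) (kk (h.lp c) (h.lp d) hB).2), fun he => ?_⟩
  · obtain ⟨x, hx, y, hy, rfl, bx, by'⟩ := dec g hg.1
    have hc' : ∀ k ∈ B, Commute k (E Q (r.e 0) x * E Q (r.e 1) y) := mem_Cs.1 hg.2
    obtain ⟨s, t, e0⟩ := rad x hx bx fun w hw bw => (cm01 p.toPar0 hx hw).1 (by
      have h1 := (hc' _ (k01 hw bw)).mul_right (cm00 (r.qe 1) (l1 hw) (l1 hy)).inv_right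
      rw [mul_inv_cancel_right] at h1
      exact h1.symm)
    obtain ⟨s', t', e1⟩ := rad y hy by' fun w hw bw => by
      rw [polar_comm]
      refine (cm01 p.toPar0 hw hy).1 ?_
      have h1 := (cm00 (r.qe 0) (l0 hw) (l0 hx)).inv_right.mul_right (hc' _ bw)
      rwa [inv_mul_cancel_left] at h1
    subst e0 e1
    refine mul_mem ?_ ?_
    · rw [E_add_smul_self s (r.qe 0) (by simp [r.ee])]; exact r.z_mem t
    · rw [add_comm, E_add_smul_self t' (r.qe 1) (by simp [r.ee]), r.ts.swap]; exact r.z_mem s'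
  · rw [E_sq] at he
    have h1 : Commute (E Q (r.e 0) (φ r a b c)) (E Q (r.e 1) (φ r a b d)) := by
      rw [commute_iff_eq, ← cm_eq_one, H67.SA.cm, E_inv, E_inv, he, mul_assoc]
    rw [cm01 p.toPar0 (h.lp c) (h.lp d), h.pol, cd] at h1
    exact one_ne_zero h1

theorem jobRA2 : JobRA2 := by
  intro n F _ _ _ _ _ _ b c o V _ _ _ Q ι r w d k kd
  have p := d.par.toPar0
  have mem : ∀ u a, u ≠ 0 → Q u = 0 → polar Q u a = 0 → Q a ≠ 0 → E Q u a ∈ r.P0 →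
      E Q u a ∈ PO (H86.O6.cc r w) r.Z := fun u a h0 h1 h2 h3 h4 =>
    subset_closure ⟨h4, (kd.ec _).2 ⟨u, a, h0, h1, h2, h3, rfl⟩⟩
  refine ⟨fun z hz => ?_, fun B hZ hQ hP => ?_⟩
  · obtain ⟨s, rfl⟩ := r.mem_Z.1 hz
    exact (k.fx w _ (by simp [d.qw])).2 (E_fix (d.we 0) (by simp [d.we]))
  · obtain ⟨a, ha, hq⟩ := r.exists_Q_ne p
    have hq' : ∀ (s : F) i, Q (s • r.f i + a) ≠ 0 := fun s i => by
      simpa [H56.Q_add, H56.Q_smul, r.qf, W_f r ha] using hq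
    refine main d.par hZ hQ (fun u hu x hx h0 h1 h2 h3 =>
      hP (mem u x h0 h1 h2 h3 (Fx_le_P0 r (E_mem_Fx r hu hx)))) ha (hP ?_) (hP ?_)
    · exact mem _ _ (r.ne 0) (r.qe 0) (by simp [r.ef, W_e r ha]) (hq' 1 1)
        (Ru_le_P0 r.ts (E_mem_Ru _ _))
    · exact mem _ _ (r.ne 1) (r.qe 1) (by simp [r.ef, W_e r ha]) (hq' 1 0)
        (r.ts.P0_swap.le (Ru_le_P0 r.ts.symm (E_mem_Ru _ _)))

end H43.O6RA2
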