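/- Tower R5, job M1: fusion control by the normaliser of `Z(J(P))`, which has odd order. -/
import Cfsg.Agent.H34.R5Spec
import Cfsg.Agent.S0118
import Cfsg.Agent.H12.Thompson

set_option autoImplicit false

namespace H43.R5M1

open Cfsg Subgroup H41.IT H34.R5

universe u

theorem exists_mixed (s : ℕ) [hs : Fact s.Prime] (h2 : s ≠ 2) :
    ∃ g : Matrix.SpecialLinearGroup (Fin 2) (ZMod s), 2 ∣ orderOf g ∧ s ∣ orderOf g := by
  let g : Matrix.SpecialLinearGroup (Fin 2) (ZMod s) :=
    ⟨!![-1, -1; 0, -1], by simp [Matrix.det_fin_two]⟩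
  have hg : ∀ n : ℕ, (g ^ n).1 = !![(-1) ^ n, (-1) ^ n * (n : ZMod s); 0, (-1) ^ n] := by
    intro n
    induction n with
    | zero => ext i j; fin_cases i <;> fin_cases j <;> simp
    | succ n ih =>
      rw [pow_succ, Matrix.SpecialLinearGroup.coe_mul, ih]
      ext i j
      fin_cases i <;> fin_cases j <;> simp [g, Matrix.mul_apply, Fin.sum_univ_two, pow_succ]
      ring
  have h1 := hg (orderOf g)
  rw [pow_orderOf_eq_one] at h1
  have e0 : (1 : ZMod s) = (-1) ^ orderOf g := by simpa using congrFun (congrFun h1 0) 0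
  have e1 : (0 : ZMod s) = (-1) ^ orderOf g * orderOf g := by
    simpa using congrFun (congrFun h1 0) 1
  refine ⟨g, ?_, ?_⟩
  · by_contra h
    rw [(Nat.not_even_iff_odd.1 fun h' => h (even_iff_two_dvd.1 h')).neg_one_pow] at e0
    have : Fact (2 < s) := ⟨lt_of_le_of_ne hs.out.two_le (Ne.symm h2)⟩
    exact ZMod.neg_one_ne_one e0.symm
  · rw [← e0, one_mul] at e1
    exact (ZMod.natCast_eq_zero_iff _ _).1 e1.symm

theorem jobM1 : JobM1.{u} := by
  intro G _ _ x y e s hs P h hb
  have sb : s ∣ c y := (Dvd.intro _ rfl).trans hb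
  have h2b : ¬ 2 ∣ c y := fun m => (Nat.not_even_iff_odd.2 h.odd) (even_iff_two_dvd.2 m)
  have s2 : s ≠ 2 := fun m => h2b (m ▸ sb)
  have hP : (P : Subgroup G) ≠ ⊥ := fun m => by
    have h1 := h.sylow_card sb P
    rw [m, card_bot, eq_comm, Nat.pow_eq_one, or_iff_right hs.out.ne_one] at h1
    exact (hs.out.factorization_pos_of_dvd Nat.card_pos.ne' sb).ne' h1
  have hPb : ∀ w ∈ (P : Subgroup G), orderOf w ∣ c y := fun w hw =>
    (orderOf_dvd_natCard _ hw).trans (h.sylow_card sb P ▸ Nat.ordProj_dvd _ _)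
  obtain ⟨z, hzP, hzc, z1, zs⟩ : ∃ z ∈ (P : Subgroup G), z ∈ centralizer ((P : Subgroup G) : Set G) ∧
      z ≠ 1 ∧ z ^ s = 1 := by
    have : Nontrivial P := (nontrivial_iff_ne_bot _).2 hP
    have := P.isPGroup'.center_nontrivial
    obtain ⟨k, hk⟩ := IsPGroup.iff_card.1 (P.isPGroup'.to_subgroup (center P))
    obtain ⟨z, hz⟩ := exists_prime_orderOf_dvd_card' (G := center P) s (hk ▸ dvd_pow_self s
      fun h0 => (Finite.one_lt_card (α := center P)).ne' (by rw [hk, h0, pow_zero]))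
    have ho : orderOf ((z : P) : G) = s := by rw [orderOf_coe, orderOf_coe, hz]
    refine ⟨z.1.1, z.1.2, fun a ha => congrArg Subtype.val (mem_center_iff.1 z.2 ⟨a, ha⟩),
      fun m => hs.out.ne_one (by rw [← ho, m, orderOf_one]), orderOf_dvd_iff_pow_eq_one.1 ho.dvd⟩
  have zW : z ∈ centerThompsonOf s (P : Subgroup G) :=
    H12.omegaOne_center_le_centerThompsonOf _ (subset_closure ⟨⟨hzP, hzc⟩, zs⟩)
  have WP : centerThompsonOf s (P : Subgroup G) ≤ P := inf_le_left.trans (map_subtype_le _)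
  refine ⟨fun g hg a ha => ?_, ?_, fun m => z1 (by rwa [m, mem_bot] at zW)⟩
  · obtain ⟨n, hn, h1⟩ := Cfsg.Agent.S0118.result s2 (by
      rintro ⟨H, K, hK, ⟨φ⟩⟩
      obtain ⟨t, t2, ts⟩ := exists_mixed s s2
      obtain ⟨k, hk⟩ := QuotientGroup.mk'_surjective (K.subgroupOf H) (φ.symm t)
      have h3 : orderOf t ∣ orderOf (k : G) := by
        rw [orderOf_coe, ← φ.symm.orderOf_eq, ← hk]
        exact orderOf_map_dvd _ _
      exact h.nomix hs.out Nat.prime_two sb h.ev (ts.trans h3) (t2.trans h3))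
      P {g} (Set.singleton_subset_iff.2 hg) a⁻¹ (by
        rw [Set.image_singleton, inv_inv]; exact Set.singleton_subset_iff.2 ha)
    exact ⟨n⁻¹, inv_mem hn, by simpa using h1 g rfl⟩
  · by_contra hodd
    have : Fact (Nat.Prime 2) := ⟨Nat.prime_two⟩
    obtain ⟨t', ht'⟩ := exists_prime_orderOf_dvd_card' 2
      (even_iff_two_dvd.1 (Nat.not_odd_iff_even.1 hodd))
    obtain ⟨t, tN⟩ := t'
    have to2 : orderOf t = 2 := by rw [← ht', orderOf_mk]
    have tt : t * t = 1 := by rw [← sq, ← to2, pow_orderOf_eq_one]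
    have ti : t⁻¹ = t := inv_eq_of_mul_eq_one_right tt
    have fix : ∀ k : G, orderOf k ∣ c y → Commute t k → k = 1 := fun k hk hc => by
      by_contra k1
      exact h2b (to2 ▸ h.ord_dvd k1 hk hc)
    have z' : t * z * t⁻¹ ∈ centerThompsonOf s (P : Subgroup G) := (mem_normalizer_iff.1 tN z).1 zW
    have hcm : z * (t * z * t⁻¹) = t * z * t⁻¹ * z := (z'.2 z zW.1)
    have hw : t * z * t⁻¹ * z = 1 := fix _ (hPb _ (WP (mul_mem z' zW))) (by
      rw [commute_iff_eq]
      calc t * (t * z * t⁻¹ * z) = (t * t) * z * t⁻¹ * z := by group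
        _ = z * (t * z * t⁻¹) * t := by rw [tt, ti]; simp [mul_assoc, tt]
        _ = _ := by rw [hcm])
    have hinv : t * z * t⁻¹ = z⁻¹ := eq_inv_of_mul_eq_one_left hw
    have hz : c z = c y := h.full hb P z1 fun a ha => mem_C.2 (hzc a ha)
    have hn : ∀ k ∈ C z, t * k * t⁻¹ ∈ C z := fun k hk => by
      have h1 : Commute (t * k * t⁻¹) (t * z * t⁻¹) := by
        have := (mem_C.1 hk).map (MulAut.conj t)
        simpa using this
      rw [hinv] at h1
      exact mem_C.2 (by simpa using h1.inv_right)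
    let φ : C z →* C z :=
      { toFun := fun k => ⟨t * k * t⁻¹, hn k k.2⟩
        map_one' := by ext; simp
        map_mul' := fun a b => by ext; simp [mul_assoc] }
    have hφ : MonoidHom.FixedPointFree φ := fun k hk => Subtype.ext (fix k
      (hz ▸ ord_dvd_c k.2) (mul_inv_eq_iff_eq_mul.1 (congrArg Subtype.val hk)))
    have h2 : Function.Involutive φ := fun k => Subtype.ext (by
      change t * (t * k * t⁻¹) * t⁻¹ = k
      rw [ti]
      calc t * (t * k * t) * t = (t * t) * k * (t * t) := by group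
        _ = k := by rw [tt]; simp)
    exact h.nab z hz ⟨⟨fun a b => hφ.commute_all_of_involutive h2 a b⟩⟩

end H43.R5M1
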