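/- Tower RIT, job Good: good opposite pairs give rank one pairs. -/
import Cfsg.Agent.H66.RITSpec

set_option autoImplicit false

namespace H43.RITGood

open Cfsg H70 H66.RST H66.RIT

universe u

variable {G : Type u} [Group G] {D : Set G} {a b a' : G}

theorem good_swap (h : HE D) (ha : a ∈ D) (hb : b ∈ D) (o : IOpp a b) (hg : Good D a b)
    (he : a' ∈ EC D a) : IOpp b a' ∧ Good D b a' := by
  obtain ⟨e, eD, c, ae, f⟩ := hg
  have k := Cfg.step h.ri ⟨ha, eD, hb, ae, c, f.symm, o.symm⟩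
  exact ⟨(opp_of_comm_subset h.ri ha he.1 (fun y hy => ((mem_E.1 he).2 y hy).2) hb o).symm,
    _, k.hb, k.comm, k.hab, (h.four_E ha he k.hb k.four.symm)⟩

theorem conjBy_EE (hD : IsRootInvolutionSet D) (g : G) :
    conjBy (EE D a) g = EE D (g * a * g⁻¹) := by
  ext x
  constructor
  · rintro ⟨y, hy, rfl⟩
    exact H66.RI.conj_mem_E hD hy g
  · intro hx
    exact ⟨g⁻¹ * x * g, by simpa [mul_assoc] using H66.RI.conj_mem_E hD hx g⁻¹,
      by simp [mul_assoc]⟩

theorem cond [Finite G] (hP : JobPart.{u}) (h : HE D) (ha : a ∈ D) (hb : b ∈ D) (o : IOpp a b)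
    (hg : Good D a b) : RankOneCondition (EE D a) (EE D b) := by
  intro x hx x1
  have he : x ∈ EC D a := ((h.mem_Z ha).1 hx).resolve_right x1
  obtain ⟨o', g'⟩ := good_swap h ha hb o hg he
  obtain ⟨y, hy, h3⟩ := hP G D h.toRIC b hb x he.1 o' g'
  have sx := ri_sq h.ri he.1
  have sy := ri_sq h.ri hy.1
  have br := braid sy sx h3
  refine ⟨y, (h.mem_Z hb).2 (Or.inl hy), fun m => ?_, ?_⟩
  · rw [m, one_mul, h.ri.orderOf_eq x he.1] at h3
    omega
  · rw [EE, EE, ← Z_of_E he, ← Z_of_E hy, conjBy_EE h.ri, conjBy_EE h.ri, inv_inv, inv_inv,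
      inv_of_sq sx, inv_of_sq sy, br]

theorem nilp (ha : a ∈ D) : Group.IsNilpotent (EE D a) := by
  let _ : CommGroup (EE D a) := { (inferInstance : Group (EE D a)) with
    mul_comm := fun x y => Subtype.ext (H66.RI.commute_E ha (Commute.refl a) x.2 y.2) }
  exact CommGroup.isNilpotent

theorem jobGood : JobGood.{u} := by
  intro hP G _ _ D h a ha b hb o hg
  have ea : a ∈ EC D a := ⟨ha, rfl⟩
  refine ⟨fun m => ?_, nilp ha, nilp hb, cond hP h ha hb o hg,
    cond hP h hb ha o.symm (good_swap h ha hb o hg ea).2⟩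
  have h1 : a ∈ EE D b := m ▸ (h.mem_Z ha).2 (Or.inl ea)
  exact o.not_commute (ri_sq h.ri ha) (ri_sq h.ri hb) (h.Z_comm hb h1 hb (Commute.refl b))

end H43.RITGood
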