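/- S3275, chapter U0, section B: slot BF. -/
import Cfsg.Agent.H92.DP0BSpec

set_option autoImplicit false

namespace H43.U0BF

open Subgroup Cfsg H98 H48.DP H57.DPC H48.DP2 H92.DPB

universe u

theorem jobBF : H92.DPB.JobBF.{u} := by
  intro kl G _ _ E hG hE h9 h1 h27
  have : Fact (Nat.Prime 2) := ⟨Nat.prime_two⟩
  suffices H : ∀ J X Y : Subgroup G, X ⊓ Y = J → IsPGroup 2 X → IsPGroup 2 Y → E ≤ No X →
      E ≤ No Y → ¬ IsPGroup 2 ↥(X ⊔ Y) → J = ⊥ from fun X Y => H _ X Y rfl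
  intro J
  induction J using WellFoundedGT.induction with
  | ind J ih =>
  intro X Y hJ hX hY eX eY hn
  by_contra hJ1
  have JX : J < X := lt_of_le_of_ne (hJ ▸ inf_le_left) fun e => hn (by
    have : X ≤ Y := by rw [← e, ← hJ]; exact inf_le_right
    rwa [sup_eq_right.2 this])
  have JY : J < Y := lt_of_le_of_ne (hJ ▸ inf_le_right) fun e => hn (by
    have : Y ≤ X := by rw [← e, ← hJ]; exact inf_le_left
    rwa [sup_eq_left.2 this])
  have eJ : E ≤ No J := hJ ▸ le_normalizer_inf eX eY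
  have eN : E ≤ No (No J) := le_normalizer_normalizer eJ
  have aX := lt_inf_normalizer hX JX
  have aY := lt_inf_normalizer hY JY
  have eX' : E ≤ No (X ⊓ No J) := le_normalizer_inf eX eN
  have eY' : E ≤ No (Y ⊓ No J) := le_normalizer_inf eY eN
  have step : ∀ A B : Subgroup G, J < A ⊓ B → IsPGroup 2 A → IsPGroup 2 B → E ≤ No A →
      E ≤ No B → IsPGroup 2 ↥(A ⊔ B) := fun A B l a b c d => by
    by_contra k
    exact not_lt_bot (ih _ l A B rfl a b c d k ▸ l)
  have tw : Tw E (No J) := by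
    refine ⟨X ⊓ No J, Y ⊓ No J, inf_le_right, inf_le_right, hX.to_inf_left, hY.to_inf_left,
      eX', eY', fun hT => hn ?_⟩
    have eT := le_normalizer_sup eX' eY'
    have p1 := step _ X (aX.trans_le (le_inf le_sup_left inf_le_left)) hT hX eT eX
    have p2 := step _ Y (aY.trans_le (le_inf (le_sup_right.trans le_sup_left) inf_le_left)) p1 hY
      (le_normalizer_sup eT eX) eY
    exact p2.to_le (sup_le_sup_right le_sup_right _)
  have hN : No J ≠ ⊤ := no_ne_top hG (hX.to_le JX.le) hJ1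
  by_cases hB : ∃ B : Subgroup G, E27 B ∧ B ≤ No J
  · obtain ⟨B, b1, b2⟩ := hB
    exact (h27 _ B hN eJ b1 b2).not_tw tw
  · obtain ⟨e, he, e1, k⟩ := kl G (No J) E hG hN eJ (fun B b1 b2 => hB ⟨B, b1, b2⟩) hE h9 tw
    exact (h1 e he e1).not_tw k

end H43.U0BF
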