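/- S3275, chapter U2F: slot G1. -/
import Cfsg.Agent.H57.U2CSpec

set_option autoImplicit false

namespace H43.U2G1

open Subgroup Cfsg H98 H96 H97 H48.DP H57.DPC H48.DP2 H96.U2I H57.U2C
open scoped commutatorElement

universe u

theorem setup (br : BR.{u}) {G : Type u} [Group G] [Finite G] {K F U B N : Subgroup G} {z : G}
    (hm : Md K F U z) (hq : Qz K U B z) (hN : N ≤ U) (zN : z ∈ N)
    (h : ∀ h ∈ N, ∀ a ∈ B, ⁅a, h⁆ ∈ zpowers z) :
    ∃ (W : Type u) (_ : AddCommGroup W) (_ : Finite W) (s : H98.Sec W U (zpowers z)),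
      B ≤ nn U (zpowers z) ∧ Qd (s.bar F) (s.bar B) ∧
      Nat.card (s.bar B) = (St U z).relIndex B ∧ (fx W (s.bar B)).index ≤ N.relIndex U := by
  obtain ⟨W, _, ⟨s⟩⟩ := exists_sec (U := U) (U₀ := zpowers z) (zpowers_le.2 hm.zU)
    (commutator_le.2 fun a ha b hb => by
      rw [commutatorElement_eq_one_iff_mul_comm.2 (ea_commute hm.ea ha hb).eq]
      exact one_mem _)
  have : Finite W := s.finite
  obtain ⟨h1, h2, h3⟩ := br G K F U B z W s hm hq
  have hB : B ≤ nn U (zpowers z) := hq.le.trans h1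
  refine ⟨W, inferInstance, this, s, hB, h2, s.card_bar hB, ?_⟩
  rw [← h3 N hN zN]
  refine Nat.le_of_dvd (Nat.pos_of_ne_zero AddSubgroup.index_ne_zero_of_finite)
    (AddSubgroup.index_dvd_of_le ?_)
  rintro _ ⟨x, hx, hx', rfl⟩
  exact (s.mem_fx_bar hB hx).2 (h x hx')

theorem jobG1 : H57.U2C.JobG1.{u} := by
  intro bd off f2 br tg
  refine ⟨?_, ?_, ?_⟩
  · intro G _ _ K F U B N z hm hq hN zN h
    obtain ⟨W, _, _, s, -, h2, h3, h4⟩ := setup br hm hq hN zN h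
    rw [← h3]
    exact (bd W _ _ h2).trans h4
  · intro G _ _ K F U B N z hm hq hN zN h hi w hw b hb hn
    obtain ⟨W, _, _, s, hB, h2, h3, h4⟩ := setup br hm hq hN zN h
    obtain ⟨a', ha', k1, k2, k3⟩ := off W _ _ h2 (by rw [h3]; exact h4.trans hi) (s.ψ w)
      fun k => hn ((s.mem_fx_bar hB hw).1 k b hb)
    obtain ⟨a, ha, rfl⟩ := s.exists_α ha'
    have aU := H98.Sec.cmem (hB ha) hw
    rw [s.dl_ψ (hB ha) hw] at k1 k2 k3
    refine ⟨a, ha, fun k => k1 ((s.ker _ aU).2 k), tg G K F U z _ W s hm aU k3, fun w' hw' => ?_⟩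
    have aU' := H98.Sec.cmem (hB ha) hw'
    have := k2 (s.ψ w')
    rw [s.dl_ψ (hB ha) hw'] at this
    refine this.imp (s.ker _ aU').1 fun e => (s.ker _ (mul_mem aU' aU)).1 ?_
    rw [s.mul _ aU' _ aU, e, h2.two]
  · intro G _ _ K F U B N z hm hq hN zN h hi h5
    obtain ⟨W, _, _, s, hB, h2, h3, h4⟩ := setup br hm hq hN zN h
    obtain ⟨a', ha', w', k⟩ := f2 W _ _ h2 (by rw [h3]; exact h4.trans hi) (by rw [h3]; exact h5)
    obtain ⟨a, ha, rfl⟩ := s.exists_α ha'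
    obtain ⟨w, hw, rfl⟩ := s.surj w'
    have aU := H98.Sec.cmem (hB ha) hw
    rw [s.dl_ψ (hB ha) hw] at k
    refine ⟨a, ha, w, hw, fun e => ?_, tg G K F U z _ W s hm aU k⟩
    obtain ⟨x, -, -, hx, -⟩ := k
    exact hx (by rw [(s.ker _ aU).2 e, smul_zero])

end H43.U2G1
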