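/- Tower WU, job NW: characters without the Weil property. -/
import Cfsg.Agent.H53.WUKit
import Cfsg.Agent.H22.Weights

set_option autoImplicit false

namespace H43.WUNW

open Cfsg H28 H59 Module H53.WU H53.WU.HS

section lin

variable {F V : Type*} [Field F] [AddCommGroup V] [Module F V] {σ : F →+* F}
  {B : V →ₛₗ[σ] V →ₗ[F] F} {e f : V}

/-- The map induced on `e^⊥ / ⟨e⟩`. -/
def ind (H : IsHyp B e f) (x : V ≃ₗ[F] V) : Module.End F (hypPerp B e f) :=
  H.proj ∘ₗ (x : V →ₗ[F] V) ∘ₗ (hypPerp B e f).subtype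

theorem ind_apply (H : IsHyp B e f) (x : V ≃ₗ[F] V) (w : hypPerp B e f) :
    ind H x w = H.proj (x w) := rfl

theorem cu_conj (H : IsHyp B e f) {x : V ≃ₗ[F] V} (hx : x ∈ isom B) {s : F} (hs : x e = s • e)
    {u : V ≃ₗ[F] V} (hu : u ∈ unipRad B e) : H.cu (x * u * x⁻¹) = σ s • ind H x (H.cu u) := by
  have h1 : B e (x.symm f) = σ s := by
    rw [← hx, hs, LinearEquiv.apply_symm_apply, form_smul_left, H.ef, mul_one]
  change -H.proj (x (u (x.symm f))) = _
  rw [H.apply_eq hu, h1]
  simp only [map_add, map_sub, map_smul, LinearEquiv.apply_symm_apply, hs, H.proj_e, H.proj_f,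
    ind_apply, smul_zero]
  abel

/-- The centraliser of `c (τ ⊕ t)`. -/
theorem cent [FiniteDimensional F V] (H : IsHyp B e f) {g x : V ≃ₗ[F] V} {c δ : F} (hc : c ≠ 0)
    (hδ : δ ≠ 0) {t : Module.End F (hypPerp B e f)} (ht : ∀ w, (t - 1) w = 0 → w = 0)
    (ge : g e = c • e) (gf : g f = c • (f + δ • e)) (gw : ∀ w : hypPerp B e f, g w = c • (t w : V))
    (hx : x ∈ isom B) (hxg : ∀ v, x (g v) = g (x v)) :
    ∃ s, x e = s • e ∧ ind H x * t = t * ind H x ∧
      (σ s • ind H x = 1 → σ s * s = 1 ∧ ∀ y, B e y = 0 → x y = s • y) := by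
  have key : ∀ y, g y = c • (y + (B e y * δ) • e + ((t - 1) (H.proj y) : V)) := fun y => by
    have h := H.decomp y
    have : g y = B f y • g e + B e y • g f + g (H.proj y) := by
      conv_lhs => rw [h]
      simp only [map_add, map_smul]
    rw [this, ge, gf, gw]
    simp only [LinearMap.sub_apply, Module.End.one_apply, Submodule.coe_sub]
    linear_combination (norm := module) (-c) • h
  have key2 : ∀ (y : V) (a : F), g y = c • (y + a • e) → H.proj y = 0 ∧ B e y * δ = a := by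
    intro y a h
    rw [key, smul_right_inj hc, add_assoc, add_right_inj] at h
    have h1 := congrArg H.proj h
    simp only [map_add, map_smul, H.proj_e, H.proj_coe, smul_zero, zero_add] at h1
    rw [h1, Submodule.coe_zero, add_zero] at h
    exact ⟨ht _ h1, smul_left_injective F H.e_ne h⟩
  obtain ⟨h1, h2⟩ := key2 (x e) 0 (by rw [← hxg, ge, map_smul, zero_smul, add_zero])
  have h3 : x e = B f (x e) • e := by
    have := H.decomp (x e)
    rwa [h1, (mul_eq_zero.1 h2).resolve_right hδ, zero_smul, Submodule.coe_zero, add_zero,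
      add_zero] at this
  generalize B f (x e) = s at h3
  obtain ⟨h4, h5⟩ := key2 (x f) (δ * s) (by
    rw [← hxg, gf, map_smul, map_add, map_smul, h3, smul_smul])
  have h6 : B e (x f) = s := mul_right_cancel₀ hδ (h5.trans (mul_comm _ _))
  have h7 : σ s * s = 1 := by
    have := hx e f
    rwa [h3, form_smul_left, h6, H.ef] at this
  have h8 : ∀ w : hypPerp B e f, B e (x w) = 0 := fun w => by
    have := hx e w
    rw [h3, form_smul_left, IsHyp.ew] at this
    exact (mul_eq_zero.1 this).resolve_left (left_ne_zero_of_mul_eq_one h7)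
  refine ⟨s, h3, LinearMap.ext fun w => ?_, fun h => ⟨h7, fun y hy => ?_⟩⟩
  · have h9 := congrArg H.proj (hxg w)
    rw [gw, key] at h9
    simp only [map_smul, map_add, H.proj_e, H.proj_coe, smul_zero, add_zero, LinearMap.sub_apply,
      Module.End.one_apply, add_sub_cancel, smul_right_inj hc] at h9
    exact h9
  · have h9 : ∀ w : hypPerp B e f, x w = s • (w : V) := fun w => by
      have h10 := hx f w
      rw [H.decomp (x f), h4, h6, IsHyp.fw] at h10
      simp only [map_add, LinearMap.add_apply, form_smul_left, h8, Submodule.coe_zero,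
        mul_zero, zero_add, add_zero] at h10
      have h11 := (mul_eq_zero.1 h10).resolve_left (left_ne_zero_of_mul_eq_one h7)
      have h12 : σ s • H.proj (x w) = w := LinearMap.congr_fun h w
      have h13 : H.proj (x w) = s • w := by
        conv_rhs => rw [← h12, smul_smul, mul_comm, h7, one_smul]
      rw [H.decomp (x w), h11, h8, h13]
      simp
    have h10 := H.decomp y
    rw [hy, zero_smul, add_zero] at h10
    have h11 := congrArg x h10
    rw [map_add, map_smul, h3, h9] at h11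
    linear_combination (norm := module) h11 - s • h10

end lin

variable {S : HS} {e f : S.V}

theorem exists_lift (hS : S.Good) (H : IsHyp S.B e f) (k : isom (hypForm S.B e f)) :
    ∃ (l : S.G) (c : S.F), frob S.hF c * c = 1 ∧ l.1 e = c • e ∧ l.1 f = c • f ∧
      ∀ w : hypPerp S.B e f, l.1 w = c • (k.1 w : S.V) := by
  have hW := S.h.disjoint_span_hyp H.ee (f := f) (by simp [H.ef])
  obtain ⟨c, hc⟩ := exists_sc hS.2.2 (S.h.extPerp hW k)
  have hfix := (S.h.mem_range_extPerp hW _).1 ⟨k, rfl⟩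
  refine ⟨⟨_, hc⟩, c.1, (mem_normOne' S.hF).1 c.2, ?_, ?_, fun w => ?_⟩
  · exact congrArg (c.1.1 • ·) (hfix e (Submodule.subset_span (by simp)))
  · exact congrArg (c.1.1 • ·) (hfix f (Submodule.subset_span (by simp)))
  · exact congrArg (c.1.1 • ·) (sumHom_apply_right (S.h.isCompl_perp hW) (1, k.1) w)

variable {M : Type} [AddCommGroup M] [Module ℂ M] [FiniteDimensional ℂ M]
  (ρ : Representation ℂ S.G M)

/-- An eigenvector of `Q` with a nontrivial character of `Q / Z`. -/
theorem exists_eigvec (H : IsHyp S.B e f) {m : M} (hm : ∀ t ∈ S.Zs e, ρ t m = m) {u₀ : S.G}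
    (hu₀ : u₀ ∈ S.Qs e) (hne : ρ u₀ m ≠ m) :
    ∃ (v : M) (lam : hypPerp S.B e f → ℂ), v ≠ 0 ∧ (∀ u ∈ S.Qs e, ρ u v = lam (H.cu u.1) • v) ∧
      (∀ a b, lam (a + b) = lam a * lam b) ∧ lam 0 = 1 ∧ ∃ a, lam a ≠ 1 := by
  have hZ : ∀ a ∈ S.Qs e, ∀ b ∈ S.Qs e, H.cu a.1 = H.cu b.1 → ∀ v ∈ fx ρ (S.Zs e),
      ρ a v = ρ b v := by
    intro a ha b hb h v hv
    have h1 : b⁻¹ * a ∈ S.Qs e := mul_mem (inv_mem hb) ha
    have h2 := H.cu_mul (g := b.1) (g' := (b⁻¹ * a).1) hb h1
    rw [← Subgroup.coe_mul, mul_inv_cancel_left, h, left_eq_add] at h2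
    conv_rhs => rw [← mem_fx.1 hv _ ((H.mem_axisGrp_iff h1).2 h2), ← Module.End.mul_apply,
      ← map_mul, mul_inv_cancel_left]
  let ρ' : Representation ℂ (S.Qs e) (fx ρ (S.Zs e)) :=
    Representation.subrepresentation (ρ.comp (S.Qs e).subtype) _ fun u v hv => mem_fx.2 fun t ht => by
      change ρ t (ρ u.1 v) = ρ u.1 v
      rw [← Module.End.mul_apply, ← map_mul, ← comm_Zs (Qs_le_Rs e u.2) ht, map_mul,
        Module.End.mul_apply, mem_fx.1 hv t ht]
  have hc : ∀ a b, Commute (ρ' a) (ρ' b) := fun a b => by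
    rw [Commute, SemiconjBy, ← map_mul, ← map_mul]
    ext v
    refine hZ _ (a * b).2 _ (b * a).2 ?_ v v.2
    exact (H.cu_mul a.2 b.2).trans ((add_comm _ _).trans (H.cu_mul b.2 a.2).symm)
  obtain ⟨χ, v, hv, hv'⟩ : ∃ χ, ∃ v ∈ H22.wt ρ' χ, ρ' ⟨u₀, hu₀⟩ v ≠ v := by
    by_contra! h
    have := H22.ext_of_wt ρ' hc (fun a => ⟨orderOf a, by exact_mod_cast (orderOf_pos a).ne', by
      rw [← map_pow, pow_orderOf_eq_one, map_one]⟩) (ρ' ⟨u₀, hu₀⟩) LinearMap.id h
    exact hne (congrArg Subtype.val (LinearMap.congr_fun this ⟨m, mem_fx.2 hm⟩))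
  have hv0 : (v : M) ≠ 0 := fun h => hv' (by rw [show v = 0 from Subtype.ext h, map_zero])
  choose E hE hE' using H.exists_cu
  have h1 : ∀ u ∈ S.Qs e, ρ u v = χ ⟨E (H.cu u.1), hE _⟩ • (v : M) := fun u hu => by
    rw [hZ u hu _ (hE _) (hE' _).symm v v.2]
    exact congrArg Subtype.val (hv ⟨_, hE _⟩)
  refine ⟨v, fun a => χ ⟨E a, hE a⟩, hv0, h1, fun a b => ?_, ?_, H.cu u₀.1, fun h => hv' ?_⟩
  · refine smul_left_injective ℂ hv0 ?_
    have h2 := h1 (E a * E b) (mul_mem (hE a) (hE b))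
    rw [map_mul, Module.End.mul_apply, h1 _ (hE b), map_smul, h1 _ (hE a), smul_smul,
      Subgroup.coe_mul] at h2
    simp only [H.cu_mul (hE a) (hE b), hE'] at h2
    rw [mul_comm]
    exact h2.symm
  · refine smul_left_injective ℂ hv0 ?_
    have h2 := h1 1 (one_mem _)
    have h3 : H.cu (1 : S.G).1 = 0 := H.cu_eq (a := 0) (by simp)
    simp only [h3, map_one, Module.End.one_apply] at h2
    simpa using h2.symm
  · refine Subtype.ext ((h1 u₀ hu₀).trans ?_)
    rw [show χ _ = 1 from h, one_smul]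

omit [FiniteDimensional ℂ M] in
theorem mem_wt (H : IsHyp S.B e f) {v : M} {lam : hypPerp S.B e f → ℂ}
    (hv : ∀ u ∈ S.Qs e, ρ u v = lam (H.cu u.1) • v) {x : S.G} {s : S.F} (hs : x.1 e = s • e) :
    ρ x⁻¹ v ∈ H22.wt (fun u : S.Qs e => ρ u.1)
      fun u => lam ((frob S.hF s • ind H x.1) (H.cu u.1.1)) := fun u => by
  have hs0 : s ≠ 0 := by
    rintro rfl
    exact H.e_ne (by simpa using hs)
  have h1 := hv _ (conj_Qs_of_Ps ⟨Units.mk0 s hs0, hs⟩ u.2)
  have h2 : H.cu (x * u.1 * x⁻¹).1 = _ := cu_conj H x.2.1 hs u.2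
  rw [h2] at h1
  rw [← Module.End.mul_apply, ← map_mul, show u.1 * x⁻¹ = x⁻¹ * (x * u.1 * x⁻¹) by group, map_mul,
    Module.End.mul_apply, h1, map_smul]
  rfl

/-- The part of the module moved by the transvection group. -/
theorem step (hn : 3 ≤ S.n) (H : IsHyp S.B e f) (hnt : ∃ t ∈ S.Zs e, ρ t ≠ 1) :
    (S.q - 1) * S.q ^ finrank S.F (hypPerp S.B e f) + finrank ℂ (fx ρ (S.Zs e)) ≤ finrank ℂ M := by
  obtain ⟨χ, -, hpos, h1, ρ', -, h0⟩ := H.exists_heis (S.h.charConst hn ρ) hnt
  choose E hE hE' using H.exists_cu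
  have h2 := card_le_finrank_sq ρ' hpos (fun u => ⟨E u, hE u⟩) fun i j hij => h0 _ fun h' => by
    have h3 := H.cu_mul (hE i) (Subgroup.mul_mem _ (Subgroup.inv_mem _ (hE i)) (hE j))
    rw [mul_inv_cancel_left, hE', hE'] at h3
    change H.cu ((E i).1⁻¹ * (E j).1) = 0 at h'
    rw [h', add_zero] at h3
    exact hij h3.symm
  rw [S.card_V, mul_comm, pow_mul] at h2
  rw [h1, S.card_tz, add_comm]
  exact Nat.add_le_add (Submodule.finrank_mono fun v hv => mem_eigSub_one.2 fun c =>
    mem_fx.1 hv _ (H.herm.tvHom_mem H.ee c))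
    (Nat.mul_le_mul_left _ ((Nat.pow_le_pow_iff_left two_ne_zero).1 h2))

theorem jobNW (irr : JobIrr) : JobNW := by
  classical
  intro S hS χ hχ hW
  have hne1 : χ ≠ fun _ => 1 := by
    rintro rfl
    refine hW fun e _ => ?_
    have : ∀ K : Subgroup S.G, av K (fun _ => (1 : ℂ)) = 1 := fun K => by
      have := Fintype.ofFinite K
      rw [av, finsum_eq_sum_of_fintype, Finset.sum_const, Finset.card_univ, nsmul_eq_mul, mul_one,
        ← Nat.card_eq_fintype_card, inv_mul_cancel₀ (card_ne_zero' K)]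
    rw [this, this]
  obtain ⟨N, ρ, -, rfl⟩ := id hχ
  rw [W_iff] at hW
  simp only [WW, not_forall] at hW
  obtain ⟨e, he, m, hm, u₀, hu₀, hne⟩ := hW
  obtain ⟨f, H⟩ := he.exists_hyp
  obtain ⟨v, lam, hv0, hv, hadd, h0, a₀, ha₀⟩ := exists_eigvec ρ H hm hu₀ hne
  have hn : finrank S.F (hypPerp S.B e f) + 2 = S.n := S.h.finrank_hypPerp H.ee H.ef
  obtain ⟨t, ht, hK⟩ : ∃ t : isom (hypForm S.B e f),
      orderOf t = S.q ^ finrank S.F (hypPerp S.B e f) + 1 ∧
      ∀ x : Module.End S.F (hypPerp S.B e f),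
        x * (t.1 : Module.End S.F (hypPerp S.B e f)) =
          (t.1 : Module.End S.F (hypPerp S.B e f)) * x → x = 0 ∨ IsUnit x :=
    irr (S.sub (hypPerp S.B e f)
      (S.h.disjoint_perp_perp (S.h.disjoint_span_hyp H.ee (f := f) (by simp [H.ef])))) (by
        have := hS.1
        rw [← hn, Nat.odd_add] at this
        exact this.2 even_two)
  obtain ⟨E, hE, hE'⟩ : ∃ E : hypPerp S.B e f → S.G, (∀ a, E a ∈ S.Qs e) ∧ ∀ a, H.cu (E a).1 = a := by
    choose E hE hE' using H.exists_cu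
    exact ⟨E, hE, hE'⟩
  have free : ∀ k k' : Module.End S.F (hypPerp S.B e f), Commute k (t.1 : Module.End S.F (hypPerp S.B e f)) →
      Commute k' (t.1 : Module.End S.F (hypPerp S.B e f)) →
      ((fun u : S.Qs e => lam (k (H.cu u.1.1))) = fun u => lam (k' (H.cu u.1.1))) → k = k' := by
    intro k k' hk hk' h
    refine sub_eq_zero.1 ((hK _ (hk.sub_left hk')).resolve_right fun hu => ha₀ ?_)
    obtain ⟨w, hw⟩ := ((Module.End.isUnit_iff _).1 hu).2 a₀
    have h1 := congrFun h ⟨E w, hE w⟩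
    simp only [hE'] at h1
    rw [LinearMap.sub_apply, sub_eq_iff_eq_add] at hw
    have h2 := hadd (k' w) (-k' w)
    rw [add_neg_cancel, h0] at h2
    rw [hw, hadd] at h1
    exact mul_right_cancel₀ (left_ne_zero_of_mul_eq_one h2.symm) (h1.trans (one_mul _).symm)
  have hq := S.two_le_q
  have hZ : ∀ z ∈ S.Zs e, H.cu z.1 = 0 := fun z hz => (H.mem_axisGrp_iff (Zs_le_Qs he hz)).1 hz
  constructor
  · obtain ⟨δ, hδ0, hδ⟩ := exists_trace_zero_ne_zero S.h.ne_id S.h.invol
    obtain ⟨τ, hτ, hτ'⟩ := S.h.exists_transv H.ee hδ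
    obtain ⟨l, c, hc, le, lf, lw⟩ := exists_lift hS H t
    let g : S.G := l * ⟨τ, axisGrp_le_sisom H.ee hτ⟩
    have hg : ∀ y, g.1 y = l.1 (τ y) := fun _ => rfl
    have ht1 : ∀ w, ((t.1 : Module.End S.F (hypPerp S.B e f)) - 1) w = 0 → w = 0 := by
      rcases hK _ ((Commute.refl _).sub_left (Commute.one_left _)) with h | h
      · have h1 : t = 1 := Subtype.ext (LinearEquiv.ext fun w =>
          sub_eq_zero.1 (LinearMap.congr_fun h w))
        rw [h1, orderOf_one] at ht
        have := pow_pos (show 0 < S.q by omega) (finrank S.F (hypPerp S.B e f))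
        omega
      · exact fun w hw => ((Module.End.isUnit_iff _).1 h).1 (hw.trans (map_zero _).symm)
    refine ⟨g, ?_⟩
    set C := Subgroup.centralizer ({g} : Set S.G)
    have := Fintype.ofFinite C
    let L : S.Qs e → ℂ := fun u => lam ((1 : Module.End S.F (hypPerp S.B e f)) (H.cu u.1.1))
    let P : Submodule ℂ (Fin N → ℂ) := ⨆ (μ) (_ : μ ≠ L), H22.wt (fun u : S.Qs e => ρ u.1) μ
    have hx : ∀ x : C, ρ x.1 v ∈ P ∨ ρ x.1 v = v := fun x => by
      obtain ⟨s, h1, h2, h3⟩ := cent H (g := g.1) (x := (x⁻¹).1.1) (c := c) (δ := δ)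
        (right_ne_zero_of_mul_eq_one hc) hδ0 ht1 (by simp [hg, hτ', H.ee, le])
        (by simp [hg, hτ', H.ef, le, lf, smul_smul, mul_comm])
        (fun w => by simp [hg, hτ', IsHyp.ew, lw]) (x⁻¹).1.2.1 fun y =>
          LinearEquiv.congr_fun (congrArg Subtype.val
            (Subgroup.mem_centralizer_singleton_iff.1 (x⁻¹).2)) y
      have h4 := mem_wt ρ H hv h1
      rw [Subgroup.coe_inv, inv_inv] at h4
      by_cases h5 : frob S.hF s • ind H (x⁻¹).1.1 = 1
      · obtain ⟨h6, h7⟩ := h3 h5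
        let s' : S.μ := ⟨Units.mk0 s (right_ne_zero_of_mul_eq_one h6), (mem_normOne' S.hF).2 h6⟩
        have h8 : scalarEquiv S.V s'.1 * x.1.1 ∈ axisGrp S.B e := by
          rw [← inv_mem_iff]
          refine S.h.mem_axisGrp_of_fix_perp he.1 he.2 (inv_mem (mul_mem (sc_mem s') x.1.2.1))
            fun y hy => ?_
          rw [LinearEquiv.coe_inv, LinearEquiv.symm_apply_eq, LinearEquiv.mul_apply,
            scalarEquiv_apply, ← map_smul, eq_comm, ← LinearEquiv.eq_symm_apply]
          exact (h7 y hy).symm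
        have h9 : s' = 1 := sc_eq_one hS.2.2
          ((Subgroup.mul_mem_cancel_right _ x.1.2).1 (axisGrp_le_sisom H.ee h8))
        rw [h9, OneMemClass.coe_one, map_one, one_mul] at h8
        right
        rw [hv _ (Zs_le_Qs he h8), hZ _ h8, h0, one_smul]
      · exact .inl (Submodule.mem_iSup_of_mem _ (Submodule.mem_iSup_of_mem
          (fun h => h5 (free _ _ (Commute.smul_left h2 _) (Commute.one_left _) h)) h4))
    have hvP : v ∉ P := fun h => hv0 (Submodule.disjoint_def.1
      (H22.iSupIndep_wt (fun u : S.Qs e => ρ u.1) L) v (fun u => hv u.1 u.2) h)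
    rw [av_rep, Nat.cast_ne_zero, ← Nat.pos_iff_ne_zero, finrank_pos_iff_exists_ne_zero]
    refine ⟨⟨∑ x : C, ρ x.1 v, mem_fx.2 fun y hy => ?_⟩, fun h => ?_⟩
    · rw [map_sum]
      simp only [← Module.End.mul_apply, ← map_mul]
      exact Equiv.sum_comp (Equiv.mulLeft (⟨y, hy⟩ : C)) fun x => ρ x.1 v
    · have h1 := congrArg P.mkQ (congrArg Subtype.val h)
      have h2 : ∑ x : C, P.mkQ (ρ x.1 v) =
          ∑ x ∈ Finset.univ.filter (fun x : C => ρ x.1 v = v), P.mkQ v := by
        rw [Finset.sum_filter]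
        refine Finset.sum_congr rfl fun x _ => ?_
        split_ifs with h
        · rw [h]
        · exact (Submodule.Quotient.mk_eq_zero _).2 ((hx x).resolve_right h)
      rw [map_sum, h2, Finset.sum_const, ← Nat.cast_smul_eq_nsmul ℂ, Submodule.coe_zero, map_zero,
        smul_eq_zero, Nat.cast_eq_zero, Finset.card_eq_zero] at h1
      rcases h1 with h1 | h1
      · exact Finset.ne_empty_of_mem (a := 1) (by simp) h1
      · exact hvP ((Submodule.Quotient.mk_eq_zero _).1 h1)
  · intro d hd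
    obtain ⟨z, hz, hz'⟩ := nontriv hS hχ hne1 he
    have h1 := step ρ hS.2.1 H ⟨z, hz, fun h => hz' (by simp [Representation.character, h])⟩
    have h2 : finrank ℂ (Fin N → ℂ) = d := by
      rw [Representation.char_one] at hd
      exact_mod_cast hd
    choose l c hc le lf lw using exists_lift hS H
    have h3 : ∀ k, frob S.hF (c k) • ind H (l k).1 = (k.1 : Module.End S.F (hypPerp S.B e f)) := fun k =>
      LinearMap.ext fun w => by
        rw [LinearMap.smul_apply, ind_apply, lw, map_smul, H.proj_coe, smul_smul, hc, one_smul]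
        rfl
    have h4 := fun k => mem_wt ρ H hv (le k)
    simp only [h3] at h4
    have h5 : ∀ k : Subgroup.zpowers t,
        Commute (k.1.1 : Module.End S.F (hypPerp S.B e f)) (t.1 : Module.End S.F (hypPerp S.B e f)) := by
      rintro ⟨_, i, rfl⟩
      exact LinearMap.ext fun w => LinearEquiv.congr_fun
        (congrArg Subtype.val ((Commute.refl t).zpow_left i).eq) w
    have h6 := H22.linearIndependent_of_wt (ι := Subgroup.zpowers t) _ _
      (fun k k' h => Subtype.ext (Subtype.ext (LinearEquiv.toLinearMap_injective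
        (free _ _ (h5 k) (h5 k') h)))) _ (fun k => h4 k.1) fun k h => hv0 (by
          have := congrArg (ρ (l k.1)) h
          rwa [← Module.End.mul_apply, ← map_mul, mul_inv_cancel, map_one, map_zero] at this)
    have h7 : ∀ k, ρ (l k)⁻¹ v ∈ fx ρ (S.Zs e) := fun k => mem_fx.2 fun z hz => by
      have := h4 k ⟨z, Zs_le_Qs he hz⟩
      simp only [hZ z hz, map_zero, h0, one_smul] at this
      exact this
    have : Finite (hypPerp S.B e f ≃ₗ[S.F] hypPerp S.B e f) := finite_linearEquiv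
    have := Fintype.ofFinite (Subgroup.zpowers t)
    have h9 : LinearIndependent ℂ fun k : Subgroup.zpowers t =>
        (⟨ρ (l k.1)⁻¹ v, h7 k.1⟩ : fx ρ (S.Zs e)) :=
      LinearIndependent.of_comp (fx ρ (S.Zs e)).subtype h6
    have h8 := h9.fintype_card_le_finrank
    rw [← Nat.card_eq_fintype_card, Nat.card_zpowers, ht] at h8
    rw [show S.n - 1 = finrank S.F (hypPerp S.B e f) + 1 by omega, pow_succ']
    rw [h2, Nat.sub_mul, one_mul] at h1
    have := Nat.le_mul_of_pos_left (S.q ^ finrank S.F (hypPerp S.B e f)) (show 0 < S.q by omega)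
    omega

end H43.WUNW
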